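import Mathlib
import Cfsg.Prelude.Def_Transfer
import Cfsg.Agent.H29.EigenProjections
import Cfsg.Agent.H30.Extraspecial

set_option autoImplicit false

/-!
Hall–Higman: an automorphism of prime order `r` of an extraspecial `q`-group, fixed-point-free
modulo the centre, with no fixed point in a faithful module in coprime characteristic.
-/

namespace Cfsg.Agent.H29

open Module Subgroup

/-- Number of orbits of a permutation of prime order with exactly one fixed point. -/
theorem card_orbits_of_unique_fixed {T : Type*} [Finite T] (σ : Equiv.Perm T) {r : ℕ}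
    (hr : r.Prime) (hσr : σ ^ r = 1) (hσ : σ ≠ 1) (t₀ : T) (hfix : ∀ t, σ t = t ↔ t = t₀) :
    Nat.card T + r = r * Nat.card (MulAction.orbitRel.Quotient (zpowers σ) T) + 1 := by
  classical
  haveI := Fintype.ofFinite T
  haveI : Fact r.Prime := ⟨hr⟩
  have hord : orderOf σ = r := orderOf_eq_prime hσr hσ
  have hcard : Fintype.card (zpowers σ) = r := by
    rw [← Nat.card_eq_fintype_card, Nat.card_zpowers, hord]
  have hburn := MulAction.sum_card_fixedBy_eq_card_orbits_mul_card_group (zpowers σ) T
  have h1 : Fintype.card (MulAction.fixedBy T (1 : zpowers σ)) = Nat.card T := by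
    rw [← Nat.card_eq_fintype_card]
    exact Nat.card_congr (Equiv.subtypeUnivEquiv (fun t => one_smul _ t))
  have h2 : ∀ g : zpowers σ, g ≠ 1 → Fintype.card (MulAction.fixedBy T g) = 1 := by
    intro g hg
    rw [Fintype.card_eq_one_iff]
    have hgen : zpowers (g : Equiv.Perm T) = zpowers σ := by
      apply Subgroup.eq_of_le_of_card_ge ((zpowers_le).mpr g.2)
      rw [Nat.card_zpowers, Nat.card_zpowers, hord]
      rw [orderOf_eq_prime (p := r) ?_ (fun h => hg (Subtype.ext h))]
      obtain ⟨k, hk⟩ := Subgroup.mem_zpowers_iff.mp g.2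
      rw [← hk, ← zpow_natCast, ← zpow_mul, mul_comm, zpow_mul, zpow_natCast, hσr, one_zpow]
    have key : ∀ t, (g : Equiv.Perm T) t = t → σ t = t := by
      intro t ht
      have hσg : σ ∈ zpowers (g : Equiv.Perm T) := by rw [hgen]; exact mem_zpowers σ
      obtain ⟨k, hk⟩ := Subgroup.mem_zpowers_iff.mp hσg
      rw [← hk]
      exact Equiv.Perm.zpow_apply_eq_self_of_apply_eq_self ht k
    have h0 : (g : Equiv.Perm T) t₀ = t₀ := by
      obtain ⟨k, hk⟩ := Subgroup.mem_zpowers_iff.mp g.2
      rw [← hk]
      exact Equiv.Perm.zpow_apply_eq_self_of_apply_eq_self ((hfix t₀).mpr rfl) k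
    exact ⟨⟨t₀, h0⟩, fun t => Subtype.ext ((hfix _).mp (key _ t.2))⟩
  rw [← Finset.add_sum_erase _ _ (Finset.mem_univ (1 : zpowers σ)), h1,
    Finset.sum_congr rfl (fun g hg => h2 g (Finset.ne_of_mem_erase hg)), Finset.sum_const,
    Finset.card_erase_of_mem (Finset.mem_univ _), Finset.card_univ, hcard, smul_eq_mul,
    mul_one] at hburn
  have hr1 := hr.one_lt
  have hΩ : Nat.card (MulAction.orbitRel.Quotient (zpowers σ) T) =
      Fintype.card (Quotient (MulAction.orbitRel (zpowers σ) T)) := Nat.card_eq_fintype_card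
  rw [hΩ]
  rw [mul_comm r]
  omega

/-- The arithmetic at the end of the Hall–Higman argument. -/
theorem hallHigman_arith {q r d o e : ℕ} (hq : q.Prime) (hr : r.Prime) (hqd : d ^ 2 = q ^ (2 * e))
    (he : 1 ≤ e) (ho : d ^ 2 + r = r * o + 1) (hle : d ^ 2 ≤ (r - 1) * o) :
    q = 2 ∧ r = 2 ^ e + 1 ∧ d = 2 ^ e := by
  have hd : d = q ^ e := by
    rw [mul_comm, pow_mul] at hqd
    exact Nat.pow_left_injective (by norm_num) hqd
  have hd2 : 2 ≤ d := by
    rw [hd]
    calc 2 ≤ q := hq.two_le
      _ = q ^ 1 := (pow_one q).symm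
      _ ≤ q ^ e := Nat.pow_le_pow_right hq.pos he
  obtain ⟨r', rfl⟩ : ∃ r', r = r' + 1 := ⟨r - 1, by have := hr.pos; omega⟩
  simp only [Nat.add_sub_cancel] at hle
  have hdr : d ≤ r' := by
    by_contra h
    have h' : (r' + 1) * (r' + 1) ≤ d * d := Nat.mul_le_mul (by omega) (by omega)
    nlinarith
  have hdvd : r' + 1 ∣ (d - 1) * (d + 1) := by
    obtain ⟨c, rfl⟩ : ∃ c, d = c + 1 := ⟨d - 1, by omega⟩
    have h1 : o ≥ 1 := by
      rcases Nat.eq_zero_or_pos o with h | h
      · subst h; nlinarith
      · exact h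
    refine ⟨o - 1, ?_⟩
    obtain ⟨o', rfl⟩ : ∃ o', o = o' + 1 := ⟨o - 1, by omega⟩
    simp only [Nat.add_sub_cancel]
    nlinarith
  rcases hr.dvd_mul.mp hdvd with h | h
  · have := Nat.le_of_dvd (by omega) h; omega
  have := Nat.le_of_dvd (by omega) h
  have hrd : r' = d := by omega
  have hodd : Odd (r' + 1) := hr.odd_of_ne_two (by omega)
  have hdeven : Even d := by
    rw [← hrd]
    rcases hodd with ⟨k, hk⟩
    exact ⟨k, by omega⟩
  have hq2 : q = 2 := by
    rw [hd, Nat.even_pow] at hdeven
    exact (hq.even_iff).mp hdeven.1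
  subst hq2
  exact ⟨rfl, by rw [hrd, hd], hd⟩

theorem hallHigman_extraspecial {Q : Type*} [Group Q] [Finite Q] {q r : ℕ} (hq : q.Prime)
    (hr : r.Prime) (hqr : q ≠ r) (hQ : Cfsg.IsExtraspecial q Q) (θ : Q ≃* Q)
    (hθr : ∀ a, (θ : Q → Q)^[r] a = a) (hθfix : ∀ a, θ a = a ↔ a ∈ center Q)
    {K : Type*} [Field K] [IsAlgClosed K] (hqK : (q : K) ≠ 0) (hrK : (r : K) ≠ 0)
    {W : Type*} [AddCommGroup W] [Module K W] [FiniteDimensional K W]
    (ρ : Q →* Module.End K W) (hρ : Function.Injective ρ) (u : Module.End K W) (hu : u ^ r = 1)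
    (hfix : ∀ v, u v = v → v = 0) (hcomm : ∀ a, u * ρ a = ρ (θ a) * u) :
    q = 2 ∧ ∃ n : ℕ, r = 2 ^ n + 1 ∧ Nat.card Q = 2 ^ (2 * n + 1) := by
  classical
  haveI : Fact q.Prime := ⟨hq⟩
  obtain ⟨e, he, hcardQ⟩ := H30.extraspecial_card hQ
  obtain ⟨⟨-, -, hder⟩, hZ⟩ := hQ
  -- the centre
  haveI hcyc : IsCyclic (center Q) := isCyclic_of_prime_card hZ
  obtain ⟨z₀, hz₀⟩ := IsCyclic.exists_generator (α := center Q)
  set z : Q := (z₀ : Q) with hzdef
  have hzmem : z ∈ center Q := z₀.2
  have hz1 : z ≠ 1 := by
    intro h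
    have : Nat.card (center Q) = 1 := by
      rw [Nat.card_eq_one_iff_unique]
      refine ⟨⟨fun a b => ?_⟩, ⟨1⟩⟩
      obtain ⟨i, rfl⟩ := Subgroup.mem_zpowers_iff.mp (hz₀ a)
      obtain ⟨j, rfl⟩ := Subgroup.mem_zpowers_iff.mp (hz₀ b)
      have h0 : z₀ = 1 := Subtype.ext h
      rw [h0, one_zpow, one_zpow]
    rw [hZ] at this
    exact hq.one_lt.ne' this
  have hzpow : ∀ c ∈ center Q, ∃ k : ℕ, c = z ^ k := by
    intro c hc
    have : (⟨c, hc⟩ : center Q) ∈ Submonoid.powers z₀ := by
      rw [mem_powers_iff_mem_zpowers]; exact hz₀ _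
    obtain ⟨k, hk⟩ := this
    exact ⟨k, (congrArg Subtype.val hk).symm⟩
  have hzq : z ^ q = 1 := by
    have := pow_card_eq_one' (x := z₀)
    rw [hZ] at this
    exact congrArg Subtype.val this
  have hθz : θ z = z := (hθfix z).mpr hzmem
  -- an eigenvalue of `z`
  haveI : NeZero (q : K) := ⟨hqK⟩
  obtain ⟨ζ, hζ⟩ := HasEnoughRootsOfUnity.exists_primitiveRoot K q
  haveI : NeZero (r : K) := ⟨hrK⟩
  obtain ⟨η, hη⟩ := HasEnoughRootsOfUnity.exists_primitiveRoot K r
  have hρzq : ρ z ^ q = 1 := by rw [← map_pow, hzq, map_one]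
  obtain ⟨i, hi0, v₀, hv₀, hv₀e⟩ : ∃ i : Fin q, (i : ℕ) ≠ 0 ∧ ∃ v : W, v ≠ 0 ∧
      ρ z v = ζ ^ (i : ℕ) • v := by
    by_contra hcon
    simp only [not_exists, not_and] at hcon
    apply hz1
    apply hρ
    rw [map_one]
    refine LinearMap.ext fun v => ?_
    have hv : v = eigProj (ρ z) q ζ ⟨0, hq.pos⟩ v := by
      conv_lhs => rw [← Module.End.one_apply (R := K) v, ← sum_eigProj (ρ z) hζ hqK, LinearMap.sum_apply]
      refine Finset.sum_eq_single _ (fun j _ hj => ?_) (fun h => absurd (Finset.mem_univ _) h)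
      by_contra hne
      refine hcon j (fun h => hj (Fin.ext h)) _ hne ?_
      exact congrArg (fun f : Module.End K W => f v) (mul_eigProj (ρ z) hζ hqK hρzq j)
    have := congrArg (fun f : Module.End K W => f v) (mul_eigProj (ρ z) hζ hqK hρzq ⟨0, hq.pos⟩)
    simp only [Module.End.mul_apply, pow_zero, one_smul, ← hv] at this
    rw [this, Module.End.one_apply]
  set ω : K := ζ ^ (i : ℕ) with hωdef
  have hω : IsPrimitiveRoot ω q := by
    refine hζ.pow_of_coprime _ ?_
    exact ((hq.coprime_iff_not_dvd).mpr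
      (fun h => by have := Nat.le_of_dvd (Nat.pos_of_ne_zero hi0) h; have := i.2; omega)).symm
  -- a minimal invariant subspace inside the eigenspace
  let W0 : Submodule K W := Module.End.eigenspace (ρ z) ω
  have hW0 : W0 ≠ ⊥ := by
    rw [Submodule.ne_bot_iff]
    exact ⟨v₀, Module.End.mem_eigenspace_iff.mpr hv₀e, hv₀⟩
  have hW0inv : ∀ a : Q, ∀ v ∈ W0, ρ a v ∈ W0 := by
    intro a v hv
    rw [Module.End.mem_eigenspace_iff] at hv ⊢
    rw [← Module.End.mul_apply, ← map_mul, ← Subgroup.mem_center_iff.mp hzmem a, map_mul,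
      Module.End.mul_apply, hv, map_smul]
  obtain ⟨S, ⟨hS0, hSinv, hSle⟩, hSmin⟩ := wellFounded_lt.has_min
    {U : Submodule K W | U ≠ ⊥ ∧ (∀ a : Q, ∀ v ∈ U, ρ a v ∈ U) ∧ U ≤ W0}
    ⟨W0, hW0, hW0inv, le_rfl⟩
  haveI : Nontrivial S := Submodule.nontrivial_iff_ne_bot.mpr hS0
  let ρS : Q →* Module.End K S :=
    { toFun := fun a => (ρ a).restrict (hSinv a)
      map_one' := by
        refine LinearMap.ext fun v => Subtype.ext ?_
        show ρ 1 (v : W) = _
        rw [map_one]; rfl
      map_mul' := fun a b => by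
        refine LinearMap.ext fun v => Subtype.ext ?_
        show ρ (a * b) (v : W) = _
        rw [map_mul]; rfl }
  have hρScoe : ∀ a (v : S), (ρS a v : W) = ρ a (v : W) := fun _ _ => rfl
  have hirr : ∀ U : Submodule K S, (∀ a, ∀ v ∈ U, ρS a v ∈ U) → U = ⊥ ∨ U = ⊤ := by
    intro U hU
    by_cases h0 : U = ⊥
    · exact Or.inl h0
    right
    by_contra htop
    have hlt : U.map S.subtype < S := by
      refine lt_of_le_of_ne (Submodule.map_subtype_le S U) fun h => htop ?_
      apply Submodule.map_injective_of_injective (f := S.subtype) Subtype.val_injective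
      rw [h, Submodule.map_subtype_top]
    refine hSmin (U.map S.subtype) ⟨?_, ?_, le_trans hlt.le hSle⟩ hlt
    · intro h
      exact h0 (Submodule.map_injective_of_injective (f := S.subtype) Subtype.val_injective
        (by rw [h, Submodule.map_bot]))
    · intro a v hv
      obtain ⟨w, hw, rfl⟩ := Submodule.mem_map.mp hv
      exact Submodule.mem_map.mpr ⟨ρS a w, hU a w hw, rfl⟩
  -- the centre acts by scalars
  have hρSz : ∀ k : ℕ, ρS (z ^ k) = ω ^ k • (1 : Module.End K S) := by
    intro k
    have h1 : ρS z = ω • (1 : Module.End K S) := by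
      refine LinearMap.ext fun v => Subtype.ext ?_
      show ρ z (v : W) = ω • (v : W)
      exact Module.End.mem_eigenspace_iff.mp (hSle v.2)
    rw [map_pow, h1, smul_pow, one_pow]
  have hscal : ∀ c ∈ center Q, ∃ k : K, ρS c = k • (1 : Module.End K S) := by
    intro c hc
    obtain ⟨k, rfl⟩ := hzpow c hc
    exact ⟨_, hρSz k⟩
  have hcenter_inj : ∀ c ∈ center Q, ρS c = 1 → c = 1 := by
    intro c hc h
    obtain ⟨k, rfl⟩ := hzpow c hc
    rw [hρSz] at h
    have hk : ω ^ k = 1 := by
      obtain ⟨v, hv⟩ := exists_ne (0 : S)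
      have := congrArg (fun f : Module.End K S => f v) h
      simp only [LinearMap.smul_apply, Module.End.one_apply] at this
      exact smul_left_injective K hv (this.trans (one_smul K v).symm)
    obtain ⟨j, rfl⟩ := (hω.pow_eq_one_iff_dvd k).mp hk
    rw [pow_mul, hzq, one_pow]
  have hunit : ∀ a, IsUnit (ρS a) := fun a => by
    refine IsUnit.map ρS (Group.isUnit a)
  have hcommcenter : ∀ a b : Q, a * b * a⁻¹ * b⁻¹ ∈ center Q := fun a b => by
    rw [← hder]
    exact Subgroup.commutator_mem_commutator (mem_top a) (mem_top b)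
  -- the coset representatives
  let T := Q ⧸ center Q
  haveI : Fintype T := Fintype.ofFinite T
  let out : T → Q := fun t => Quotient.out t
  have hout : ∀ t : T, QuotientGroup.mk (out t) = t := fun t => Quotient.out_eq t
  let b : T → Module.End K S := fun t => ρS (out t)
  have hdecomp : ∀ a : Q, ∃ k : K, ρS a = k • b (QuotientGroup.mk a) := by
    intro a
    obtain ⟨k, hk⟩ := hscal _ (QuotientGroup.eq.mp (hout (QuotientGroup.mk a)))
    refine ⟨k, ?_⟩
    have : a = out (QuotientGroup.mk a) * ((out (QuotientGroup.mk a))⁻¹ * a) := by group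
    conv_lhs => rw [this]
    rw [map_mul, hk, mul_smul_comm, mul_one]
  -- linear independence
  have hindep : ∀ s : Finset T, ∀ c : T → K, ∑ t ∈ s, c t • b t = 0 → ∀ t ∈ s, c t = 0 := by
    intro s
    induction s using Finset.induction with
    | empty => intro c _ t ht; exact absurd ht (Finset.notMem_empty t)
    | @insert t₁ s ht₁ ih =>
      intro c hc
      choose χ hχ using fun (y : Q) (t : T) => hscal _ (hcommcenter y (out t))
      have hconj : ∀ y t, ρS y * b t = χ y t • (b t * ρS y) := by
        intro y t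
        show ρS y * ρS (out t) = _
        rw [← map_mul, show y * out t = (y * out t * y⁻¹ * (out t)⁻¹) * (out t * y) by group,
          map_mul, hχ, smul_mul_assoc, one_mul, map_mul]
      have hs : ∀ t ∈ s, c t = 0 := by
        intro t ht
        by_contra hct
        have hall : ∀ y, χ y t = χ y t₁ := by
          intro y
          have h1 : ∑ x ∈ insert t₁ s, (χ y x * c x) • b x = 0 := by
            have h2 : (∑ x ∈ insert t₁ s, (χ y x * c x) • b x) * ρS y =
                ρS y * ∑ x ∈ insert t₁ s, c x • b x := by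
              rw [Finset.sum_mul, Finset.mul_sum]
              refine Finset.sum_congr rfl fun x _ => ?_
              rw [mul_smul_comm, hconj, smul_smul, smul_mul_assoc, mul_comm (χ y x)]
            rw [hc, mul_zero] at h2
            exact (hunit y).mul_left_eq_zero.mp h2
          have h3 : ∑ x ∈ insert t₁ s, ((χ y x - χ y t₁) * c x) • b x = 0 := by
            have e0 : ∀ x, ((χ y x - χ y t₁) * c x) • b x =
                (χ y x * c x) • b x - χ y t₁ • (c x • b x) := fun x => by
              rw [smul_smul, sub_mul]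
              exact sub_smul (χ y x * c x) (χ y t₁ * c x) (b x)
            rw [Finset.sum_congr rfl (fun x _ => e0 x), Finset.sum_sub_distrib, h1,
              ← Finset.smul_sum, hc, smul_zero, sub_zero]
          rw [Finset.sum_insert ht₁, sub_self, zero_mul, zero_smul, zero_add] at h3
          rcases mul_eq_zero.mp (ih _ h3 t ht) with h | h
          · exact sub_eq_zero.mp h
          · exact absurd h hct
        apply ht₁
        have heq : ∀ y, y * out t * y⁻¹ * (out t)⁻¹ = y * out t₁ * y⁻¹ * (out t₁)⁻¹ := by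
          intro y
          have h4 : ρS (y * out t * y⁻¹ * (out t)⁻¹) = ρS (y * out t₁ * y⁻¹ * (out t₁)⁻¹) := by
            rw [hχ, hχ, hall]
          have := hcenter_inj _ (mul_mem (inv_mem (hcommcenter y (out t₁))) (hcommcenter y (out t)))
            (by rw [map_mul, h4, ← map_mul, inv_mul_cancel, map_one])
          rw [inv_mul_eq_one] at this
          exact this.symm
        have hmem : (out t)⁻¹ * out t₁ ∈ center Q := by
          rw [Subgroup.mem_center_iff]
          intro y
          set w := y * out t * y⁻¹ * (out t)⁻¹ with hw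
          have e1 : y * out t = w * out t * y := by rw [hw]; group
          have e2 : y * out t₁ = w * out t₁ * y := by rw [hw, heq y]; group
          calc y * ((out t)⁻¹ * out t₁)
              = (out t)⁻¹ * w⁻¹ * (y * out t₁) := by
                have e3 : y * (out t)⁻¹ = (out t)⁻¹ * w⁻¹ * y := by rw [hw]; group
                rw [← mul_assoc, e3, mul_assoc]
            _ = (out t)⁻¹ * out t₁ * y := by rw [e2]; group
        have : t = t₁ := by
          rw [← hout t, ← hout t₁]; exact QuotientGroup.eq.mpr hmem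
        exact this ▸ ht
      intro t ht
      rcases Finset.mem_insert.mp ht with rfl | ht'
      · rw [Finset.sum_insert ht₁, Finset.sum_eq_zero (fun x hx => by rw [hs x hx, zero_smul]),
          add_zero] at hc
        exact (smul_eq_zero.mp hc).resolve_right (hunit (out t)).ne_zero
      · exact hs t ht'
  have hli : LinearIndependent K b := by
    rw [Fintype.linearIndependent_iff]
    exact fun g hg t => hindep Finset.univ g hg t (Finset.mem_univ t)
  -- spanning
  have hsmall : ∀ a, ρS a ∈ Submodule.span K (Set.range b) := fun a => by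
    obtain ⟨k, hk⟩ := hdecomp a
    rw [hk]; exact Submodule.smul_mem _ _ (Submodule.subset_span ⟨_, rfl⟩)
  have hspan : ⊤ ≤ Submodule.span K (Set.range b) := by
    have hA : Algebra.adjoin K (Set.range ρS) = ⊤ := by
      apply subalgebra_eq_top_of_irreducible
      intro U hU
      exact hirr U fun a v hv => hU _ (Algebra.subset_adjoin ⟨a, rfl⟩) v hv
    have hB : Subalgebra.toSubmodule (Algebra.adjoin K (Set.range ρS)) =
        Submodule.span K (Set.range ρS) := by
      rw [Algebra.adjoin_eq_span, ← MonoidHom.coe_mrange, Submonoid.closure_eq]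
    rw [hA, Algebra.top_toSubmodule] at hB
    rw [hB, Submodule.span_le]
    rintro _ ⟨a, rfl⟩
    exact hsmall a
  let B : Basis T K (Module.End K S) := Basis.mk hli hspan
  have hB : ∀ t, B t = b t := fun t => Basis.mk_apply hli hspan t
  have hN : Nat.card T = Module.finrank K S ^ 2 := by
    rw [Nat.card_eq_fintype_card, ← Module.finrank_eq_card_basis B, Module.finrank_linearMap, sq]
  -- the induced permutation
  have hθcenter : (center Q).map θ.toMonoidHom = center Q := by
    ext c
    constructor
    · rintro ⟨d, hd, rfl⟩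
      show θ d ∈ _
      rw [(hθfix d).mpr hd]; exact hd
    · intro hc; exact ⟨c, hc, (hθfix c).mpr hc⟩
  let σ : Equiv.Perm T := (QuotientGroup.congr (center Q) (center Q) θ hθcenter).toEquiv
  have hσmk : ∀ a : Q, σ (QuotientGroup.mk a) = QuotientGroup.mk (θ a) := fun a => rfl
  -- the algebra automorphism
  let L : Module.End K S →ₗ[K] Module.End K S := B.constr K fun t => ρS (θ (out t))
  have hL : ∀ a, L (ρS a) = ρS (θ a) := by
    intro a
    obtain ⟨k, hk⟩ := hscal _ (QuotientGroup.eq.mp (hout (QuotientGroup.mk a)))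
    have ha : a = out (QuotientGroup.mk a) * ((out (QuotientGroup.mk a))⁻¹ * a) := by group
    have hc := (hθfix _).mpr (QuotientGroup.eq.mp (hout (QuotientGroup.mk a)))
    conv_rhs => rw [ha, map_mul θ, hc, map_mul ρS, hk]
    conv_lhs => rw [ha, map_mul, hk]
    rw [mul_smul_comm, mul_smul_comm, mul_one, mul_one, map_smul]
    congr 1
    show L (b (QuotientGroup.mk a)) = _
    rw [← hB, Basis.constr_basis]
  have hLmul : ∀ f g, L (f * g) = L f * L g := by
    intro f g
    have hf : f ∈ Submodule.span K (Set.range b) := hspan trivial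
    have hg : g ∈ Submodule.span K (Set.range b) := hspan trivial
    induction hf using Submodule.span_induction with
    | zero => simp
    | add x y _ _ hx hy => rw [add_mul, map_add, map_add, add_mul, hx, hy]
    | smul k x _ hx => rw [smul_mul_assoc, map_smul, map_smul, smul_mul_assoc, hx]
    | mem x hx =>
      obtain ⟨t, rfl⟩ := hx
      induction hg using Submodule.span_induction with
      | zero => simp
      | add x y _ _ hx hy => rw [mul_add, map_add, map_add, mul_add, hx, hy]
      | smul k x _ hx => rw [mul_smul_comm, map_smul, map_smul, mul_smul_comm, hx]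
      | mem x hx =>
        obtain ⟨t', rfl⟩ := hx
        show L (ρS (out t) * ρS (out t')) = L (ρS _) * L (ρS _)
        rw [← map_mul ρS, hL, hL, hL, map_mul θ, map_mul ρS]
  have hL1 : L 1 = 1 := by
    rw [← map_one ρS, hL, map_one θ]
  let Λ : Module.End K S →ₐ[K] Module.End K S := AlgHom.ofLinearMap L hL1 hLmul
  have hΛsurj : Function.Surjective L := by
    rw [← LinearMap.range_eq_top, eq_top_iff]
    refine hspan.trans (Submodule.span_le.mpr ?_)
    rintro _ ⟨t, rfl⟩
    refine ⟨ρS (θ.symm (out t)), ?_⟩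
    rw [hL, MulEquiv.apply_symm_apply]
  have hΛbij : Function.Bijective Λ :=
    ⟨(LinearMap.injective_iff_surjective (f := L)).mpr hΛsurj, hΛsurj⟩
  obtain ⟨s, hs⟩ := LinearEquiv.conjAlgEquiv_surjective K S S (AlgEquiv.ofBijective Λ hΛbij)
  have hsL : ∀ f v, s (f v) = L f (s v) := by
    intro f v
    have h1 := congrArg (fun e : Module.End K S ≃ₐ[K] Module.End K S => e f (s v)) hs
    simp only [LinearEquiv.conjAlgEquiv_apply, LinearMap.coe_comp, LinearEquiv.coe_coe,
      Function.comp_apply, LinearEquiv.symm_apply_apply] at h1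
    exact h1
  -- correct the scalar
  let U : Submodule K (S →ₗ[K] W) :=
    { carrier := {φ | ∀ a v, ρ a (φ v) = φ (ρS a v)}
      add_mem' := fun {φ ψ} hφ hψ a v => by
        simp only [LinearMap.add_apply, map_add, hφ a v, hψ a v]
      zero_mem' := fun a v => by simp
      smul_mem' := fun k φ hφ a v => by
        simp only [LinearMap.smul_apply, map_smul, hφ a v] }
  let Tφ : U →ₗ[K] U :=
    { toFun := fun φ => ⟨u ∘ₗ (φ : S →ₗ[K] W) ∘ₗ s.symm.toLinearMap, by
        intro a v
        obtain ⟨a', rfl⟩ := θ.surjective a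
        show ρ (θ a') (u ((φ : S →ₗ[K] W) (s.symm v))) = u ((φ : S →ₗ[K] W) (s.symm (ρS (θ a') v)))
        rw [← Module.End.mul_apply, ← hcomm, Module.End.mul_apply, φ.2 a']
        congr 2
        apply s.injective
        rw [hsL, LinearEquiv.apply_symm_apply, LinearEquiv.apply_symm_apply, hL]⟩
      map_add' := fun φ ψ => by
        apply Subtype.ext
        refine LinearMap.ext fun v => ?_
        simp
      map_smul' := fun k φ => by
        apply Subtype.ext
        refine LinearMap.ext fun v => ?_
        simp }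
  haveI : Nontrivial U := by
    refine Submodule.nontrivial_iff_ne_bot.mpr ?_
    rw [Submodule.ne_bot_iff]
    refine ⟨S.subtype, fun a v => rfl, fun h => ?_⟩
    obtain ⟨v, hv⟩ := exists_ne (0 : S)
    exact hv (Subtype.ext (congrArg (fun f : S →ₗ[K] W => f v) h))
  obtain ⟨lam, hlam⟩ := Module.End.exists_eigenvalue Tφ
  obtain ⟨φ, hφmem, hφ0⟩ := hlam.exists_hasEigenvector
  have hφinj : Function.Injective (φ : S →ₗ[K] W) := by
    rw [← LinearMap.ker_eq_bot]
    refine (hirr _ fun a v hv => ?_).resolve_right fun h => hφ0 (Subtype.ext ?_)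
    · rw [LinearMap.mem_ker] at hv ⊢
      rw [← φ.2 a v, hv, map_zero]
    · exact LinearMap.ker_eq_top.mp h
  let u' : Module.End K S := lam • s.toLinearMap
  have hu' : ∀ v, u ((φ : S →ₗ[K] W) v) = (φ : S →ₗ[K] W) (u' v) := by
    intro v
    have h1 := congrArg (fun ψ : U => (ψ : S →ₗ[K] W) (s v))
      (Module.End.mem_eigenspace_iff.mp hφmem)
    simpa [Tφ, u'] using h1
  have hu'pow : ∀ k : ℕ, ∀ v, (u ^ k) ((φ : S →ₗ[K] W) v) = (φ : S →ₗ[K] W) ((u' ^ k) v) := by
    intro k
    induction k with
    | zero => intro v; rfl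
    | succ k ih =>
      intro v
      rw [pow_succ', pow_succ', Module.End.mul_apply, Module.End.mul_apply, ih, hu']
  have hu'r : u' ^ r = 1 := by
    refine LinearMap.ext fun v => hφinj ?_
    rw [← hu'pow, hu]; rfl
  have hu'fix : ∀ v, u' v = v → v = 0 := by
    intro v hv
    apply hφinj
    rw [map_zero]
    exact hfix _ (by rw [hu', hv])
  have hle := sq_finrank_le_centralizer u' hη hrK hu'r hu'fix
  -- the orbit bound for the centraliser
  have hcen : ∀ f ∈ Subalgebra.centralizer K ({u'} : Set (Module.End K S)), L f = f := by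
    intro f hf
    have hlam0 : lam ≠ 0 := by
      intro h
      obtain ⟨v, hv⟩ := exists_ne (0 : S)
      apply hv
      have hz : u' = 0 := by simp [u', h]
      have := congrArg (fun g : Module.End K S => g v) hu'r
      simp only [hz, zero_pow hr.ne_zero, LinearMap.zero_apply, Module.End.one_apply] at this
      exact this.symm
    refine LinearMap.ext fun v => ?_
    obtain ⟨w, rfl⟩ := s.surjective v
    rw [← hsL]
    have h1 := congrArg (fun g : Module.End K S => g w)
      ((Subalgebra.mem_centralizer_iff K).mp hf u' (Set.mem_singleton _))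
    simp only [Module.End.mul_apply, u', LinearMap.smul_apply, LinearEquiv.coe_coe, map_smul] at h1
    exact smul_right_injective S hlam0 h1
  let C : Submodule K (Module.End K S) :=
    Subalgebra.toSubmodule (Subalgebra.centralizer K ({u'} : Set (Module.End K S)))
  let Ω := MulAction.orbitRel.Quotient (zpowers σ) T
  haveI : Fintype Ω := Fintype.ofFinite Ω
  let Ψ : C →ₗ[K] (Ω → K) :=
    { toFun := fun f o => B.repr (f : Module.End K S) (Quotient.out o)
      map_add' := fun f g => by funext o; simp
      map_smul' := fun k f => by funext o; simp }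
  have hΨ : Function.Injective Ψ := by
    suffices H : ∀ f, Ψ f = 0 → f = 0 by
      intro f g hfg
      refine sub_eq_zero.mp (H (f - g) ?_)
      funext o
      have h := congrFun hfg o
      simp only [Ψ, LinearMap.coe_mk, AddHom.coe_mk] at h ⊢
      simp [h]
    intro f hf
    have hrel : ∀ t, B.repr (f : Module.End K S) t = 0 ↔ B.repr (f : Module.End K S) (σ t) = 0 := by
      intro t
      obtain ⟨k, hk, hk0⟩ : ∃ k : K, L (B t) = k • B (σ t) ∧ k ≠ 0 := by
        obtain ⟨k, hk⟩ := hdecomp (θ (out t))
        have hσt : QuotientGroup.mk (θ (out t)) = σ t := by rw [← hσmk, hout]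
        rw [hσt] at hk
        refine ⟨k, by rw [hB, hB, hL]; exact hk, fun h => ?_⟩
        rw [h, zero_smul] at hk
        exact (hunit _).ne_zero hk
      have h1 : ∀ g : Module.End K S, B.repr (L g) (σ t) = k * B.repr g t := by
        intro g
        have : B.coord (σ t) ∘ₗ L = k • B.coord t := by
          refine B.ext fun t' => ?_
          obtain ⟨k', hk'⟩ := hdecomp (θ (out t'))
          have hσt : QuotientGroup.mk (θ (out t')) = σ t' := by rw [← hσmk, hout]
          simp only [LinearMap.comp_apply, LinearMap.smul_apply, Basis.coord_apply]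
          by_cases h : t' = t
          · subst h; rw [hk]; simp
          · rw [hB t', hL, hk', hσt, ← hB, ← hB t']
            simp [Finsupp.single_eq_of_ne, h, (σ.injective.ne h)]
        exact congrArg (fun l : Module.End K S →ₗ[K] K => l g) this
      have h2 := h1 (f : Module.End K S)
      rw [hcen _ f.2] at h2
      rw [h2, mul_eq_zero]
      exact ⟨Or.inr, fun h => h.resolve_left hk0⟩
    apply Subtype.ext
    show (f : Module.End K S) = 0
    apply B.repr.injective
    rw [map_zero]
    ext t
    have hrep : B.repr (f : Module.End K S) (Quotient.out (Quotient.mk'' t : Ω)) = 0 :=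
      congrFun hf _
    obtain ⟨g, hg⟩ := MulAction.orbitRel_apply.mp
      (Quotient.exact' (Quotient.out_eq' (Quotient.mk'' t : Ω)))
    obtain ⟨j, hj⟩ := Subgroup.mem_zpowers_iff.mp g.2
    have key : ∀ j : ℤ, ∀ t, B.repr (f : Module.End K S) t = 0 ↔
        B.repr (f : Module.End K S) ((σ ^ j) t) = 0 := by
      intro j
      induction j using Int.induction_on with
      | zero => intro t; simp
      | succ n ih => intro t; rw [add_comm, zpow_add, zpow_one, Equiv.Perm.mul_apply, ih t, hrel]
      | pred n ih =>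
        intro t
        rw [sub_eq_neg_add, zpow_add, zpow_neg_one, Equiv.Perm.mul_apply, ih t,
          hrel (σ⁻¹ _), ← Equiv.Perm.mul_apply σ σ⁻¹, mul_inv_cancel, Equiv.Perm.one_apply]
    rw [Finsupp.zero_apply]
    rw [key j t, hj]
    rw [show (g : Equiv.Perm T) t = g • t from rfl, show g • t = _ from hg]
    exact hrep
  have hCle : Module.finrank K C ≤ Nat.card Ω := by
    refine (LinearMap.finrank_le_finrank_of_injective hΨ).trans ?_
    rw [Module.finrank_fintype_fun_eq_card, Nat.card_eq_fintype_card]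
  -- orbit count
  have hσit : ∀ k : ℕ, ∀ a : Q, (σ ^ k) (QuotientGroup.mk a) = QuotientGroup.mk ((θ : Q → Q)^[k] a) := by
    intro k
    induction k with
    | zero => intro a; rfl
    | succ k ih =>
      intro a
      rw [pow_succ', Equiv.Perm.mul_apply, ih, hσmk, Function.iterate_succ_apply']
  have hσr : σ ^ r = 1 := by
    ext t
    rw [← hout t, hσit, hθr]
    rfl
  have hσfix : ∀ t, σ t = t ↔ t = (1 : T) := by
    intro t
    constructor
    · intro h
      rw [← hout t, hσmk] at h
      have hc : (θ (out t))⁻¹ * out t ∈ center Q := QuotientGroup.eq.mp h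
      rw [← hout t]
      refine (QuotientGroup.eq_one_iff _).mpr ((hθfix _).mp ?_)
      obtain ⟨k, hk⟩ := hzpow _ ((center Q).inv_mem hc)
      rw [mul_inv_rev, inv_inv] at hk
      have hθ1 : θ (out t) = out t * z ^ k := by rw [← hk]; group
      have hit : ∀ j : ℕ, (θ : Q → Q)^[j] (out t) = out t * z ^ (k * j) := by
        intro j
        induction j with
        | zero => simp
        | succ j ih =>
          rw [Function.iterate_succ_apply', ih, map_mul, hθ1, map_pow, hθz, mul_assoc, ← pow_add,
            mul_add, mul_one, add_comm]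
      have h1 : z ^ (k * r) = 1 := by
        have := hit r
        rw [hθr] at this
        exact (mul_eq_left (a := out t)).mp this.symm
      have hzo : orderOf z = q := orderOf_eq_prime hzq hz1
      have h2 : q ∣ k * r := hzo ▸ orderOf_dvd_of_pow_eq_one h1
      have h3 : q ∣ k := (hq.dvd_mul.mp h2).resolve_right
        fun h => hqr ((Nat.prime_dvd_prime_iff_eq hq hr).mp h)
      obtain ⟨j, rfl⟩ := h3
      rw [hθ1, pow_mul, hzq, one_pow, mul_one]
    · rintro rfl
      show σ (QuotientGroup.mk 1) = _
      rw [hσmk, map_one]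
      rfl
  have hcardT : Nat.card T * q = Nat.card Q := by
    rw [← hZ]; exact (Subgroup.card_eq_card_quotient_mul_card_subgroup (center Q)).symm
  have hTpow : Nat.card T = q ^ (2 * e) := by
    have : Nat.card T * q = q ^ (2 * e) * q := by rw [hcardT, hcardQ]; ring
    exact Nat.eq_of_mul_eq_mul_right hq.pos this
  have hσ1 : σ ≠ 1 := by
    intro h
    have h1 : ∀ t : T, t = 1 := fun t => (hσfix t).mp (by rw [h]; rfl)
    have : Nat.card T = 1 := Nat.card_eq_one_iff_unique.mpr
      ⟨⟨fun a b => (h1 a).trans (h1 b).symm⟩, ⟨1⟩⟩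
    rw [hTpow, Nat.pow_eq_one] at this
    rcases this with h' | h'
    · exact hq.ne_one h'
    · omega
  have hcount := card_orbits_of_unique_fixed σ hr hσr hσ1 1 hσfix
  rw [hN] at hcount
  have hfinal : Module.finrank K S ^ 2 ≤ (r - 1) * Nat.card Ω :=
    hle.trans (Nat.mul_le_mul_left _ hCle)
  obtain ⟨h2, h3, -⟩ := hallHigman_arith hq hr (hN.symm.trans hTpow) he hcount hfinal
  refine ⟨h2, e, h3, ?_⟩
  rw [hcardQ, h2, add_comm]

end Cfsg.Agent.H29
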