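import Mathlib

set_option autoImplicit false

/-!
An automorphism `φ` of order dividing `p` of a group of order prime to `p`: the subgroups
`[h, φ]`, `[L, φ]` and the subgroup generated by their fixed points.
-/

namespace Cfsg.Agent.H29

open Subgroup

variable {H : Type*} [Group H]

/-- `[h, ⟨φ⟩]`. -/
def dgen (φ : MulAut H) (h : H) : Subgroup H :=
  closure {c : H | ∃ i : ℕ, c = h⁻¹ * (φ ^ i) h}

/-- `[L, ⟨φ⟩]`. -/
def cgen (φ : MulAut H) (L : Subgroup H) : Subgroup H :=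
  closure {c : H | ∃ h ∈ L, ∃ i : ℕ, c = h⁻¹ * (φ ^ i) h}

/-- The fixed points. -/
def fixG (φ : MulAut H) : Subgroup H := (φ : H →* H).eqLocus (MonoidHom.id H)

/-- The subgroup generated by all `C_{[h,φ]}(φ)`. -/
def fixGen (φ : MulAut H) : Subgroup H := ⨆ h : H, dgen φ h ⊓ fixG φ

/-- Invariance. -/
def IsInv (φ : MulAut H) (L : Subgroup H) : Prop := ∀ x ∈ L, φ x ∈ L

theorem mem_fixG {φ : MulAut H} {x : H} : x ∈ fixG φ ↔ φ x = x := Iff.rfl

theorem pow_apply_fixed {φ : MulAut H} {x : H} (hx : φ x = x) (i : ℕ) : (φ ^ i) x = x := by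
  induction i with
  | zero => simp
  | succ i ih => rw [pow_succ, MulAut.mul_apply, hx, ih]

theorem fixGen_le_fixG (φ : MulAut H) : fixGen φ ≤ fixG φ := iSup_le fun _ => inf_le_right

theorem IsInv.pow_mem {φ : MulAut H} {L : Subgroup H} (hL : IsInv φ L) (i : ℕ) :
    ∀ x ∈ L, (φ ^ i) x ∈ L := by
  induction i with
  | zero => intro x hx; simpa using hx
  | succ i ih => intro x hx; rw [pow_succ, MulAut.mul_apply]; exact ih _ (hL x hx)

theorem isInv_top (φ : MulAut H) : IsInv φ ⊤ := fun _ _ => mem_top _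

theorem IsInv.sup {φ : MulAut H} {L M : Subgroup H} (hL : IsInv φ L) (hM : IsInv φ M) :
    IsInv φ (L ⊔ M) := by
  have h : L ⊔ M ≤ (L ⊔ M).comap φ.toMonoidHom :=
    sup_le (fun x hx => mem_comap.mpr (mem_sup_left (hL x hx)))
      (fun x hx => mem_comap.mpr (mem_sup_right (hM x hx)))
  exact fun x hx => h hx

theorem IsInv.inf {φ : MulAut H} {L M : Subgroup H} (hL : IsInv φ L) (hM : IsInv φ M) :
    IsInv φ (L ⊓ M) := fun x hx => ⟨hL x hx.1, hM x hx.2⟩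

theorem isInv_of_characteristic (φ : MulAut H) {L : Subgroup H} [hL : L.Characteristic] :
    IsInv φ L := fun _ hx => characteristic_iff_le_comap.mp hL φ hx

theorem isInv_dgen (φ : MulAut H) (h : H) : IsInv φ (dgen φ h) := by
  intro x hx
  suffices H : dgen φ h ≤ (dgen φ h).comap φ.toMonoidHom from H hx
  refine (closure_le _).mpr ?_
  rintro _ ⟨i, rfl⟩
  show φ (h⁻¹ * (φ ^ i) h) ∈ dgen φ h
  have e : φ (h⁻¹ * (φ ^ i) h) = (h⁻¹ * (φ ^ 1) h)⁻¹ * (h⁻¹ * (φ ^ (i + 1)) h) := by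
    rw [map_mul, map_inv, pow_one, pow_succ', MulAut.mul_apply]
    group
  rw [e]
  exact mul_mem (inv_mem (subset_closure ⟨1, rfl⟩)) (subset_closure ⟨i + 1, rfl⟩)

theorem isInv_cgen (φ : MulAut H) (L : Subgroup H) : IsInv φ (cgen φ L) := by
  intro x hx
  suffices H : cgen φ L ≤ (cgen φ L).comap φ.toMonoidHom from H hx
  refine (closure_le _).mpr ?_
  rintro _ ⟨h, hh, i, rfl⟩
  show φ (h⁻¹ * (φ ^ i) h) ∈ cgen φ L
  have h1 : dgen φ h ≤ cgen φ L := closure_mono fun c ⟨j, hj⟩ => ⟨h, hh, j, hj⟩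
  exact h1 (isInv_dgen φ h _ (subset_closure ⟨i, rfl⟩))

theorem dgen_le_cgen (φ : MulAut H) {L : Subgroup H} {h : H} (hh : h ∈ L) :
    dgen φ h ≤ cgen φ L := closure_mono fun _ ⟨j, hj⟩ => ⟨h, hh, j, hj⟩

theorem cgen_le (φ : MulAut H) {L : Subgroup H} (hL : IsInv φ L) : cgen φ L ≤ L :=
  (closure_le _).mpr fun _ ⟨h, hh, i, hi⟩ => hi ▸ mul_mem (inv_mem hh) (hL.pow_mem i h hh)

theorem cgen_mono (φ : MulAut H) {L M : Subgroup H} (h : L ≤ M) : cgen φ L ≤ cgen φ M :=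
  closure_mono fun _ ⟨x, hx, i, hi⟩ => ⟨x, h hx, i, hi⟩

theorem cgen_top_eq (φ : MulAut H) :
    cgen φ ⊤ = closure {c : H | ∃ h : H, ∃ i : ℕ, c = h⁻¹ * (φ ^ i) h} := by
  unfold cgen
  congr 1
  ext c
  simp

theorem cgen_conj_mem (φ : MulAut H) {L : Subgroup H} {k x : H} (hk : k ∈ L)
    (hx : x ∈ cgen φ L) : k⁻¹ * x * k ∈ cgen φ L := by
  induction hx using closure_induction with
  | mem c hc =>
    obtain ⟨h, hh, i, rfl⟩ := hc
    have e : k⁻¹ * (h⁻¹ * (φ ^ i) h) * k =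
        ((h * k)⁻¹ * (φ ^ i) (h * k)) * (k⁻¹ * (φ ^ i) k)⁻¹ := by
      rw [map_mul]; group
    rw [e]
    exact mul_mem (subset_closure ⟨_, mul_mem hh hk, i, rfl⟩)
      (inv_mem (subset_closure ⟨k, hk, i, rfl⟩))
  | one => simp
  | mul a b _ _ iha ihb =>
    rw [show k⁻¹ * (a * b) * k = (k⁻¹ * a * k) * (k⁻¹ * b * k) by group]
    exact mul_mem iha ihb
  | inv a _ iha =>
    rw [show k⁻¹ * a⁻¹ * k = (k⁻¹ * a * k)⁻¹ by group]
    exact inv_mem iha

theorem cgen_conj_mem' (φ : MulAut H) {L : Subgroup H} {k x : H} (hk : k ∈ L)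
    (hx : x ∈ cgen φ L) : k * x * k⁻¹ ∈ cgen φ L := by
  simpa using cgen_conj_mem φ (inv_mem hk) hx

theorem cgen_top_normal (φ : MulAut H) : (cgen φ ⊤).Normal :=
  ⟨fun _ hx k => cgen_conj_mem' φ (mem_top k) hx⟩

/-- A fixed element normalises `[L, φ]` whenever it normalises `L`. -/
theorem cgen_conj_mem_of_fixed (φ : MulAut H) {L : Subgroup H} {k x : H} (hk : φ k = k)
    (hkL : ∀ h ∈ L, k⁻¹ * h * k ∈ L) (hx : x ∈ cgen φ L) : k⁻¹ * x * k ∈ cgen φ L := by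
  induction hx using closure_induction with
  | mem c hc =>
    obtain ⟨h, hh, i, rfl⟩ := hc
    refine subset_closure ⟨k⁻¹ * h * k, hkL h hh, i, ?_⟩
    rw [map_mul, map_mul, map_inv, pow_apply_fixed hk]
    group
  | one => simp
  | mul a b _ _ iha ihb =>
    rw [show k⁻¹ * (a * b) * k = (k⁻¹ * a * k) * (k⁻¹ * b * k) by group]
    exact mul_mem iha ihb
  | inv a _ iha =>
    rw [show k⁻¹ * a⁻¹ * k = (k⁻¹ * a * k)⁻¹ by group]
    exact inv_mem iha

/-- A fixed point in an invariant coset. -/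
theorem exists_fixed_lift [Finite H] {φ : MulAut H} {p : ℕ} [Fact p.Prime] (hφ : φ ^ p = 1)
    (hcop : ¬ p ∣ Nat.card H) {L N : Subgroup H} (hL : IsInv φ L) (hN : IsInv φ N) {g : H}
    (hg : g ∈ L) (hgN : g⁻¹ * φ g ∈ N) : ∃ c ∈ L, φ c = c ∧ g⁻¹ * c ∈ N := by
  classical
  let S : Set H := {c | c ∈ L ∧ g⁻¹ * c ∈ N}
  have hSφ : ∀ c ∈ S, φ c ∈ S := by
    rintro c ⟨h1, h2⟩
    refine ⟨hL c h1, ?_⟩
    rw [show g⁻¹ * φ c = (g⁻¹ * φ g) * φ (g⁻¹ * c) by rw [map_mul, map_inv]; group]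
    exact mul_mem hgN (hN _ h2)
  let e : Equiv.Perm S := Equiv.ofBijective (fun c => ⟨φ c, hSφ c c.2⟩)
    (Finite.injective_iff_bijective.mp fun a b hab =>
      Subtype.ext (φ.injective (congrArg Subtype.val hab)))
  have he : ∀ (k : ℕ) (c : S), ((e ^ k) c : H) = (φ ^ k) (c : H) := by
    intro k
    induction k with
    | zero => simp
    | succ k ih => intro c; rw [pow_succ, pow_succ, MulAut.mul_apply, Equiv.Perm.mul_apply, ih]; rfl
  have hep : e ^ p = 1 := by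
    ext c
    rw [he, hφ]; rfl
  have hΓ : IsPGroup p (zpowers e) := by
    intro x
    refine ⟨1, ?_⟩
    obtain ⟨k, hk⟩ := mem_zpowers_iff.mp x.2
    apply Subtype.ext
    rw [pow_one, Subgroup.coe_pow, ← hk, ← zpow_natCast, ← zpow_mul, mul_comm, zpow_mul,
      zpow_natCast, hep, one_zpow]
    rfl
  have hcard : Nat.card S = Nat.card ↥(L ⊓ N) := by
    refine Nat.card_congr ⟨fun c => ⟨g⁻¹ * c, L.mul_mem (L.inv_mem hg) c.2.1, c.2.2⟩,
      fun m => ⟨g * m, mul_mem hg m.2.1, by simpa using m.2.2⟩, fun c => ?_, fun m => ?_⟩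
    · exact Subtype.ext (by simp)
    · exact Subtype.ext (by simp)
  obtain ⟨c, hc⟩ := hΓ.nonempty_fixed_point_of_prime_not_dvd_card S
    (fun hd => hcop (hd.trans (hcard ▸ card_subgroup_dvd_card _)))
  exact ⟨c, c.2.1, congrArg Subtype.val (hc ⟨e, mem_zpowers e⟩), c.2.2⟩

/-- `L = [L, φ] C_L(φ)`. -/
theorem exists_cgen_mul_fixed [Finite H] {φ : MulAut H} {p : ℕ} [Fact p.Prime] (hφ : φ ^ p = 1)
    (hcop : ¬ p ∣ Nat.card H) {L : Subgroup H} (hL : IsInv φ L) {x : H} (hx : x ∈ L) :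
    ∃ d ∈ cgen φ L, ∃ c ∈ L, φ c = c ∧ x = d * c := by
  obtain ⟨c, hcL, hc, hxc⟩ := exists_fixed_lift hφ hcop hL (isInv_cgen φ L) hx
    (subset_closure ⟨x, hx, 1, by rw [pow_one]⟩)
  refine ⟨x * c⁻¹, ?_, c, hcL, hc, by group⟩
  rw [show x * c⁻¹ = x * (x⁻¹ * c)⁻¹ * x⁻¹ by group]
  exact cgen_conj_mem' φ hx (inv_mem hxc)

/-- An invariant Sylow subgroup. -/
theorem exists_invariant_sylow [Finite H] {φ : MulAut H} {p : ℕ} [Fact p.Prime] (hφ : φ ^ p = 1)
    (hcop : ¬ p ∣ Nat.card H) (q : ℕ) [Fact q.Prime] :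
    ∃ Q : Sylow q H, IsInv φ (Q : Subgroup H) := by
  have hΓ : IsPGroup p (zpowers φ) := by
    intro g
    refine ⟨1, ?_⟩
    obtain ⟨k, hk⟩ := mem_zpowers_iff.mp g.2
    apply Subtype.ext
    rw [pow_one, Subgroup.coe_pow, ← hk, ← zpow_natCast, ← zpow_mul, mul_comm, zpow_mul,
      zpow_natCast, hφ, one_zpow]
    rfl
  have hnd : ¬ p ∣ Nat.card (Sylow q H) := fun hd => by
    refine hcop (hd.trans ?_)
    obtain ⟨P⟩ : Nonempty (Sylow q H) := inferInstance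
    exact P.card_dvd_index.trans (Subgroup.index_dvd_card _)
  obtain ⟨P, hP⟩ := hΓ.nonempty_fixed_point_of_prime_not_dvd_card (Sylow q H) hnd
  refine ⟨P, fun x hx => ?_⟩
  have h1 : ((⟨φ, mem_zpowers φ⟩ : zpowers φ) • P : Sylow q H) = P := hP _
  rw [← h1]
  exact mem_map.mpr ⟨x, hx, rfl⟩

/-- The orbit product. -/
def pr (φ : MulAut H) (n : ℕ) (x : H) : H := ((List.range n).map fun i => (φ ^ i) x).prod

theorem pr_succ (φ : MulAut H) (n : ℕ) (x : H) : pr φ (n + 1) x = pr φ n x * (φ ^ n) x := by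
  simp [pr, List.range_succ]

theorem pr_mem {φ : MulAut H} {L : Subgroup H} (hL : IsInv φ L) (n : ℕ) {x : H} (hx : x ∈ L) :
    pr φ n x ∈ L := by
  induction n with
  | zero => simp [pr]
  | succ n ih => rw [pr_succ]; exact mul_mem ih (hL.pow_mem n x hx)

theorem pr_mul {φ : MulAut H} {E : Subgroup H} (hE : IsInv φ E) (hc : IsMulCommutative E) (n : ℕ)
    {x y : H} (hx : x ∈ E) (hy : y ∈ E) : pr φ n (x * y) = pr φ n x * pr φ n y := by
  induction n with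
  | zero => simp [pr]
  | succ n ih =>
    have hcomm : pr φ n y * (φ ^ n) x = (φ ^ n) x * pr φ n y :=
      congrArg Subtype.val (hc.is_comm.comm ⟨_, pr_mem hE n hy⟩ ⟨_, hE.pow_mem n x hx⟩)
    simp only [pr_succ, ih, map_mul]
    rw [mul_assoc (pr φ n x), ← mul_assoc (pr φ n y), hcomm]
    group

theorem pr_one (φ : MulAut H) (n : ℕ) : pr φ n 1 = 1 := by simp [pr]

theorem pr_inv {φ : MulAut H} {E : Subgroup H} (hE : IsInv φ E) (hc : IsMulCommutative E) (n : ℕ)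
    {x : H} (hx : x ∈ E) : pr φ n x⁻¹ = (pr φ n x)⁻¹ :=
  eq_inv_of_mul_eq_one_left (by rw [← pr_mul hE hc n (inv_mem hx) hx, inv_mul_cancel, pr_one])

theorem pr_of_fixed {φ : MulAut H} {x : H} (hx : φ x = x) (n : ℕ) : pr φ n x = x ^ n := by
  simp [pr, pow_apply_fixed hx]

theorem apply_pr {φ : MulAut H} (n : ℕ) (x : H) : φ (pr φ n x) = x⁻¹ * pr φ (n + 1) x := by
  induction n with
  | zero => simp [pr]
  | succ n ih =>
    conv_lhs => rw [pr_succ, map_mul, ih, ← MulAut.mul_apply, ← pow_succ']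
    rw [mul_assoc, pr_succ φ (n + 1)]

theorem pr_fixed {φ : MulAut H} {p : ℕ} (hφ : φ ^ p = 1) {E : Subgroup H} (hE : IsInv φ E)
    (hc : IsMulCommutative E) {x : H} (hx : x ∈ E) : φ (pr φ p x) = pr φ p x := by
  rw [apply_pr, pr_succ, hφ, MulAut.one_apply]
  have := congrArg Subtype.val (hc.is_comm.comm ⟨_, pr_mem hE p hx⟩ ⟨x, hx⟩)
  simp only [Subgroup.coe_mul] at this
  rw [this]
  group

theorem pr_pow_apply {φ : MulAut H} {p : ℕ} (hφ : φ ^ p = 1) {E : Subgroup H} (hE : IsInv φ E)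
    (hc : IsMulCommutative E) {x : H} (hx : x ∈ E) (i : ℕ) :
    pr φ p ((φ ^ i) x) = pr φ p x := by
  induction i with
  | zero => simp
  | succ i ih =>
    have h : pr φ p ((φ ^ (i + 1)) x) = φ (pr φ p ((φ ^ i) x)) := by
      unfold pr
      rw [map_list_prod, List.map_map]
      refine congrArg List.prod (List.map_congr_left fun j _ => ?_)
      show (φ ^ j) ((φ ^ (i + 1)) x) = φ ((φ ^ j) ((φ ^ i) x))
      rw [← MulAut.mul_apply, ← MulAut.mul_apply, ← MulAut.mul_apply]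
      rw [← pow_succ', ← pow_add, ← pow_add, show j + (i + 1) = j + 1 + i by omega]
    rw [h, ih, pr_fixed hφ hE hc hx]

theorem eq_one_of_pow_prime_eq_one [Finite H] {p : ℕ} (hp : p.Prime) (hcop : ¬ p ∣ Nat.card H)
    {x : H} (hx : x ^ p = 1) : x = 1 :=
  orderOf_eq_one_iff.mp (Nat.eq_one_of_dvd_coprimes ((hp.coprime_iff_not_dvd).mpr hcop)
    (orderOf_dvd_of_pow_eq_one hx) (orderOf_dvd_natCard x))

/-- In an invariant abelian subgroup `[L, φ]` has no fixed points. -/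
theorem cgen_inf_fixG_of_comm [Finite H] {φ : MulAut H} {p : ℕ} [Fact p.Prime] (hφ : φ ^ p = 1)
    (hcop : ¬ p ∣ Nat.card H) {L : Subgroup H} (hL : IsInv φ L) (hc : IsMulCommutative L) :
    cgen φ L ⊓ fixG φ = ⊥ := by
  rw [eq_bot_iff]
  rintro x ⟨hx, hxf⟩
  have h1 : pr φ p x = 1 := by
    clear hxf
    suffices H : x ∈ L ∧ pr φ p x = 1 from H.2
    induction hx using closure_induction with
    | mem c hc' =>
      obtain ⟨h, hh, i, rfl⟩ := hc'
      refine ⟨mul_mem (inv_mem hh) (hL.pow_mem i h hh), ?_⟩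
      rw [pr_mul hL hc p (inv_mem hh) (hL.pow_mem i h hh), pr_inv hL hc p hh,
        pr_pow_apply hφ hL hc hh, inv_mul_cancel]
    | one => exact ⟨one_mem _, pr_one φ p⟩
    | mul a b _ _ iha ihb =>
      exact ⟨mul_mem iha.1 ihb.1, by rw [pr_mul hL hc p iha.1 ihb.1, iha.2, ihb.2, one_mul]⟩
    | inv a _ iha => exact ⟨inv_mem iha.1, by rw [pr_inv hL hc p iha.1, iha.2, inv_one]⟩
  rw [pr_of_fixed hxf] at h1
  exact mem_bot.mpr (eq_one_of_pow_prime_eq_one Fact.out hcop h1)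

end Cfsg.Agent.H29
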