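import Mathlib

set_option autoImplicit false

/-!
Invariant complements for groups of automorphisms of coprime order of finite abelian `p`-groups.
-/

namespace Cfsg.Agent.H29

variable {A : Type*} [CommGroup A] [Finite A]

/-- Averaging: an invariant subgroup with a complement has an invariant complement. -/
theorem exists_invariant_complement (X : Subgroup (MulAut A)) (M B E C : Subgroup A)
    (hcop : (Nat.card X).Coprime (Nat.card B))
    (hM : ∀ x ∈ X, ∀ a ∈ M, x a ∈ M) (hB : ∀ x ∈ X, ∀ a ∈ B, x a ∈ B) (hE : ∀ x ∈ X, ∀ a ∈ E, x a ∈ E)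
    (hEC : E ≤ C) (hCM : C ≤ M) (hBM : B ≤ M) (hint : C ⊓ B = ⊥) (hsup : C ⊔ B = M) :
    ∃ C' : Subgroup A, (∀ x ∈ X, ∀ a ∈ C', x a ∈ C') ∧ E ≤ C' ∧ C' ≤ M ∧ C' ⊓ B = ⊥ ∧ C' ⊔ B = M := by
  classical
  haveI : Fintype X := Fintype.ofFinite _
  have hex : ∀ m : M, ∃ b : B, (m : A) * (b : A)⁻¹ ∈ C := by
    intro m
    have hm : (m : A) ∈ C ⊔ B := hsup ▸ m.2
    obtain ⟨c, hc, b, hb, hcb⟩ := Subgroup.mem_sup.mp hm
    exact ⟨⟨b, hb⟩, by rw [← hcb]; simpa using hc⟩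
  choose φ hφ using hex
  have huniq : ∀ (m : M) (b : B), (m : A) * (b : A)⁻¹ ∈ C → φ m = b := by
    intro m b hb
    have h1 : (φ m : A) * (b : A)⁻¹ ∈ C := by
      have h := mul_mem (inv_mem (hφ m)) hb
      have h' : ((m : A) * (φ m : A)⁻¹)⁻¹ * ((m : A) * (b : A)⁻¹) = (φ m : A) * (b : A)⁻¹ := by group
      rwa [h'] at h
    have h2 : (φ m : A) * (b : A)⁻¹ ∈ C ⊓ B := ⟨h1, (mul_mem (φ m).2 (inv_mem b.2) : _ ∈ B)⟩
    rw [hint, Subgroup.mem_bot, mul_inv_eq_one] at h2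
    exact Subtype.ext h2
  let Φ : M →* B :=
    { toFun := φ
      map_one' := huniq 1 1 (by simp)
      map_mul' := fun a b => huniq _ _ (by
        simpa [mul_comm, mul_left_comm, mul_assoc] using mul_mem (hφ a) (hφ b)) }
  -- the averaged projection
  let ψ : M →* A :=
    { toFun := fun m => ∏ x : X, (x : MulAut A) (Φ ⟨(x : MulAut A).symm m, hM _ (inv_mem x.2) m m.2⟩ : A)
      map_one' := by
        refine Finset.prod_eq_one fun x _ => ?_
        have : (⟨(x : MulAut A).symm ((1 : M) : A), hM _ (inv_mem x.2) _ (1 : M).2⟩ : M) = 1 := Subtype.ext (map_one _)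
        rw [this, map_one, Subgroup.coe_one, map_one]
      map_mul' := fun a b => by
        rw [← Finset.prod_mul_distrib]
        refine Finset.prod_congr rfl fun x _ => ?_
        rw [← map_mul, ← Subgroup.coe_mul, ← map_mul]
        congr 3
        exact Subtype.ext (map_mul _ _ _) }
  have hψB : ∀ m : M, ψ m ∈ B := fun m => B.prod_mem fun x _ => hB _ x.2 _ (Φ _).2
  have hψfix : ∀ m : M, (m : A) ∈ B → ψ m = (m : A) ^ Nat.card X := by
    intro m hm
    have : ∀ x : X, (x : MulAut A) (Φ ⟨(x : MulAut A).symm m, hM _ (inv_mem x.2) m m.2⟩ : A) = m := by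
      intro x
      rw [show Φ ⟨(x : MulAut A).symm m, hM _ (inv_mem x.2) m m.2⟩ = ⟨(x : MulAut A).symm m, hB _ (inv_mem x.2) m hm⟩
        from huniq _ _ (by simp)]
      simp
    show (∏ x : X, _) = _
    rw [Finset.prod_congr rfl (fun x _ => this x), Finset.prod_const, Finset.card_univ, Nat.card_eq_fintype_card]
  refine ⟨ψ.ker.map M.subtype, ?_, ?_, Subgroup.map_subtype_le _, ?_, ?_⟩
  · rintro y hy _ ⟨m, hm, rfl⟩
    refine ⟨⟨y (m : A), hM y hy m m.2⟩, ?_, rfl⟩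
    rw [SetLike.mem_coe, MonoidHom.mem_ker] at hm ⊢
    have hh : ψ ⟨y (m : A), hM y hy m m.2⟩ = y (ψ m) := by
      show (∏ x : X, _) = y (∏ x : X, _)
      rw [map_prod]
      refine Fintype.prod_equiv (Equiv.mulLeft (⟨y, hy⟩ : X)⁻¹) _ _ fun x => ?_
      simp only [Equiv.coe_mulLeft, Subgroup.coe_mul, InvMemClass.coe_inv, MulAut.mul_apply, MulAut.apply_inv_self]
      congr 3
    rw [hh, hm, map_one]
  · intro a ha
    have haM : a ∈ M := hCM (hEC ha)
    refine ⟨⟨a, haM⟩, ?_, rfl⟩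
    rw [SetLike.mem_coe, MonoidHom.mem_ker]
    refine Finset.prod_eq_one fun x _ => ?_
    rw [show Φ ⟨(x : MulAut A).symm ((⟨a, haM⟩ : M) : A), hM _ (inv_mem x.2) _ (⟨a, haM⟩ : M).2⟩ = 1 from huniq _ _ (by
      simpa using hEC (hE _ (inv_mem x.2) a ha))]
    exact map_one _
  · rw [eq_bot_iff]
    rintro _ ⟨⟨m, hm, rfl⟩, hmB⟩
    have h1 : ((⟨m, hmB⟩ : B)) ^ Nat.card X = 1 :=
      Subtype.ext ((hψfix m hmB).symm.trans (MonoidHom.mem_ker.mp hm))
    have h2 := pow_gcd_eq_one.mpr ⟨h1, pow_card_eq_one' (x := (⟨m, hmB⟩ : B))⟩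
    rw [hcop.gcd_eq_one, pow_one] at h2
    exact Subgroup.mem_bot.mpr (congrArg Subtype.val h2)
  · refine le_antisymm (sup_le (Subgroup.map_subtype_le _) hBM) fun m hm => ?_
    have hcop' : (Nat.card B).Coprime (Nat.card X) := hcop.symm
    obtain ⟨b, hb⟩ := (powCoprime hcop').surjective (⟨ψ ⟨m, hm⟩, hψB _⟩ : B)
    have hb' : (b : A) ^ Nat.card X = ψ ⟨m, hm⟩ := congrArg Subtype.val hb
    have h3 : (⟨m, hm⟩ : M) * (⟨b, hBM b.2⟩ : M)⁻¹ ∈ ψ.ker := by
      rw [MonoidHom.mem_ker, map_mul, map_inv, hψfix ⟨b, hBM b.2⟩ b.2, hb', mul_inv_cancel]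
    have h4 := Subgroup.mul_mem_sup (Subgroup.mem_map_of_mem M.subtype h3) b.2
    simpa using h4

/-- A complement inside a section of exponent `p`. -/
theorem exists_complement_elementary {p : ℕ} (hp : p.Prime) (M B E : Subgroup A) (hBM : B ≤ M)
    (hEM : E ≤ M) (hint : E ⊓ B = ⊥) (hpow : ∀ a ∈ M, a ^ p ∈ E) :
    ∃ C, E ≤ C ∧ C ≤ M ∧ C ⊓ B = ⊥ ∧ C ⊔ B = M := by
  obtain ⟨C, hEC, hC⟩ := exists_maximal_ge_of_wellFoundedGT
    (fun C : Subgroup A => C ≤ M ∧ C ⊓ B = ⊥) E ⟨hEM, hint⟩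
  refine ⟨C, hEC, hC.1.1, hC.1.2, le_antisymm (sup_le hC.1.1 hBM) fun a ha => ?_⟩
  by_contra hna
  have hbig : (C ⊔ Subgroup.zpowers a) ⊓ B = ⊥ := by
    rw [eq_bot_iff]
    rintro x ⟨hx, hxB⟩
    obtain ⟨c, hc, y, hy, rfl⟩ := Subgroup.mem_sup.mp hx
    obtain ⟨k, rfl⟩ := hy
    by_cases hk : (p : ℤ) ∣ k
    · obtain ⟨l, rfl⟩ := hk
      have hak : (fun z : ℤ => a ^ z) ((p : ℤ) * l) ∈ C := by
        show a ^ ((p : ℤ) * l) ∈ C
        rw [zpow_mul, zpow_natCast]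
        exact zpow_mem (hEC (hpow a ha)) l
      exact hC.1.2 ▸ (⟨mul_mem hc hak, hxB⟩ : _ ∈ C ⊓ B)
    · refine absurd ?_ hna
      have hcop : IsCoprime (p : ℤ) k := (Int.prime_iff_natAbs_prime.mpr (by simpa using hp)).coprime_iff_not_dvd.mpr hk
      obtain ⟨u, v, huv⟩ := hcop
      have hap : a ^ (p : ℤ) ∈ C ⊔ B := Subgroup.mem_sup_left (by rw [zpow_natCast]; exact hEC (hpow a ha))
      have hak : a ^ k ∈ C ⊔ B := by
        have := Subgroup.mul_mem_sup (inv_mem hc) hxB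
        simpa using this
      have := mul_mem (zpow_mem hap u) (zpow_mem hak v)
      rwa [← zpow_mul, ← zpow_mul, ← zpow_add, mul_comm (p:ℤ) u, mul_comm k v, huv, zpow_one] at this
  have := hC.2 ⟨sup_le hC.1.1 ((Subgroup.zpowers_le).mpr ha), hbig⟩ le_sup_left
  exact hna (Subgroup.mem_sup_left (this (Subgroup.mem_sup_right (Subgroup.mem_zpowers a))))

/-- A subgroup whose quotient is homocyclic of exponent `p ^ (d + 1)` is a direct factor, when the
group has that exponent. -/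
theorem exists_complement_homocyclic {p : ℕ} [Fact p.Prime] (d : ℕ) (hexp : ∀ a : A, a ^ p ^ (d + 1) = 1)
    (E : Subgroup A) (hΩ : ∀ a : A, a ^ p ∈ E → ∃ b : A, a * (b ^ p ^ d)⁻¹ ∈ E) :
    ∃ C : Subgroup A, C ⊓ E = ⊥ ∧ C ⊔ E = ⊤ := by
  classical
  have hp : p.Prime := Fact.out
  obtain ⟨C, -, hC⟩ := exists_minimal_le_of_wellFoundedLT (fun C : Subgroup A => C ⊔ E = ⊤) ⊤ (top_sup_eq E)
  refine ⟨C, ?_, hC.1⟩
  have hpg : IsPGroup p A := fun a => ⟨d + 1, hexp a⟩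
  -- elements of `C ⊓ E` are `p`-th powers in `C`
  have hsmall : ∀ y ∈ C ⊓ E, ∃ c ∈ C, c ^ p = y := by
    intro y hy
    by_contra hny
    have hy' : (⟨y, hy.1⟩ : C) ∉ (powMonoidHom p : C →* C).range := by
      rintro ⟨c, hc⟩
      exact hny ⟨c, c.2, congrArg Subtype.val hc⟩
    obtain ⟨N', -, hN'⟩ := exists_maximal_ge_of_wellFoundedGT
      (fun N : Subgroup C => (powMonoidHom p : C →* C).range ≤ N ∧ (⟨y, hy.1⟩ : C) ∉ N)
      (powMonoidHom p : C →* C).range ⟨le_rfl, hy'⟩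
    have htop : N' ⊔ Subgroup.zpowers (⟨y, hy.1⟩ : C) = ⊤ := by
      rw [eq_top_iff]
      intro a _
      by_contra hna
      have haN : a ∉ N' := fun h => hna (Subgroup.mem_sup_left h)
      have h1 : (⟨y, hy.1⟩ : C) ∈ N' ⊔ Subgroup.zpowers a := by
        by_contra h
        exact haN (hN'.2 ⟨hN'.1.1.trans le_sup_left, h⟩ le_sup_left (Subgroup.mem_sup_right (Subgroup.mem_zpowers a)))
      obtain ⟨z, hz, w, ⟨k, rfl⟩, hzw⟩ := Subgroup.mem_sup.mp h1
      simp only at hzw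
      have hap : a ^ (p : ℤ) ∈ N' := hN'.1.1 ⟨a, (zpow_natCast a p).symm⟩
      by_cases hk : (p : ℤ) ∣ k
      · obtain ⟨l, rfl⟩ := hk
        refine hN'.1.2 (hzw ▸ mul_mem hz ?_)
        rw [zpow_mul]; exact zpow_mem hap l
      · have hcop : IsCoprime (p : ℤ) k := (Int.prime_iff_natAbs_prime.mpr (by simpa using hp)).coprime_iff_not_dvd.mpr hk
        obtain ⟨u, v, huv⟩ := hcop
        apply hna
        have hak : a ^ k ∈ N' ⊔ Subgroup.zpowers (⟨y, hy.1⟩ : C) := by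
          rw [show a ^ k = z⁻¹ * (⟨y, hy.1⟩ : C) by rw [← hzw, inv_mul_cancel_left]]
          exact Subgroup.mul_mem_sup (inv_mem hz) (Subgroup.mem_zpowers _)
        have := mul_mem (zpow_mem (Subgroup.mem_sup_left (T := Subgroup.zpowers (⟨y, hy.1⟩ : C)) hap) u) (zpow_mem hak v)
        rwa [← zpow_mul, ← zpow_mul, ← zpow_add, mul_comm (p:ℤ) u, mul_comm k v, huv, zpow_one] at this
    have hsup : N'.map C.subtype ⊔ E = ⊤ := by
      rw [eq_top_iff, ← hC.1, sup_le_iff]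
      refine ⟨?_, le_sup_right⟩
      intro c hc
      have : (⟨c, hc⟩ : C) ∈ N' ⊔ Subgroup.zpowers (⟨y, hy.1⟩ : C) := htop ▸ Subgroup.mem_top _
      obtain ⟨z, hz, w, ⟨k, rfl⟩, hzw⟩ := Subgroup.mem_sup.mp this
      have h5 := congrArg Subtype.val hzw
      simp only [Subgroup.coe_mul, Subgroup.coe_zpow] at h5
      rw [← h5]
      exact Subgroup.mul_mem_sup (Subgroup.mem_map_of_mem C.subtype hz) (Subgroup.zpow_mem E hy.2 k)
    have hle := hC.2 hsup (Subgroup.map_subtype_le _)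
    obtain ⟨z, hz, hzy⟩ := hle hy.1
    exact hN'.1.2 ((Subtype.ext hzy : z = ⟨y, hy.1⟩) ▸ hz)
  -- in the quotient the elements killed by `p ^ d` are `p`-th powers
  have hkey : ∀ x : A ⧸ E, x ^ p ^ d = 1 → ∃ y, y ^ p = x := by
    let f : A ⧸ E →* A ⧸ E := powMonoidHom (p ^ d)
    let g : A ⧸ E →* A ⧸ E := powMonoidHom p
    have h1 : g.range ≤ f.ker := by
      rintro _ ⟨y, rfl⟩
      obtain ⟨a, rfl⟩ := QuotientGroup.mk'_surjective E y
      show (QuotientGroup.mk' E a ^ p) ^ p ^ d = 1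
      rw [← pow_mul, ← pow_succ', ← map_pow, hexp, map_one]
    have h2 : g.ker ≤ f.range := by
      intro x hx
      obtain ⟨a, rfl⟩ := QuotientGroup.mk'_surjective E x
      have hx' : a ^ p ∈ E := (QuotientGroup.eq_one_iff _).mp hx
      obtain ⟨b, hb⟩ := hΩ a hx'
      refine ⟨QuotientGroup.mk' E b, ?_⟩
      show QuotientGroup.mk' E b ^ p ^ d = _
      rw [← map_pow, eq_comm, ← mul_inv_eq_one, ← map_inv, ← map_mul]
      exact (QuotientGroup.eq_one_iff _).mpr hb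
    have e1 := Subgroup.card_mul_index f.ker
    have e2 := Subgroup.card_mul_index g.ker
    rw [Subgroup.index_ker] at e1 e2
    have h3 : Nat.card f.ker ≤ Nat.card g.range := by
      refine Nat.le_of_mul_le_mul_right ?_ (Nat.card_pos : 0 < Nat.card g.ker)
      calc Nat.card f.ker * Nat.card g.ker ≤ Nat.card f.ker * Nat.card f.range :=
            Nat.mul_le_mul_left _ (Subgroup.card_le_of_le h2)
        _ = Nat.card g.ker * Nat.card g.range := by rw [e1, e2]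
        _ = _ := mul_comm _ _
    have h4 : g.range = f.ker := Subgroup.eq_of_le_of_card_ge h1 h3
    intro x hx
    exact MonoidHom.mem_range.mp (h4 ▸ (MonoidHom.mem_ker.mpr hx : x ∈ f.ker))
  have hstep : ∀ j ≤ d, ∀ y ∈ C ⊓ E, (∃ c ∈ C, c ^ p ^ j = y) → ∃ c ∈ C, c ^ p ^ (j + 1) = y := by
    rintro j hj y hy ⟨c, hc, rfl⟩
    have hq : (QuotientGroup.mk' E c) ^ p ^ d = 1 := by
      obtain ⟨t, ht⟩ : p ^ j ∣ p ^ d := pow_dvd_pow p hj
      rw [ht, pow_mul, ← map_pow]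
      rw [show QuotientGroup.mk' E (c ^ p ^ j) = 1 from (QuotientGroup.eq_one_iff _).mpr hy.2, one_pow]
    obtain ⟨q, hqc⟩ := hkey _ hq
    obtain ⟨a, rfl⟩ := QuotientGroup.mk'_surjective E q
    obtain ⟨c1, hc1, e, he, rfl⟩ := Subgroup.mem_sup.mp (hC.1 ▸ Subgroup.mem_top a : a ∈ C ⊔ E)
    have hz : c * (c1 ^ p)⁻¹ ∈ C ⊓ E := by
      refine ⟨Subgroup.mul_mem C hc (Subgroup.inv_mem C (pow_mem hc1 p)), (QuotientGroup.eq_one_iff _).mp ?_⟩
      show QuotientGroup.mk' E _ = 1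
      rw [map_mul, map_inv, map_pow, mul_inv_eq_one, ← hqc, map_mul]
      rw [show QuotientGroup.mk' E e = 1 from (QuotientGroup.eq_one_iff _).mpr he, mul_one]
    obtain ⟨c2, hc2, hc2'⟩ := hsmall _ hz
    refine ⟨c2 * c1, mul_mem hc2 hc1, ?_⟩
    rw [pow_succ', pow_mul, mul_pow, hc2', inv_mul_cancel_right]
  have hall : ∀ j ≤ d + 1, ∀ y ∈ C ⊓ E, ∃ c ∈ C, c ^ p ^ j = y := by
    intro j
    induction j with
    | zero => intro _ y hy; exact ⟨y, hy.1, by simp⟩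
    | succ j ih => intro hj y hy; exact hstep j (by omega) y hy (ih (by omega) y hy)
  rw [eq_bot_iff]
  intro y hy
  obtain ⟨c, -, rfl⟩ := hall (d + 1) le_rfl y hy
  exact Subgroup.mem_bot.mpr (hexp c)

end Cfsg.Agent.H29
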