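import Mathlib

set_option autoImplicit false

/-!
The Baer sum on a group of class at most two and odd order.
-/

namespace Cfsg.Agent.H29

open scoped commutatorElement

variable {G : Type*} [Group G]

theorem commutator_mul_left_of_central (hc : ∀ a b c : G, Commute ⁅a, b⁆ c) (a b c : G) :
    ⁅a * b, c⁆ = ⁅a, c⁆ * ⁅b, c⁆ := by
  calc ⁅a * b, c⁆ = a * ⁅b, c⁆ * c * a⁻¹ * c⁻¹ := by simp [commutatorElement_def, mul_assoc]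
    _ = ⁅b, c⁆ * (a * c * a⁻¹ * c⁻¹) := by rw [← (hc b c a).eq]; group
    _ = ⁅b, c⁆ * ⁅a, c⁆ := by rw [commutatorElement_def a c]
    _ = ⁅a, c⁆ * ⁅b, c⁆ := (hc b c _).eq

theorem commutator_mul_right_of_central (hc : ∀ a b c : G, Commute ⁅a, b⁆ c) (a b c : G) :
    ⁅a, b * c⁆ = ⁅a, b⁆ * ⁅a, c⁆ := by
  calc ⁅a, b * c⁆ = ⁅a, b⁆ * (b * ⁅a, c⁆ * b⁻¹) := by simp [commutatorElement_def, mul_assoc]
    _ = ⁅a, b⁆ * ⁅a, c⁆ := by rw [← (hc a c b).eq]; group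

/-- `a + b = a * b * ⁅b, a⁆ ^ h`, with `2 * h ≡ 1`. -/
abbrev baerAddCommGroup (h : ℕ) (hh : ∀ a b : G, ⁅a, b⁆ ^ (2 * h) = ⁅a, b⁆)
    (hc : ∀ a b c : G, Commute ⁅a, b⁆ c) : AddCommGroup G where
  add a b := a * b * ⁅b, a⁆ ^ h
  zero := 1
  neg a := a⁻¹
  add_assoc a b c := by
    show a * b * ⁅b, a⁆ ^ h * c * ⁅c, a * b * ⁅b, a⁆ ^ h⁆ ^ h =
      a * (b * c * ⁅c, b⁆ ^ h) * ⁅b * c * ⁅c, b⁆ ^ h, a⁆ ^ h
    have hpow : ∀ x y z : G, ⁅x, ⁅y, z⁆ ^ h⁆ = 1 := fun x y z =>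
      commutatorElement_eq_one_iff_commute.mpr ((hc y z x).pow_left h).symm
    have hpow' : ∀ x y z : G, ⁅⁅y, z⁆ ^ h, x⁆ = 1 := fun x y z =>
      commutatorElement_eq_one_iff_commute.mpr ((hc y z x).pow_left h)
    rw [commutator_mul_right_of_central hc c, commutator_mul_right_of_central hc c a b, hpow,
      commutator_mul_left_of_central hc _ _ a, commutator_mul_left_of_central hc b c a, hpow',
      mul_one, mul_one, (hc c a _).mul_pow, (hc b a _).mul_pow]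
    calc a * b * ⁅b, a⁆ ^ h * c * (⁅c, a⁆ ^ h * ⁅c, b⁆ ^ h)
        = a * b * (⁅b, a⁆ ^ h * c) * (⁅c, a⁆ ^ h * ⁅c, b⁆ ^ h) := by group
      _ = a * b * (c * ⁅b, a⁆ ^ h) * (⁅c, a⁆ ^ h * ⁅c, b⁆ ^ h) := by rw [((hc b a c).pow_left h).eq]
      _ = a * b * c * (⁅b, a⁆ ^ h * ⁅c, a⁆ ^ h * ⁅c, b⁆ ^ h) := by group
      _ = a * b * c * (⁅c, b⁆ ^ h * (⁅b, a⁆ ^ h * ⁅c, a⁆ ^ h)) := by
          rw [((hc c b (⁅b, a⁆ ^ h * ⁅c, a⁆ ^ h)).pow_left h).eq]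
      _ = _ := by group
  zero_add a := by show (1 : G) * a * ⁅a, (1 : G)⁆ ^ h = a; simp
  add_zero a := by show a * (1 : G) * ⁅(1 : G), a⁆ ^ h = a; simp
  neg_add_cancel a := by
    show a⁻¹ * a * ⁅a, a⁻¹⁆ ^ h = 1
    simp [commutatorElement_def]
  add_comm a b := by
    show a * b * ⁅b, a⁆ ^ h = b * a * ⁅a, b⁆ ^ h
    have h1 : ⁅b, a⁆ ^ (2 * h) = ⁅b, a⁆ := hh b a
    have h2 : b * a = a * b * ⁅b, a⁆ := by
      calc b * a = ⁅b, a⁆ * (a * b) := by simp [commutatorElement_def, mul_assoc]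
        _ = a * b * ⁅b, a⁆ := (hc b a _).eq
    rw [h2, ← commutatorElement_inv b a, inv_pow, eq_mul_inv_iff_mul_eq, mul_assoc, ← pow_add,
      ← two_mul, h1]
  nsmul := @nsmulRec G ⟨1⟩ ⟨fun a b => a * b * ⁅b, a⁆ ^ h⟩
  zsmul := @zsmulRec G ⟨1⟩ ⟨fun a b => a * b * ⁅b, a⁆ ^ h⟩ ⟨fun a => a⁻¹⟩
    (@nsmulRec G ⟨1⟩ ⟨fun a b => a * b * ⁅b, a⁆ ^ h⟩)

/-- The element-wise description of the Baer sum. -/
theorem baerAdd_eq (h : ℕ) (hh : ∀ a b : G, ⁅a, b⁆ ^ (2 * h) = ⁅a, b⁆)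
    (hc : ∀ a b c : G, Commute ⁅a, b⁆ c) (a b : G) :
    letI := baerAddCommGroup h hh hc
    a + b = a * b * ⁅b, a⁆ ^ h := rfl

end Cfsg.Agent.H29
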