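import Mathlib
import Cfsg.Agent.H29.CommutatorFixedBasic
import Cfsg.Agent.H1.FPF

set_option autoImplicit false

/-!
Passing to invariant subgroups and quotients; elements `k` for which the orbit product of
`[k, e]` lies in the subgroup generated by the `C_{[h,φ]}(φ)`; the class two step.
-/

namespace Cfsg.Agent.H29

open Subgroup

variable {H : Type*} [Group H] [Finite H]

theorem coe_restrict_pow (φ : MulAut H) {L : Subgroup H} (hL : IsInv φ L) (k : ℕ) (x : L) :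
    (((H1.restrictAut φ L hL) ^ k) x : H) = (φ ^ k) (x : H) := by
  induction k generalizing x with
  | zero => simp
  | succ k ihk => rw [pow_succ, pow_succ, MulAut.mul_apply, MulAut.mul_apply, ihk]; rfl

theorem restrict_pow_eq_one {φ : MulAut H} {p : ℕ} (hφ : φ ^ p = 1) {L : Subgroup H}
    (hL : IsInv φ L) : (H1.restrictAut φ L hL) ^ p = 1 :=
  MulEquiv.ext fun x => Subtype.ext (by rw [coe_restrict_pow, hφ]; rfl)

theorem map_dgen_restrict (φ : MulAut H) {L : Subgroup H} (hL : IsInv φ L) (h : L) :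
    (dgen (H1.restrictAut φ L hL) h).map L.subtype = dgen φ (h : H) := by
  unfold dgen
  rw [MonoidHom.map_closure]
  congr 1
  ext c
  constructor
  · rintro ⟨_, ⟨i, rfl⟩, rfl⟩
    exact ⟨i, by simp [coe_restrict_pow φ hL]⟩
  · rintro ⟨i, rfl⟩
    exact ⟨_, ⟨i, rfl⟩, by simp [coe_restrict_pow φ hL]⟩

theorem map_cgen_restrict (φ : MulAut H) {L : Subgroup H} (hL : IsInv φ L) :
    (cgen (H1.restrictAut φ L hL) ⊤).map L.subtype = cgen φ L := by
  unfold cgen
  rw [MonoidHom.map_closure]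
  congr 1
  ext c
  constructor
  · rintro ⟨_, ⟨h, -, i, rfl⟩, rfl⟩
    exact ⟨h, h.2, i, by simp [coe_restrict_pow φ hL]⟩
  · rintro ⟨h, hh, i, rfl⟩
    exact ⟨_, ⟨⟨h, hh⟩, mem_top _, i, rfl⟩, by simp [coe_restrict_pow φ hL]⟩

theorem map_fixGen_restrict_le (φ : MulAut H) {L : Subgroup H} (hL : IsInv φ L) :
    (fixGen (H1.restrictAut φ L hL)).map L.subtype ≤ fixGen φ := by
  unfold fixGen
  rw [Subgroup.map_iSup]
  refine iSup_le fun h => le_trans ?_ (le_iSup (fun h : H => dgen φ h ⊓ fixG φ) (h : H))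
  rintro _ ⟨y, ⟨hy1, hy2⟩, rfl⟩
  refine ⟨?_, congrArg Subtype.val hy2⟩
  rw [← map_dgen_restrict φ hL h]
  exact mem_map_of_mem _ hy1

/-- The quotient automorphism. -/
noncomputable def quotAut (φ : MulAut H) (N : Subgroup H) [N.Normal] (hN : IsInv φ N) :
    MulAut (H ⧸ N) := QuotientGroup.congr N N φ (H1.map_eq_of_invariant φ hN)

theorem quotAut_pow_mk (φ : MulAut H) (N : Subgroup H) [N.Normal] (hN : IsInv φ N) (k : ℕ)
    (x : H) : (quotAut φ N hN ^ k) (x : H ⧸ N) = (((φ ^ k) x : H) : H ⧸ N) := by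
  induction k generalizing x with
  | zero => simp
  | succ k ihk =>
    rw [pow_succ, pow_succ, MulAut.mul_apply, MulAut.mul_apply]
    exact ihk (φ x)

theorem quotAut_pow_eq_one {φ : MulAut H} {p : ℕ} (hφ : φ ^ p = 1) (N : Subgroup H) [N.Normal]
    (hN : IsInv φ N) : quotAut φ N hN ^ p = 1 := by
  refine MulEquiv.ext fun x => ?_
  obtain ⟨x, rfl⟩ := QuotientGroup.mk_surjective x
  rw [quotAut_pow_mk, hφ]; rfl

theorem cgen_quotAut_top (φ : MulAut H) (N : Subgroup H) [N.Normal] (hN : IsInv φ N) :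
    cgen (quotAut φ N hN) ⊤ = (cgen φ ⊤).map (QuotientGroup.mk' N) := by
  unfold cgen
  rw [MonoidHom.map_closure]
  congr 1
  ext c
  constructor
  · rintro ⟨h, -, i, rfl⟩
    obtain ⟨h, rfl⟩ := QuotientGroup.mk_surjective h
    exact ⟨_, ⟨h, mem_top _, i, rfl⟩, by simp [quotAut_pow_mk]⟩
  · rintro ⟨_, ⟨h, -, i, rfl⟩, rfl⟩
    exact ⟨h, mem_top _, i, by simp [quotAut_pow_mk]⟩

theorem fixGen_quotAut_le {φ : MulAut H} {p : ℕ} [Fact p.Prime] (hφ : φ ^ p = 1)
    (hcop : ¬ p ∣ Nat.card H) (N : Subgroup H) [N.Normal] (hN : IsInv φ N) :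
    fixGen (quotAut φ N hN) ≤ (fixGen φ).map (QuotientGroup.mk' N) := by
  refine iSup_le fun hb => ?_
  obtain ⟨h, rfl⟩ := QuotientGroup.mk_surjective hb
  rintro y ⟨hy, hyf⟩
  have hy' : y ∈ (dgen φ h).map (QuotientGroup.mk' N) := by
    have e : dgen (quotAut φ N hN) (h : H ⧸ N) = (dgen φ h).map (QuotientGroup.mk' N) := by
      unfold dgen
      rw [MonoidHom.map_closure]
      congr 1
      ext c
      constructor
      · rintro ⟨i, rfl⟩
        exact ⟨_, ⟨i, rfl⟩, by simp [quotAut_pow_mk]⟩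
      · rintro ⟨_, ⟨i, rfl⟩, rfl⟩
        exact ⟨i, by simp [quotAut_pow_mk]⟩
    rw [← e]; exact hy
  obtain ⟨y, hyd, rfl⟩ := hy'
  have hyN : y⁻¹ * φ y ∈ N := by
    rw [← QuotientGroup.eq]
    exact (show ((φ y : H) : H ⧸ N) = (y : H ⧸ N) from hyf).symm
  obtain ⟨c, hc, hcf, hcN⟩ := exists_fixed_lift hφ hcop (isInv_dgen φ h) hN hyd hyN
  refine ⟨c, le_iSup (fun h : H => dgen φ h ⊓ fixG φ) h ⟨hc, hcf⟩, ?_⟩
  exact (QuotientGroup.eq.mpr hcN).symm

/-- In `H = [H, φ]` a fixed point lies in every invariant normal subgroup with abelian quotient. -/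
theorem fixed_mem_of_commutator_le {φ : MulAut H} {p : ℕ} [Fact p.Prime] (hφ : φ ^ p = 1)
    (hcop : ¬ p ∣ Nat.card H) (htop : cgen φ ⊤ = ⊤) (N : Subgroup H) [N.Normal] (hN : IsInv φ N)
    (hNc : ∀ a b : H, a * b * a⁻¹ * b⁻¹ ∈ N) {x : H} (hx : φ x = x) : x ∈ N := by
  have hcop' : ¬ p ∣ Nat.card (H ⧸ N) := fun hd => hcop (hd.trans (card_quotient_dvd_card N))
  have hcomm : IsMulCommutative (⊤ : Subgroup (H ⧸ N)) := by
    refine ⟨⟨fun a b => Subtype.ext ?_⟩⟩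
    obtain ⟨a, ha⟩ := a
    obtain ⟨b, hb⟩ := b
    obtain ⟨a, rfl⟩ := QuotientGroup.mk_surjective a
    obtain ⟨b, rfl⟩ := QuotientGroup.mk_surjective b
    show (a : H ⧸ N) * (b : H ⧸ N) = (b : H ⧸ N) * (a : H ⧸ N)
    rw [← QuotientGroup.mk_mul, ← QuotientGroup.mk_mul, QuotientGroup.eq]
    have := hNc b⁻¹ a⁻¹
    simpa [mul_assoc] using this
  have h1 := cgen_inf_fixG_of_comm (quotAut_pow_eq_one hφ N hN) hcop' (isInv_top _) hcomm
  rw [cgen_quotAut_top, htop, ← MonoidHom.range_eq_map, QuotientGroup.range_mk', top_inf_eq] at h1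
  have h2 : (x : H ⧸ N) ∈ fixG (quotAut φ N hN) := by
    show ((φ x : H) : H ⧸ N) = (x : H ⧸ N)
    rw [hx]
  rw [h1, mem_bot] at h2
  exact (QuotientGroup.eq_one_iff x).mp h2

/-- `k` is good for `E`. -/
def IsGood (φ : MulAut H) (p : ℕ) (E : Subgroup H) (k : H) : Prop :=
  ∀ e ∈ E, pr φ p (k * e * k⁻¹) * (pr φ p e)⁻¹ ∈ fixGen φ

variable {φ : MulAut H} {p : ℕ} {E : Subgroup H}

theorem isGood_mul [hn : E.Normal] {k l : H} (hk : IsGood φ p E k) (hl : IsGood φ p E l) :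
    IsGood φ p E (k * l) := by
  intro e he
  have h1 := hk (l * e * l⁻¹) (hn.conj_mem e he l)
  have h2 := mul_mem h1 (hl e he)
  rw [show k * (l * e * l⁻¹) * k⁻¹ = k * l * e * (k * l)⁻¹ by group] at h2
  simpa [mul_assoc] using h2

theorem isGood_one : IsGood φ p E 1 := fun e _ => by simp

theorem isGood_inv [hn : E.Normal] {k : H} (hk : IsGood φ p E k) : IsGood φ p E k⁻¹ := by
  intro e he
  have h1 := inv_mem (hk (k⁻¹ * e * k) (by simpa using hn.conj_mem e he k⁻¹))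
  rw [show k * (k⁻¹ * e * k) * k⁻¹ = e by group, mul_inv_rev, inv_inv] at h1
  rw [show k⁻¹ * e * k⁻¹⁻¹ = k⁻¹ * e * k by group]
  exact h1

/-- The subgroup of good elements. -/
def goodSubgroup (φ : MulAut H) (p : ℕ) (E : Subgroup H) [E.Normal] : Subgroup H where
  carrier := {k | IsGood φ p E k}
  one_mem' := isGood_one
  mul_mem' := isGood_mul
  inv_mem' := isGood_inv

theorem self_le_good [E.Normal] (hc : IsMulCommutative E) : E ≤ goodSubgroup φ p E := by
  intro k hk e he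
  have : k * e = e * k := congrArg Subtype.val (hc.is_comm.comm ⟨k, hk⟩ ⟨e, he⟩)
  rw [this, mul_inv_cancel_right, mul_inv_cancel]
  exact one_mem _

theorem cgen_le_good [hn : E.Normal] (hφ : φ ^ p = 1) (hE : IsInv φ E) (hc : IsMulCommutative E)
    {L : Subgroup H} (hEL : E ≤ L) (hIH : cgen φ L ⊓ fixG φ ≤ fixGen φ) :
    cgen φ L ≤ goodSubgroup φ p E := by
  intro k hk e he
  have hconj : k * e * k⁻¹ ∈ E := hn.conj_mem e he k
  have hmem : k * e * k⁻¹ * e⁻¹ ∈ cgen φ L := by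
    rw [mul_assoc, mul_assoc, ← mul_assoc e k⁻¹ e⁻¹]
    exact mul_mem hk (cgen_conj_mem' φ (hEL he) (inv_mem hk))
  rw [← pr_inv hE hc p he, ← pr_mul hE hc p hconj (inv_mem he)]
  exact hIH ⟨pr_mem (isInv_cgen φ L) p hmem,
    pr_fixed hφ hE hc (mul_mem hconj (inv_mem he))⟩

theorem commutator_fixed_le [hn : E.Normal] [Fact p.Prime] (hcop : ¬ p ∣ Nat.card H)
    (hE : IsInv φ E) (hc : IsMulCommutative E) (K : Subgroup H)
    (hK : K ≤ goodSubgroup φ p E) : ⁅K, E⁆ ⊓ fixG φ ≤ fixGen φ := by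
  let P : Subgroup H :=
    { carrier := {n | n ∈ E ∧ pr φ p n ∈ fixGen φ}
      one_mem' := ⟨one_mem _, by rw [pr_one]; exact one_mem _⟩
      mul_mem' := fun {a b} ha hb => ⟨mul_mem ha.1 hb.1, by
        rw [pr_mul hE hc p ha.1 hb.1]; exact mul_mem ha.2 hb.2⟩
      inv_mem' := fun {a} ha => ⟨inv_mem ha.1, by
        rw [pr_inv hE hc p ha.1]; exact inv_mem ha.2⟩ }
  have hle : ⁅K, E⁆ ≤ P := by
    rw [commutator_le]
    intro k hk e he
    have hconj : k * e * k⁻¹ ∈ E := hn.conj_mem e he k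
    refine ⟨mul_mem hconj (inv_mem he), ?_⟩
    rw [commutatorElement_def, pr_mul hE hc p hconj (inv_mem he), pr_inv hE hc p he]
    exact hK hk e he
  rintro x ⟨hx, hxf⟩
  have h := (hle hx).2
  rw [pr_of_fixed hxf] at h
  have hcop' : (Nat.card H).Coprime p := ((Fact.out : p.Prime).coprime_iff_not_dvd.mpr hcop).symm
  have hx' : x = (x ^ p) ^ (Nat.card H).gcdB p :=
    ((powCoprime hcop').left_inv x).symm
  rw [hx']
  exact zpow_mem h _

/-- The class two step: `[L, φ]` meeting the centre trivially is central in `L`. -/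
theorem cgen_commute_of_class_two [Fact p.Prime] (hφ : φ ^ p = 1) (hcop : ¬ p ∣ Nat.card H)
    {L : Subgroup H} (hL : IsInv φ L)
    (hLZ : ∀ a ∈ L, ∀ b ∈ L, a * b * a⁻¹ * b⁻¹ ∈ center H) (hZ : center H ≤ fixG φ)
    (hdisj : ∀ x ∈ cgen φ L, x ∈ center H → x = 1) :
    ∀ d ∈ cgen φ L, ∀ e ∈ L, d * e = e * d := by
  have hcl := cgen_le φ hL
  have hdd : ∀ d ∈ cgen φ L, ∀ d' ∈ cgen φ L, d * d' = d' * d := by
    intro d hd d' hd'
    have h := hdisj _ (mul_mem (mul_mem (mul_mem hd hd') (inv_mem hd)) (inv_mem hd'))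
      (hLZ d (hcl hd) d' (hcl hd'))
    calc d * d' = d * d' * d⁻¹ * d'⁻¹ * (d' * d) := by group
      _ = d' * d := by rw [h, one_mul]
  intro d hd e he
  obtain ⟨d', hd', c, hcL, hc, rfl⟩ := exists_cgen_mul_fixed hφ hcop hL he
  suffices hdc : d * c = c * d by
    rw [← mul_assoc, hdd d hd d' hd', mul_assoc, hdc, mul_assoc]
  induction hd using closure_induction with
  | mem a ha =>
    obtain ⟨h, hh, i, rfl⟩ := ha
    obtain ⟨z, hz⟩ : ∃ z, z = h * c * h⁻¹ * c⁻¹ := ⟨_, rfl⟩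
    have hzC : z ∈ center H := hz ▸ hLZ h hh c hcL
    have e1 : h * c = z * (c * h) := by rw [hz]; group
    have e2 : (φ ^ i) h * c = z * (c * (φ ^ i) h) := by
      have h2 := congrArg (φ ^ i) e1
      rw [map_mul, map_mul, map_mul, pow_apply_fixed hc i, pow_apply_fixed (hZ hzC) i] at h2
      exact h2
    calc h⁻¹ * (φ ^ i) h * c = h⁻¹ * z * c * (φ ^ i) h := by rw [mul_assoc, e2]; group
      _ = z * h⁻¹ * c * (φ ^ i) h := by rw [mem_center_iff.mp hzC h⁻¹]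
      _ = z * (h⁻¹ * (c * h)) * h⁻¹ * (φ ^ i) h := by group
      _ = h⁻¹ * (z * (c * h)) * h⁻¹ * (φ ^ i) h := by
          rw [← mul_assoc z, ← mem_center_iff.mp hzC h⁻¹, mul_assoc h⁻¹ z]
      _ = c * (h⁻¹ * (φ ^ i) h) := by rw [← e1]; group
  | one => simp
  | mul a b _ _ iha ihb => rw [mul_assoc, ihb, ← mul_assoc, iha, mul_assoc]
  | inv a _ iha => exact (Commute.inv_left (show Commute a c from iha)).eq

end Cfsg.Agent.H29
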