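import Mathlib
import Cfsg.Agent.H29.CommutatorFixedBasic

set_option autoImplicit false

/-!
An abelian group `Q` acting without fixed points, normalised by an automorphism `x` of prime order
`p ≥ 3` with `Q = [Q, x]`: the module is not the sum of two conjugates of the fixed space of `x`.
-/

namespace Cfsg.Agent.H29

open Module

/-- Endomorphisms over a field extend to endomorphisms over an algebraic closure. -/
theorem exists_ringHom_algClosure (F : Type*) [Field F] (V : Type*) [AddCommGroup V] [Module F V]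
    [FiniteDimensional F V] :
    ∃ (m : ℕ) (φ : Module.End F V →+* Module.End (AlgebraicClosure F) (Fin m → AlgebraicClosure F)),
      Function.Injective φ := by
  let bs := Module.finBasis F V
  refine ⟨_, ((Matrix.toLinAlgEquiv' (R := AlgebraicClosure F)).toRingEquiv.toRingHom.comp
      (algebraMap F (AlgebraicClosure F)).mapMatrix).comp
      (LinearMap.toMatrixAlgEquiv bs).toRingEquiv.toRingHom, ?_⟩
  intro a b h
  apply (LinearMap.toMatrixAlgEquiv bs).injective
  apply Matrix.map_injective (algebraMap F (AlgebraicClosure F)).injective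
  exact (Matrix.toLinAlgEquiv' (R := AlgebraicClosure F)).injective h

/-- A common eigenvector of commuting operators. -/
theorem exists_common_eigenvector {K : Type*} [Field K] [IsAlgClosed K] {W : Type*}
    [AddCommGroup W] [Module K W] [FiniteDimensional K W] [Nontrivial W] {ι : Type*}
    (f : ι → Module.End K W) (hf : ∀ i j, f i * f j = f j * f i) :
    ∃ v : W, v ≠ 0 ∧ ∀ i, ∃ c : K, f i v = c • v := by
  obtain ⟨S, ⟨hS0, hSinv⟩, hSmin⟩ := wellFounded_lt.has_min
    {U : Submodule K W | U ≠ ⊥ ∧ ∀ i, ∀ v ∈ U, f i v ∈ U} ⟨⊤, top_ne_bot, fun _ _ _ => trivial⟩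
  haveI : Nontrivial S := Submodule.nontrivial_iff_ne_bot.mpr hS0
  have hscal : ∀ i, ∃ c : K, ∀ v ∈ S, f i v = c • v := by
    intro i
    obtain ⟨c, hc⟩ := Module.End.exists_eigenvalue ((f i).restrict (hSinv i) : Module.End K S)
    obtain ⟨v, hv, hv0⟩ := hc.exists_hasEigenvector
    refine ⟨c, fun w hw => ?_⟩
    have hU : S ⊓ Module.End.eigenspace (f i) c = S := by
      refine eq_of_le_of_not_lt inf_le_left fun hlt => hSmin _ ⟨?_, ?_⟩ hlt
      · rw [Submodule.ne_bot_iff]
        refine ⟨v, ⟨v.2, Module.End.mem_eigenspace_iff.mpr ?_⟩,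
          fun h => hv0 (Subtype.ext h)⟩
        exact congrArg Subtype.val (Module.End.mem_eigenspace_iff.mp hv)
      · rintro j u ⟨hu, hu'⟩
        refine ⟨hSinv j u hu, ?_⟩
        rw [SetLike.mem_coe, Module.End.mem_eigenspace_iff] at hu' ⊢
        rw [← Module.End.mul_apply, hf, Module.End.mul_apply, hu', map_smul]
    exact Module.End.mem_eigenspace_iff.mp (hU.symm.le hw).2
  obtain ⟨v, hv, hv0⟩ := S.exists_mem_ne_zero_of_ne_bot hS0
  refine ⟨v, hv0, fun i => ?_⟩
  obtain ⟨c, hc⟩ := hscal i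
  exact ⟨c, hc v hv⟩

theorem no_two_fixed_spaces_alg {K : Type*} [Field K] [IsAlgClosed K] {W : Type*}
    [AddCommGroup W] [Module K W] [FiniteDimensional K W] [Nontrivial W]
    {Q : Type*} [Group Q] [Fintype Q] (hQK : (Fintype.card Q : K) ≠ 0)
    (φ : MulAut Q) {p : ℕ} [Fact p.Prime] (hp3 : 3 ≤ p) (hφ : φ ^ p = 1) (hgen : cgen φ ⊤ = ⊤)
    (ρ : Q →* Module.End K W) (hcomm : ∀ a b, ρ a * ρ b = ρ b * ρ a) (hsum : ∑ g, ρ g = 0)
    (X : Module.End K W) (hX : X ^ p = 1) (hXρ : ∀ g, X * ρ g = ρ (φ g) * X) (h : Q)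
    (A B : Module.End K W) :
    (∑ i ∈ Finset.range p, X ^ i) * A + ρ h * (∑ i ∈ Finset.range p, X ^ i) * B ≠ 1 := by
  intro hAB
  set S := ∑ i ∈ Finset.range p, X ^ i with hSdef
  have hp : p.Prime := Fact.out
  obtain ⟨v, hv⟩ := exists_ne (0 : W)
  haveI : Nontrivial (Module.Dual K W) := ⟨⟨0, by
    obtain ⟨d, hd⟩ := Module.Projective.exists_dual_ne_zero K hv
    exact ⟨d, fun he => hd (by rw [← he]; rfl)⟩⟩⟩
  obtain ⟨lam, hlam0, hlam⟩ := exists_common_eigenvector (W := Module.Dual K W)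
    (fun g : Q => (ρ g).dualMap) (fun a b => LinearMap.ext fun l => LinearMap.ext fun w => by
      show l (ρ b (ρ a w)) = l (ρ a (ρ b w))
      rw [← Module.End.mul_apply, hcomm, Module.End.mul_apply])
  choose χ hχ using hlam
  have hχ' : ∀ g w, lam (ρ g w) = χ g * lam w := fun g w => by
    have := congrArg (fun l : Module.Dual K W => l w) (hχ g)
    exact this
  obtain ⟨w₀, hw₀⟩ : ∃ w, lam w ≠ 0 := by
    by_contra hcon
    exact hlam0 (LinearMap.ext fun w => by simpa using (not_exists_not.mp hcon) w)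
  have hχmul : ∀ a b, χ (a * b) = χ a * χ b := by
    intro a b
    apply mul_right_cancel₀ hw₀
    rw [← hχ', map_mul, Module.End.mul_apply, hχ', hχ', mul_assoc]
  have hχ1 : χ 1 = 1 := by
    apply mul_right_cancel₀ hw₀
    rw [← hχ', map_one, Module.End.one_apply, one_mul]
  -- the translates
  have hXpow : ∀ (i : ℕ) g, X ^ i * ρ g = ρ ((φ ^ i) g) * X ^ i := by
    intro i
    induction i with
    | zero => intro g; simp
    | succ i ih =>
      intro g
      rw [pow_succ, mul_assoc, hXρ, ← mul_assoc, ih, pow_succ, MulAut.mul_apply, mul_assoc]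
  let l : ℕ → Module.Dual K W := fun i => lam ∘ₗ (X ^ i)
  have hl : ∀ i g w, l i (ρ g w) = χ ((φ ^ i) g) * l i w := by
    intro i g w
    show lam ((X ^ i) (ρ g w)) = _
    rw [← Module.End.mul_apply, hXpow, Module.End.mul_apply, hχ']
    rfl
  have hdist : ∀ i j : ℕ, i < p → j < p → i ≠ j → ∃ g, χ ((φ ^ i) g) ≠ χ ((φ ^ j) g) := by
    intro i j hi hj hij
    by_contra hcon
    simp only [not_exists, not_not] at hcon
    wlog hlt : i < j generalizing i j
    · exact this j i hj hi (Ne.symm hij) (fun g => (hcon g).symm) (by omega)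
    have h1 : ∀ g, χ ((φ ^ (j - i)) g) = χ g := by
      intro g
      obtain ⟨g', rfl⟩ := (φ ^ i).surjective g
      rw [← MulAut.mul_apply, ← pow_add, Nat.sub_add_cancel hlt.le, ← hcon]
    obtain ⟨k, hk⟩ := Nat.exists_mul_mod_eq_one_of_coprime (Nat.Coprime.symm
      ((hp.coprime_iff_not_dvd).mpr (fun hd => absurd (Nat.le_of_dvd (by omega) hd)
        (by omega : ¬ p ≤ j - i)))) hp.one_lt
    have h2 : ∀ (n : ℕ) g, χ (((φ ^ (j - i)) ^ n) g) = χ g := by
      intro n
      induction n with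
      | zero => intro g; simp
      | succ n ih => intro g; rw [pow_succ, MulAut.mul_apply, ih, h1]
    have h3 : ∀ g, χ (φ g) = χ g := by
      intro g
      have e : φ = (φ ^ (j - i)) ^ k := by
        rw [← pow_mul]
        conv_lhs => rw [← pow_one φ]
        rw [← Nat.mod_add_div ((j - i) * k) p, hk.2, pow_add, pow_mul, hφ, one_pow, mul_one]
      rw [e]; exact h2 k g
    have h4 : ∀ (n : ℕ) g, χ ((φ ^ n) g) = χ g := by
      intro n
      induction n with
      | zero => intro g; simp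
      | succ n ih => intro g; rw [pow_succ, MulAut.mul_apply, ih, h3]
    have h5 : ∀ g, χ g = 1 := by
      intro g
      have hg : g ∈ cgen φ ⊤ := by rw [hgen]; exact Subgroup.mem_top g
      induction hg using Subgroup.closure_induction with
      | mem c hc =>
        obtain ⟨a, -, n, rfl⟩ := hc
        rw [hχmul, h4, ← hχmul, inv_mul_cancel, hχ1]
      | one => exact hχ1
      | mul a b _ _ ha hb => rw [hχmul, ha, hb, one_mul]
      | inv a _ ha => rw [← one_mul (χ a⁻¹), ← ha, ← hχmul, mul_inv_cancel, hχ1, ha]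
    have h6 : lam ((∑ g, ρ g) w₀) = (Fintype.card Q : K) * lam w₀ := by
      rw [LinearMap.sum_apply, map_sum]
      simp [hχ', h5]
    rw [hsum, LinearMap.zero_apply, map_zero] at h6
    exact mul_ne_zero hQK hw₀ h6.symm
  have hl0 : ∀ i, i < p → l i ≠ 0 := by
    intro i hi he
    apply hw₀
    have := congrArg (fun d : Module.Dual K W => d ((X ^ (p - i)) w₀)) he
    simpa [l, ← Module.End.mul_apply, ← pow_add, Nat.add_sub_cancel' hi.le, hX] using this
  have hindep : ∀ i j k : ℕ, i < p → j < p → k < p → i ≠ j → i ≠ k → ∀ a b c : K,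
      (∀ w, a * l i w + b * l j w + c * l k w = 0) → a = 0 := by
    intro i j k hi hj hk hij hik a b c hrel
    obtain ⟨g, hg⟩ := hdist i j hi hj hij
    obtain ⟨g', hg'⟩ := hdist i k hi hk hik
    obtain ⟨w, hw⟩ : ∃ w, l i w ≠ 0 := by
      by_contra hcon
      exact hl0 i hi (LinearMap.ext fun w => by simpa using (not_exists_not.mp hcon) w)
    have r1 := hrel (ρ g (ρ g' w))
    have r2 := hrel (ρ g' w)
    have r3 := hrel (ρ g w)
    have r4 := hrel w
    simp only [hl] at r1 r2 r3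
    have key : a * l i w * ((χ ((φ ^ i) g) - χ ((φ ^ j) g)) * (χ ((φ ^ i) g') - χ ((φ ^ k) g'))) = 0 := by
      linear_combination r1 - χ ((φ ^ j) g) * r2 - χ ((φ ^ k) g') * r3 +
        χ ((φ ^ j) g) * χ ((φ ^ k) g') * r4
    rcases mul_eq_zero.mp key with h' | h'
    · exact (mul_eq_zero.mp h').resolve_right hw
    · exact absurd h' (mul_ne_zero (sub_ne_zero.mpr hg) (sub_ne_zero.mpr hg'))
  -- the combination
  have hXS : ∀ i, X ^ i * S = S := by
    have h1 : X * S = S := by
      have e := (Finset.sum_range_succ' (fun i => X ^ i) p).symm.trans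
        (Finset.sum_range_succ (fun i => X ^ i) p)
      rw [hX, pow_zero] at e
      rw [hSdef, Finset.mul_sum]
      simp only [← pow_succ']
      exact add_right_cancel e
    intro i
    induction i with
    | zero => simp
    | succ i ih => rw [pow_succ, mul_assoc, h1, ih]
  obtain ⟨c0, c1, c2, hne, hc1, hc2⟩ : ∃ c0 c1 c2 : K, ¬ (c0 = 0 ∧ c1 = 0 ∧ c2 = 0) ∧
      c0 + c1 + c2 = 0 ∧ c0 * χ ((φ ^ 0) h) + c1 * χ ((φ ^ 1) h) + c2 * χ ((φ ^ 2) h) = 0 := by
    by_cases e : χ ((φ ^ 0) h) = χ ((φ ^ 1) h)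
    · exact ⟨1, -1, 0, fun hh => one_ne_zero hh.1, by ring, by linear_combination e⟩
    · exact ⟨χ ((φ ^ 1) h) - χ ((φ ^ 2) h), χ ((φ ^ 2) h) - χ ((φ ^ 0) h),
        χ ((φ ^ 0) h) - χ ((φ ^ 1) h), fun hh => e (sub_eq_zero.mp hh.2.2), by ring, by ring⟩
  have hzero : ∀ w, c0 * l 0 w + c1 * l 1 w + c2 * l 2 w = 0 := by
    intro w
    have hS : ∀ i u, l i (S u) = lam (S u) := fun i u => by
      show lam ((X ^ i) (S u)) = _
      rw [← Module.End.mul_apply, hXS]
    have hw : S (A w) + ρ h (S (B w)) = w := congrArg (fun T : Module.End K W => T w) hAB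
    rw [← hw]
    simp only [map_add, hl, hS]
    linear_combination lam (S (A w)) * hc1 + lam (S (B w)) * hc2
  refine hne ⟨hindep 0 1 2 (by omega) (by omega) (by omega) (by omega) (by omega) c0 c1 c2 hzero,
    hindep 1 0 2 (by omega) (by omega) (by omega) (by omega) (by omega) c1 c0 c2
      (fun w => by linear_combination hzero w),
    hindep 2 0 1 (by omega) (by omega) (by omega) (by omega) (by omega) c2 c0 c1
      (fun w => by linear_combination hzero w)⟩

/-- The module is not the sum of two fixed spaces. -/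
theorem no_two_fixed_spaces {F : Type*} [Field F] {V : Type*} [AddCommGroup V] [Module F V]
    [FiniteDimensional F V] [Nontrivial V] {Q : Type*} [Group Q] [Fintype Q]
    (hQF : (Fintype.card Q : F) ≠ 0) (φ : MulAut Q) {p : ℕ} [Fact p.Prime] (hp3 : 3 ≤ p)
    (hpF : (p : F) ≠ 0) (hφ : φ ^ p = 1) (hgen : cgen φ ⊤ = ⊤)
    (ρ : Q →* Module.End F V) (hcomm : ∀ a b, ρ a * ρ b = ρ b * ρ a)
    (hfix : ∀ v, (∀ g, ρ g v = v) → v = 0)
    (X : Module.End F V) (hX : X ^ p = 1) (hXρ : ∀ g, X * ρ g = ρ (φ g) * X) (h : Q) :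
    ¬ ∀ v, ∃ a b, X a = a ∧ X b = b ∧ v = a + ρ h b := by
  intro hall
  set S := ∑ i ∈ Finset.range p, X ^ i with hSdef
  have hSfix : ∀ a, X a = a → S ((p : F)⁻¹ • a) = a := by
    intro a ha
    have h1 : ∀ i : ℕ, (X ^ i) a = a := by
      intro i
      induction i with
      | zero => simp
      | succ i ih => rw [pow_succ, Module.End.mul_apply, ha, ih]
    rw [hSdef, map_smul, LinearMap.sum_apply]
    simp only [h1, Finset.sum_const, Finset.card_range]
    rw [← Nat.cast_smul_eq_nsmul F, smul_smul, inv_mul_cancel₀ hpF, one_smul]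
  let T : (V × V) →ₗ[F] V := LinearMap.coprod S (ρ h * S)
  have hT : Function.Surjective T := fun v => by
    obtain ⟨a, b, ha, hb, rfl⟩ := hall v
    refine ⟨((p : F)⁻¹ • a, (p : F)⁻¹ • b), ?_⟩
    show S ((p : F)⁻¹ • a) + ρ h (S ((p : F)⁻¹ • b)) = _
    rw [hSfix a ha, hSfix b hb]
  obtain ⟨R, hR⟩ := T.exists_rightInverse_of_surjective (LinearMap.range_eq_top.mpr hT)
  have hAB : S * (LinearMap.fst F V V ∘ₗ R) + ρ h * S * (LinearMap.snd F V V ∘ₗ R) = 1 := by
    refine LinearMap.ext fun v => ?_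
    exact congrArg (fun f : Module.End F V => f v) hR
  have hsum : ∑ g, ρ g = 0 := by
    refine LinearMap.ext fun v => hfix _ fun g => ?_
    rw [LinearMap.sum_apply, map_sum]
    refine (Finset.sum_congr rfl fun a _ => ?_).trans
      (Equiv.sum_comp (Equiv.mulLeft g) (fun a => ρ a v))
    rw [Equiv.coe_mulLeft, map_mul, Module.End.mul_apply]
  obtain ⟨m, Φ, hΦ⟩ := exists_ringHom_algClosure F V
  haveI : Nontrivial (Fin m → AlgebraicClosure F) := by
    by_contra hcon
    rw [not_nontrivial_iff_subsingleton] at hcon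
    exact one_ne_zero (α := Module.End F V) (hΦ (Subsingleton.elim _ _))
  refine no_two_fixed_spaces_alg (K := AlgebraicClosure F) ?_ φ hp3 hφ hgen
    (Φ.toMonoidHom.comp ρ) (fun a b => ?_) ?_ (Φ X) ?_ (fun g => ?_) h
    (Φ (LinearMap.fst F V V ∘ₗ R)) (Φ (LinearMap.snd F V V ∘ₗ R)) ?_
  · rw [← map_natCast (algebraMap F (AlgebraicClosure F))]
    exact fun he => hQF ((algebraMap F (AlgebraicClosure F)).injective (he.trans (map_zero _).symm))
  · show Φ (ρ a) * Φ (ρ b) = Φ (ρ b) * Φ (ρ a)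
    rw [← map_mul, hcomm, map_mul]
  · show ∑ g, Φ (ρ g) = 0
    rw [← map_sum, hsum, map_zero]
  · rw [← map_pow, hX, map_one]
  · show Φ X * Φ (ρ g) = Φ (ρ (φ g)) * Φ X
    rw [← map_mul, hXρ, map_mul]
  · show (∑ i ∈ Finset.range p, Φ X ^ i) * _ + Φ (ρ h) * (∑ i ∈ Finset.range p, Φ X ^ i) * _ = 1
    rw [← map_one Φ, ← hAB, map_add, map_mul, map_mul, map_mul, hSdef, map_sum]
    simp only [map_pow]

end Cfsg.Agent.H29
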