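import Mathlib
import Cfsg.Agent.H29.CommutatorFixedBasic
import Cfsg.Agent.H29.CommutatorFixedGood
import Cfsg.Agent.H29.ThreeWeights
import Cfsg.Agent.H6.Basic

set_option autoImplicit false

/-!
`C_{[H,φ]}(φ)` is generated by the `C_{[h,φ]}(φ)` for a solvable group `H` of order prime to `p`
and `φ` of odd prime order `p`.
-/

namespace Cfsg.Agent.H29

open Subgroup
open scoped commutatorElement

/-- What holds in a minimal counterexample. -/
structure MinCE {H : Type*} [Group H] (φ : MulAut H) (p : ℕ) : Prop where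
  pow_eq : φ ^ p = 1
  odd : 3 ≤ p
  cop : ¬ p ∣ Nat.card H
  top : cgen φ ⊤ = ⊤
  sub : ∀ L : Subgroup H, IsInv φ L → L ≠ ⊤ → cgen φ L ⊓ fixG φ ≤ fixGen φ
  norm : ∀ N : Subgroup H, N.Normal → IsInv φ N → N ≠ ⊥ → ¬ N ⊓ fixG φ ≤ fixGen φ

theorem isInv_commutator {H : Type*} [Group H] {φ : MulAut H} {A B : Subgroup H}
    (hA : IsInv φ A) (hB : IsInv φ B) : IsInv φ ⁅A, B⁆ := by
  intro x hx
  have h : ⁅A, B⁆ ≤ (⁅A, B⁆).comap φ.toMonoidHom := by
    rw [commutator_le]
    intro a ha b hb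
    show φ ⁅a, b⁆ ∈ ⁅A, B⁆
    rw [map_commutatorElement]
    exact commutator_mem_commutator (hA a ha) (hB b hb)
  exact h hx

variable {H : Type*} [Group H] [Finite H] {φ : MulAut H} {p : ℕ} [Fact p.Prime]

theorem MinCE.dgen_ne_top (h : MinCE φ p) [Nontrivial H] (x : H) : dgen φ x ≠ ⊤ := by
  intro he
  refine h.norm ⊤ inferInstance (isInv_top φ) top_ne_bot ?_
  rw [top_inf_eq]
  refine le_trans (le_of_eq ?_) (le_iSup (fun h : H => dgen φ h ⊓ fixG φ) x)
  show fixG φ = dgen φ x ⊓ fixG φ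
  rw [he, top_inf_eq]

theorem MinCE.not_comm (h : MinCE φ p) [Nontrivial H] : ¬ IsMulCommutative (⊤ : Subgroup H) := by
  intro hc
  refine h.norm ⊤ inferInstance (isInv_top φ) top_ne_bot ?_
  have h1 := cgen_inf_fixG_of_comm h.pow_eq h.cop (isInv_top φ) hc
  rw [h.top] at h1
  rw [h1]
  exact bot_le

theorem MinCE.center_ne_top (h : MinCE φ p) [Nontrivial H] : center H ≠ ⊤ := fun he =>
  h.not_comm ⟨⟨fun a b => Subtype.ext (mem_center_iff.mp (show (b : H) ∈ center H by rw [he]; exact mem_top _) a)⟩⟩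

theorem MinCE.center_le_fix (h : MinCE φ p) : center H ≤ fixG φ := by
  intro z hz
  have hN : cgen φ (center H) = ⊥ := by
    by_contra hne
    refine h.norm _ ⟨fun n hn g => ?_⟩ (isInv_cgen φ _) hne ?_
    · have hnc : n ∈ center H := cgen_le φ (isInv_of_characteristic φ) hn
      rwa [mem_center_iff.mp hnc g, mul_inv_cancel_right]
    · rw [cgen_inf_fixG_of_comm h.pow_eq h.cop (isInv_of_characteristic φ)
        ⟨⟨fun a b => Subtype.ext (mem_center_iff.mp b.2 a)⟩⟩]
      exact bot_le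
  have h1 : z⁻¹ * (φ ^ 1) z ∈ cgen φ (center H) := subset_closure ⟨z, hz, 1, rfl⟩
  rw [hN, mem_bot, pow_one] at h1
  exact (inv_mul_eq_one.mp h1).symm

theorem MinCE.inf_center (h : MinCE φ p) {L : Subgroup H} (hL : IsInv φ L) (hne : L ≠ ⊤) {x : H}
    (hx : x ∈ cgen φ L) (hxc : x ∈ center H) : x = 1 := by
  by_contra hx1
  refine h.norm (zpowers x) ⟨fun n hn g => ?_⟩ (fun n hn => ?_)
    (fun he => hx1 (zpowers_eq_bot.mp he)) ?_
  · have hnc : n ∈ center H := zpowers_le.mpr hxc hn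
    rwa [mem_center_iff.mp hnc g, mul_inv_cancel_right]
  · rw [mem_fixG.mp (h.center_le_fix (zpowers_le.mpr hxc hn))]
    exact hn
  · exact le_trans (inf_le_inf_right _ (zpowers_le.mpr hx)) (h.sub L hL hne)

/-- If everything is good for `E`, then `E` is central. -/
theorem MinCE.le_center_of_good (h : MinCE φ p) {E : Subgroup H} [E.Normal] (hE : IsInv φ E)
    (hc : IsMulCommutative E) (hgood : goodSubgroup φ p E = ⊤) : E ≤ center H := by
  have h1 : ⁅(⊤ : Subgroup H), E⁆ = ⊥ := by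
    by_contra hne
    exact h.norm _ inferInstance (isInv_commutator (isInv_top φ) hE) hne
      (commutator_fixed_le h.cop hE hc ⊤ hgood.ge)
  intro e he
  rw [mem_center_iff]
  intro g
  have h2 := commutator_mem_commutator (mem_top g) he
  rw [h1, mem_bot, commutatorElement_eq_one_iff_mul_comm] at h2
  exact h2

/-- A proper minimal noncentral invariant normal subgroup is abelian. -/
theorem MinCE.comm_of_minimal [Group.IsSolvable H] (h : MinCE φ p) {E : Subgroup H}
    (hEn : E.Normal) (hE : IsInv φ E) (hEne : E ≠ ⊤) (hEZ : ¬ E ≤ center H)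
    (hmin : ∀ K : Subgroup H, K.Normal → IsInv φ K → K ≤ E → K ≠ E → K ≤ center H) :
    IsMulCommutative E := by
  by_contra hc
  haveI := hEn
  have hE0 : E ≠ ⊥ := fun he => hEZ (he ▸ bot_le)
  have hEE : ⁅E, E⁆ ≤ center H :=
    hmin _ inferInstance (isInv_commutator hE hE) (commutator_le_right E E)
      (IsSolvable.commutator_lt_of_ne_bot hE0).ne
  have hcomm := cgen_commute_of_class_two h.pow_eq h.cop hE
    (fun a ha b hb => hEE (commutator_mem_commutator ha hb)) h.center_le_fix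
    (fun x hx hxc => h.inf_center hE hEne hx hxc)
  have hinv : IsInv φ (E ⊓ centralizer (E : Set H)) :=
    hE.inf (H1.centralizer_invariant φ hE)
  have hsub : cgen φ E ≤ E ⊓ centralizer (E : Set H) := fun d hd =>
    ⟨cgen_le φ hE hd, mem_centralizer_iff.mpr fun e he => (hcomm d hd e he).symm⟩
  have hlt : E ⊓ centralizer (E : Set H) ≠ E := fun he => hc
    (le_centralizer_iff_isMulCommutative.mp (inf_eq_left.mp he))
  have hcen := hmin _ (normal_inf_normal _ _) hinv inf_le_left hlt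
  have hfixE : ∀ e ∈ E, φ e = e := by
    intro e he
    have h1 : e⁻¹ * (φ ^ 1) e ∈ cgen φ E := subset_closure ⟨e, he, 1, rfl⟩
    have h2 := h.inf_center hE hEne h1 (hcen (hsub h1))
    rw [pow_one] at h2
    exact (inv_mul_eq_one.mp h2).symm
  apply hEZ
  intro e he
  rw [mem_center_iff]
  intro g
  have hg : g ∈ cgen φ ⊤ := h.top.symm ▸ mem_top g
  suffices hall : ∀ x ∈ cgen φ ⊤, ∀ e ∈ E, x * e = e * x from hall g hg e he
  intro x hx
  induction hx using closure_induction with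
  | mem c hc' =>
    obtain ⟨a, -, i, rfl⟩ := hc'
    intro e he
    have h3 : a * e * a⁻¹ ∈ E := hEn.conj_mem e he a
    have h4 := pow_apply_fixed (hfixE _ h3) i
    rw [map_mul, map_mul, pow_apply_fixed (hfixE e he) i, map_inv] at h4
    calc a⁻¹ * (φ ^ i) a * e = a⁻¹ * ((φ ^ i) a * e * ((φ ^ i) a)⁻¹) * (φ ^ i) a := by group
      _ = e * (a⁻¹ * (φ ^ i) a) := by rw [h4]; group
  | one => intro e _; simp
  | mul a b _ _ iha ihb => intro e he; rw [mul_assoc, ihb e he, ← mul_assoc, iha e he, mul_assoc]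
  | inv a _ iha => intro e he; exact (Commute.inv_left (show Commute a e from iha e he)).eq

theorem le_sup_commutator_of_pGroup {q : ℕ} [Fact q.Prime] {Q : Subgroup H} (hQ : IsPGroup q Q) :
    ∀ a ∈ Q, ∀ b ∈ Q, a * b * a⁻¹ * b⁻¹ ∈ (frattini Q).map Q.subtype := fun a ha b hb =>
  ⟨⁅(⟨a, ha⟩ : Q), ⟨b, hb⟩⁆,
    H6.commutator_le_frattini hQ (commutator_mem_commutator (mem_top _) (mem_top _)), rfl⟩

theorem le_of_le_sup_frattini {Q A : Subgroup H} (hA : A ≤ Q)
    (h : Q ≤ A ⊔ (frattini Q).map Q.subtype) : A = Q := by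
  refine le_antisymm hA ?_
  have h1 : A.subgroupOf Q ⊔ frattini Q = ⊤ := by
    apply map_injective Q.subtype_injective
    rw [Subgroup.map_sup, ← MonoidHom.range_eq_map, range_subtype, map_subgroupOf_eq_of_le hA]
    exact le_antisymm (sup_le hA (map_subtype_le _)) h
  exact subgroupOf_eq_top.mp (frattini_nongenerating h1)

/-- The case `H = V Q`. -/
theorem MinCE.no_split (h : MinCE φ p) (V Q : Subgroup H) [V.Normal] (hV : IsInv φ V)
    (hV0 : V ≠ ⊥) (hVc : IsMulCommutative V)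
    (hVZ : ∀ x ∈ V, x ∈ center H → x = 1)
    (hmin : ∀ K : Subgroup H, K.Normal → IsInv φ K → K ≤ V → K ≠ V → K = ⊥)
    {q : ℕ} [Fact q.Prime] (hQ : IsPGroup q Q) (hQi : IsInv φ Q) (hsup : V ⊔ Q = ⊤)
    (hqV : ¬ q ∣ Nat.card V) : False := by
  classical
  have hp : p.Prime := Fact.out
  haveI : Nontrivial H := by
    obtain ⟨v, hv, hv1⟩ := V.bot_or_exists_ne_one.resolve_left hV0
    exact ⟨v, 1, hv1⟩
  have hVV : ∀ a ∈ V, ∀ b ∈ V, a * b = b * a := fun a ha b hb =>
    congrArg Subtype.val (hVc.is_comm.comm ⟨a, ha⟩ ⟨b, hb⟩)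
  have hdisj : V ⊓ Q = ⊥ := by
    refine (disjoint_of_coprime_natCard ?_).eq_bot
    obtain ⟨n, hn⟩ := IsPGroup.iff_card.mp hQ
    rw [hn]
    exact (((Fact.out : q.Prime).coprime_iff_not_dvd).mpr hqV).symm.pow_right n
  have hdec : ∀ x : H, ∃ v ∈ V, ∃ k ∈ Q, x = v * k := by
    intro x
    have hx : x ∈ V ⊔ Q := hsup ▸ mem_top x
    obtain ⟨v, hv, k, hk, e⟩ := mem_sup_of_normal_left.mp hx
    exact ⟨v, hv, k, hk, e.symm⟩
  have huniq : ∀ v ∈ V, ∀ k ∈ Q, v * k ∈ Q → v = 1 := by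
    intro v hv k hk hvk
    have h1 : v ∈ V ⊓ Q := ⟨hv, by simpa using mul_mem hvk (inv_mem hk)⟩
    rwa [hdisj, mem_bot] at h1
  have hcent : ∀ v ∈ V, (∀ k ∈ Q, k * v = v * k) → v = 1 := by
    intro v hv hk
    refine hVZ v hv (mem_center_iff.mpr fun g => ?_)
    obtain ⟨w, hw, k, hkQ, rfl⟩ := hdec g
    rw [mul_assoc, hk k hkQ, ← mul_assoc, hVV w hw v hv, mul_assoc]
  have hQne : Q ≠ ⊤ := by
    intro he
    obtain ⟨v, hv, hv1⟩ := V.bot_or_exists_ne_one.resolve_left hV0
    exact hv1 (huniq v hv 1 (one_mem _) (he ▸ mem_top _))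
  -- `[Q, φ] = Q`
  have hcgenQ : cgen φ Q = Q := by
    refine le_antisymm (cgen_le φ hQi) fun x hx => ?_
    have hle : cgen φ ⊤ ≤ V ⊔ cgen φ Q := by
      refine (closure_le _).mpr ?_
      rintro _ ⟨a, -, i, rfl⟩
      obtain ⟨v, hv, k, hk, rfl⟩ := hdec a
      have e : (v * k)⁻¹ * (φ ^ i) (v * k) =
          (k⁻¹ * (v⁻¹ * (φ ^ i) v) * k⁻¹⁻¹) * (k⁻¹ * (φ ^ i) k) := by rw [map_mul]; group
      rw [e]
      exact mul_mem (mem_sup_left (Subgroup.Normal.conj_mem inferInstance _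
        (mul_mem (inv_mem hv) (hV.pow_mem i v hv)) k⁻¹))
        (mem_sup_right (subset_closure ⟨k, hk, i, rfl⟩))
    rw [h.top] at hle
    obtain ⟨v, hv, d, hd, rfl⟩ := mem_sup_of_normal_left.mp (hle (mem_top x))
    rw [huniq v hv d (cgen_le φ hQi hd) hx, one_mul]
    exact hd
  set Φ := (frattini Q).map Q.subtype with hΦdef
  have hΦQ : Φ ≤ Q := map_subtype_le _
  have hΦi : IsInv φ Φ := by
    rintro _ ⟨y, hy, rfl⟩
    exact ⟨H1.restrictAut φ Q hQi y,
      isInv_of_characteristic (H1.restrictAut φ Q hQi) y hy, rfl⟩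
  have hΦc := le_sup_commutator_of_pGroup hQ
  have hQΦ : Q ≤ normalizer (Φ : Set H) := by
    intro k hk
    have : ∀ k ∈ Q, ∀ x ∈ Φ, k * x * k⁻¹ ∈ Φ := by
      rintro k hk _ ⟨y, hy, rfl⟩
      exact ⟨⟨k, hk⟩ * y * ⟨k, hk⟩⁻¹, (inferInstance : (frattini Q).Normal).conj_mem y hy _, rfl⟩
    rw [mem_normalizer_iff]
    intro x
    refine ⟨this k hk x, fun hx => ?_⟩
    have h2 := this k⁻¹ (inv_mem hk) _ hx
    simpa [mul_assoc] using h2
  -- `V ⊔ Φ` is normal with abelian quotient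
  haveI hN : (V ⊔ Φ).Normal := by
    rw [← normalizer_eq_top_iff, ← top_le_iff, ← hsup]
    refine sup_le (le_trans le_sup_left le_normalizer) fun k hk => ?_
    have : ∀ k ∈ Q, ∀ x ∈ V ⊔ Φ, k * x * k⁻¹ ∈ V ⊔ Φ := by
      intro k hk x hx
      obtain ⟨v, hv, f, hf, rfl⟩ := mem_sup_of_normal_left.mp hx
      rw [show k * (v * f) * k⁻¹ = (k * v * k⁻¹) * (k * f * k⁻¹) by group]
      exact mul_mem (mem_sup_left (Subgroup.Normal.conj_mem inferInstance v hv k))
        (mem_sup_right ((mem_normalizer_iff.mp (hQΦ hk) f).mp hf))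
    rw [mem_normalizer_iff]
    intro x
    refine ⟨this k hk x, fun hx => ?_⟩
    have h2 := this k⁻¹ (inv_mem hk) _ hx
    simpa [mul_assoc] using h2
  have hNc : ∀ a b : H, a * b * a⁻¹ * b⁻¹ ∈ V ⊔ Φ := by
    intro a b
    obtain ⟨v, hv, k, hk, rfl⟩ := hdec a
    obtain ⟨w, hw, l, hl, rfl⟩ := hdec b
    rw [← QuotientGroup.eq_one_iff]
    have hv' : ((v : H) : H ⧸ (V ⊔ Φ)) = 1 := (QuotientGroup.eq_one_iff _).mpr (mem_sup_left hv)
    have hw' : ((w : H) : H ⧸ (V ⊔ Φ)) = 1 := (QuotientGroup.eq_one_iff _).mpr (mem_sup_left hw)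
    have hkl : ((k * l * k⁻¹ * l⁻¹ : H) : H ⧸ (V ⊔ Φ)) = 1 :=
      (QuotientGroup.eq_one_iff _).mpr (mem_sup_right (hΦc k hk l hl))
    simpa [hv', hw'] using hkl
  have hfixQ : ∀ x ∈ Q, φ x = x → x ∈ Φ := by
    intro x hx hxf
    obtain ⟨v, hv, f, hf, e⟩ := mem_sup_of_normal_left.mp
      (fixed_mem_of_commutator_le h.pow_eq h.cop h.top (V ⊔ Φ) (hV.sup hΦi) hNc hxf)
    have hv1 := huniq v hv f (hΦQ hf) (e.symm ▸ hx)
    rw [hv1, one_mul] at e
    exact e ▸ hf
  have hLne : ∀ L : Subgroup H, L ≤ Q → L ≠ Q → V ⊔ L ≠ ⊤ := by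
    intro L hL hne he
    apply hne
    refine le_antisymm hL fun x hx => ?_
    obtain ⟨v, hv, l, hl, rfl⟩ := mem_sup_of_normal_left.mp (he ▸ mem_top x)
    rw [huniq v hv l (hL hl) hx, one_mul]
    exact hl
  have hgoodV : V ≤ goodSubgroup φ p V := self_le_good hVc
  have hgoodL : ∀ L : Subgroup H, L ≤ Q → L ≠ Q → IsInv φ L →
      cgen φ L ≤ goodSubgroup φ p V := fun L hL hne hLi =>
    (cgen_mono φ le_sup_right).trans (cgen_le_good h.pow_eq hV hVc le_sup_left
      (h.sub _ (hV.sup hLi) (hLne L hL hne)))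
  -- some `k` has `[k, φ] = Q`
  obtain ⟨k, hk, hkQ⟩ : ∃ k ∈ Q, dgen φ k = Q := by
    by_contra hcon
    simp only [not_exists, not_and] at hcon
    have hd : ∀ k ∈ Q, dgen φ k ≤ Q := fun k hk => (dgen_le_cgen φ hk).trans hcgenQ.le
    have hgoodQ : goodSubgroup φ p V ⊓ Q = Q := by
      refine le_of_le_sup_frattini inf_le_right ?_
      conv_lhs => rw [← hcgenQ]
      refine (closure_le _).mpr ?_
      rintro _ ⟨a, ha, i, rfl⟩
      have hL : dgen φ a ⊔ Φ ≠ Q := fun he => hcon a ha (le_of_le_sup_frattini (hd a ha) he.ge)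
      have hLi : IsInv φ (dgen φ a ⊔ Φ) := (isInv_dgen φ a).sup hΦi
      have hmem : a⁻¹ * (φ ^ i) a ∈ dgen φ a ⊔ Φ := mem_sup_left (subset_closure ⟨i, rfl⟩)
      obtain ⟨d, hdd, c, hcL, hc, e⟩ := exists_cgen_mul_fixed h.pow_eq h.cop hLi hmem
      rw [SetLike.mem_coe, e]
      exact mul_mem (mem_sup_left ⟨hgoodL _ (sup_le (hd a ha) hΦQ) hL hLi hdd,
        (sup_le (hd a ha) hΦQ) (cgen_le φ hLi hdd)⟩)
        (mem_sup_right (hfixQ c ((sup_le (hd a ha) hΦQ) hcL) hc))
    have htop : goodSubgroup φ p V = ⊤ :=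
      top_le_iff.mp (hsup ▸ sup_le hgoodV (hgoodQ ▸ inf_le_left))
    obtain ⟨v, hv, hv1⟩ := V.bot_or_exists_ne_one.resolve_left hV0
    exact hv1 (hVZ v hv (h.le_center_of_good hV hVc htop hv))
  -- fixed elements of `Q` are good
  have hgoodfix : ∀ z ∈ Q, φ z = z → z ∈ goodSubgroup φ p V := by
    intro z hz hzf e he
    set c := pr φ p e with hcdef
    have hcV : c ∈ V := pr_mem hV p he
    have hcf : φ c = c := pr_fixed h.pow_eq hV hVc he
    have hpre : pr φ p (z * e * z⁻¹) = z * c * z⁻¹ := by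
      rw [hcdef]
      unfold pr
      rw [← MulAut.conj_apply, ← MulAut.conj_apply, map_list_prod, List.map_map]
      refine congrArg List.prod (List.map_congr_left fun j _ => ?_)
      simp [pow_apply_fixed hzf]
    rw [hpre]
    have hzR : z ∈ fixGen φ :=
      le_iSup (fun h : H => dgen φ h ⊓ fixG φ) k ⟨hkQ.symm ▸ hz, hzf⟩
    have hconjR : c * z⁻¹ * c⁻¹ ∈ fixGen φ := by
      refine le_iSup (fun h : H => dgen φ h ⊓ fixG φ) (k * c⁻¹) ⟨?_, ?_⟩
      · have hm : z⁻¹ ∈ dgen φ k := hkQ.symm ▸ inv_mem hz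
        have hmap : (dgen φ k).map (MulAut.conj c).toMonoidHom ≤ dgen φ (k * c⁻¹) := by
          unfold dgen
          rw [MonoidHom.map_closure]
          refine closure_mono ?_
          rintro _ ⟨_, ⟨i, rfl⟩, rfl⟩
          refine ⟨i, ?_⟩
          show c * (k⁻¹ * (φ ^ i) k) * c⁻¹ = _
          rw [map_mul, map_inv, pow_apply_fixed hcf]
          group
        exact hmap ⟨z⁻¹, hm, rfl⟩
      · show φ (c * z⁻¹ * c⁻¹) = c * z⁻¹ * c⁻¹
        rw [map_mul, map_mul, map_inv, map_inv, hcf, hzf]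
    have := mul_mem hzR hconjR
    simpa [mul_assoc] using this
  -- `Φ` centralises `V`
  have hΦne : Φ ≠ Q := by
    intro he
    have hb : (⊥ : Subgroup H) = Q := le_of_le_sup_frattini bot_le (by rw [bot_sup_eq]; exact he.ge)
    apply hQne
    rw [← hb] at hsup ⊢
    rw [sup_bot_eq] at hsup
    exact absurd ⟨⟨fun a b => Subtype.ext (hVV a (by rw [hsup]; exact mem_top _) b
      (by rw [hsup]; exact mem_top _))⟩⟩ h.not_comm
  have hgoodΦ : V ⊔ Φ ≤ goodSubgroup φ p V := by
    refine sup_le hgoodV fun x hx => ?_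
    obtain ⟨d, hd, c, hcΦ, hc, rfl⟩ := exists_cgen_mul_fixed h.pow_eq h.cop hΦi hx
    exact mul_mem (hgoodL Φ hΦQ hΦne hΦi hd) (hgoodfix c (hΦQ hcΦ) hc)
  have hΦV : ∀ f ∈ Φ, ∀ v ∈ V, f * v = v * f := by
    have h1 : ⁅V ⊔ Φ, V⁆ = ⊥ := by
      by_contra hne
      have heq : ⁅V ⊔ Φ, V⁆ = V := by
        by_contra hne'
        exact hne (hmin _ inferInstance (isInv_commutator (hV.sup hΦi) hV)
          (commutator_le_right _ _) hne')
      refine h.norm V inferInstance hV hV0 ?_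
      have h2 := commutator_fixed_le h.cop hV hVc _ hgoodΦ
      rwa [heq] at h2
    intro f hf v hv
    have h2 := commutator_mem_commutator (mem_sup_right (S := V) hf) hv
    rwa [h1, mem_bot, commutatorElement_eq_one_iff_mul_comm] at h2
  -- every element of `V` is a sum of two fixed ones
  have hkey : ∀ v ∈ V, ∃ a ∈ V, ∃ b ∈ V, φ a = a ∧ φ b = b ∧ v = a * (k⁻¹ * b * k) := by
    intro v hv
    set D := dgen φ (k * v) with hD
    set M := QuotientGroup.mk' V with hM
    have hgen : ∀ i : ℕ, M ((k * v)⁻¹ * (φ ^ i) (k * v)) = M (k⁻¹ * (φ ^ i) k) := by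
      intro i
      have h1 : M v = 1 := (QuotientGroup.eq_one_iff _).mpr hv
      have h2 : M ((φ ^ i) v) = 1 := (QuotientGroup.eq_one_iff _).mpr (hV.pow_mem i v hv)
      simp only [map_mul, map_inv, h1, h2, mul_one]
    have hDV : V ⊔ D = ⊤ := by
      refine top_le_iff.mp (hsup ▸ sup_le le_sup_left ?_)
      rw [← hkQ]
      refine (closure_le _).mpr ?_
      rintro _ ⟨i, rfl⟩
      have h1 : ((k * v)⁻¹ * (φ ^ i) (k * v))⁻¹ * (k⁻¹ * (φ ^ i) k) ∈ V :=
        QuotientGroup.eq.mp (hgen i)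
      rw [SetLike.mem_coe, ← mul_inv_cancel_left ((k * v)⁻¹ * (φ ^ i) (k * v)) (k⁻¹ * (φ ^ i) k)]
      exact mul_mem (mem_sup_right (subset_closure ⟨i, rfl⟩)) (mem_sup_left h1)
    have hDd : V ⊓ D = ⊥ := by
      haveI hn : (V ⊓ D).Normal := by
        refine ⟨fun x hx g => ?_⟩
        obtain ⟨w, hw, d, hd, rfl⟩ := mem_sup_of_normal_left.mp (hDV.symm ▸ mem_top g)
        have hy : d * x * d⁻¹ ∈ V ⊓ D :=
          ⟨Subgroup.Normal.conj_mem inferInstance x hx.1 d,
            D.mul_mem (D.mul_mem hd hx.2) (D.inv_mem hd)⟩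
        rw [show w * d * x * (w * d)⁻¹ = w * (d * x * d⁻¹) * w⁻¹ by group, hVV w hw _ hy.1,
          mul_inv_cancel_right]
        exact hy
      by_contra hne
      have he : V ⊓ D = V := by
        by_contra hne'
        exact hne (hmin _ hn (hV.inf (isInv_dgen φ _)) inf_le_left hne')
      exact h.dgen_ne_top (k * v) (top_le_iff.mp (hDV ▸ sup_le (he ▸ inf_le_right) le_rfl))
    have hcardQ : Nat.card D = Nat.card Q := by
      have c1 : IsComplement' V D := isComplement'_of_disjoint_and_mul_eq_univ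
        (disjoint_iff.mpr hDd) (by rw [← normal_mul, hDV, coe_top])
      have c2 : IsComplement' V Q := isComplement'_of_disjoint_and_mul_eq_univ
        (disjoint_iff.mpr hdisj) (by rw [← normal_mul, hsup, coe_top])
      exact Nat.eq_of_mul_eq_mul_left Nat.card_pos (c1.card_mul.trans c2.card_mul.symm)
    obtain ⟨c, hcV, hDc⟩ : ∃ c ∈ V, D = Q.map (MulAut.conj c).toMonoidHom := by
      obtain ⟨n, hn⟩ := IsPGroup.iff_card.mp hQ
      have hqi : ¬ q ∣ Q.index := by
        have c2 : IsComplement' V Q := isComplement'_of_disjoint_and_mul_eq_univ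
          (disjoint_iff.mpr hdisj) (by rw [← normal_mul, hsup, coe_top])
        rw [c2.index_eq_card]
        exact hqV
      let S : Sylow q H := hQ.toSylow hqi
      obtain ⟨T, hT⟩ := (IsPGroup.of_card (hcardQ.trans hn)).exists_le_sylow
      obtain ⟨g, hg⟩ := MulAction.exists_smul_eq H S T
      obtain ⟨c, hcV, l, hl, rfl⟩ := hdec g
      have hTS : (T : Subgroup H) = Q.map (MulAut.conj c).toMonoidHom := by
        rw [← hg]
        ext y
        show y ∈ Q.map (MulAut.conj (c * l)).toMonoidHom ↔ _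
        simp only [mem_map, MulEquiv.coe_toMonoidHom, MulAut.conj_apply]
        constructor
        · rintro ⟨x, hx, rfl⟩
          exact ⟨l * x * l⁻¹, mul_mem (mul_mem hl hx) (inv_mem hl), by group⟩
        · rintro ⟨x, hx, rfl⟩
          exact ⟨l⁻¹ * x * l, mul_mem (mul_mem (inv_mem hl) hx) hl, by group⟩
      refine ⟨c, hcV, eq_of_le_of_card_ge (hTS ▸ hT) (le_of_eq ?_)⟩
      rw [hcardQ]
      exact (Nat.card_congr (Q.equivMapOfInjective _ (MulAut.conj c).injective).toEquiv).symm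
    have hn1 : φ c = c := by
      have hnorm : ∀ x ∈ Q, c⁻¹ * φ c * x * (c⁻¹ * φ c)⁻¹ ∈ Q := by
        intro x hx
        obtain ⟨y, hy, rfl⟩ : ∃ y ∈ Q, φ y = x := by
          have h1 := H1.map_eq_of_invariant φ hQi
          rw [← h1] at hx
          exact hx
        have h2 : φ (c * y * c⁻¹) ∈ D := by
          refine isInv_dgen φ _ _ ?_
          show _ ∈ D
          rw [hDc]
          exact ⟨y, hy, rfl⟩
        rw [hDc] at h2
        obtain ⟨y', hy', e⟩ := h2
        have e' : c * y' * c⁻¹ = φ c * φ y * (φ c)⁻¹ := by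
          rw [← map_inv φ c, ← map_mul, ← map_mul]; exact e
        have : c⁻¹ * φ c * φ y * (c⁻¹ * φ c)⁻¹ = y' := by
          calc c⁻¹ * φ c * φ y * (c⁻¹ * φ c)⁻¹ = c⁻¹ * (φ c * φ y * (φ c)⁻¹) * c := by group
            _ = y' := by rw [← e']; group
        rw [this]; exact hy'
      have hnV : c⁻¹ * φ c ∈ V := mul_mem (inv_mem hcV) (hV c hcV)
      have h3 := hcent _ hnV fun x hx => by
        have hm : c⁻¹ * φ c * x * (c⁻¹ * φ c)⁻¹ * x⁻¹ ∈ V ⊓ Q := by
          refine ⟨?_, Q.mul_mem (hnorm x hx) (Q.inv_mem hx)⟩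
          rw [show c⁻¹ * φ c * x * (c⁻¹ * φ c)⁻¹ * x⁻¹ =
            c⁻¹ * φ c * (x * (c⁻¹ * φ c)⁻¹ * x⁻¹) by group]
          exact mul_mem hnV (Subgroup.Normal.conj_mem inferInstance _ (inv_mem hnV) x)
        rw [hdisj, mem_bot, ← commutatorElement_def, commutatorElement_eq_one_iff_mul_comm] at hm
        exact hm.symm
      exact (inv_mul_eq_one.mp h3).symm
    have h1 : (k * v)⁻¹ * φ (k * v) ∈ D := subset_closure ⟨1, by rw [pow_one]⟩
    rw [hDc] at h1
    obtain ⟨x, hx, e⟩ := h1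
    have e' : c * x * c⁻¹ = (k * v)⁻¹ * φ (k * v) := e
    set d := k⁻¹ * φ k with hd
    have hdQ : d ∈ Q := mul_mem (inv_mem hk) (hQi k hk)
    have hxd : x = d := by
      have hc1 : M c = 1 := (QuotientGroup.eq_one_iff _).mpr hcV
      have h2 := congrArg M e'
      have h4 := hgen 1
      rw [pow_one] at h4
      rw [h4, map_mul, map_mul, map_inv, hc1, one_mul, inv_one, mul_one] at h2
      have h3 : x⁻¹ * d ∈ V ⊓ Q := ⟨QuotientGroup.eq.mp h2, Q.mul_mem (Q.inv_mem hx) hdQ⟩
      rw [hdisj, mem_bot] at h3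
      exact inv_mul_eq_one.mp h3
    subst hxd
    have hw : d * φ (v * c) = v * c * d := by
      have h2 : d * φ v = v * c * d * c⁻¹ := by
        rw [mul_assoc v, mul_assoc v, e', map_mul, hd]; group
      rw [map_mul, hn1, ← mul_assoc, h2, inv_mul_cancel_right]
    set w := v * c with hwdef
    have hwV : w ∈ V := mul_mem hv hcV
    refine ⟨c⁻¹, inv_mem hcV, k * w * k⁻¹, Subgroup.Normal.conj_mem inferInstance w hwV k,
      by rw [map_inv, hn1], ?_, ?_⟩
    · calc φ (k * w * k⁻¹) = φ k * φ w * (φ k)⁻¹ := by rw [map_mul, map_mul, map_inv]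
        _ = k * (d * φ w) * (φ k)⁻¹ := by rw [hd]; group
        _ = k * w * k⁻¹ := by rw [hw, hd]; group
    · rw [show k⁻¹ * (k * w * k⁻¹) * k = w by group, hwdef, hVV v hv c hcV, inv_mul_cancel_left]
  -- `V` is elementary abelian
  obtain ⟨t, ht, htV⟩ := Nat.exists_prime_and_dvd (n := Nat.card V)
    (fun he => hV0 (card_eq_one.mp he))
  haveI : Fact t.Prime := ⟨ht⟩
  have hexp : ∀ x ∈ V, x ^ t = 1 := by
    let T : Subgroup H :=
      { carrier := {x | x ∈ V ∧ x ^ t = 1}
        one_mem' := ⟨one_mem _, one_pow t⟩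
        mul_mem' := fun {a b} ha hb => ⟨mul_mem ha.1 hb.1, by
          rw [(show Commute a b from hVV a ha.1 b hb.1).mul_pow, ha.2, hb.2, one_mul]⟩
        inv_mem' := fun {a} ha => ⟨inv_mem ha.1, by rw [inv_pow, ha.2, inv_one]⟩ }
    have hTn : T.Normal := ⟨fun x hx g => ⟨Subgroup.Normal.conj_mem inferInstance x hx.1 g, by
      rw [conj_pow, hx.2, mul_one, mul_inv_cancel]⟩⟩
    have hTi : IsInv φ T := fun x hx => ⟨hV x hx.1, by rw [← map_pow, hx.2, map_one]⟩
    have hT0 : T ≠ ⊥ := by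
      obtain ⟨x, hx⟩ := exists_prime_orderOf_dvd_card' t htV
      intro he
      have hxT : (x : H) ∈ T := ⟨x.2, by rw [← Subgroup.coe_pow, ← hx, pow_orderOf_eq_one]; rfl⟩
      rw [he, mem_bot] at hxT
      rw [orderOf_eq_one_iff.mpr (Subtype.ext hxT : x = 1)] at hx
      exact ht.one_lt.ne hx
    have hTV : T = V := by
      by_contra hne
      exact hT0 (hmin T hTn hTi (fun x hx => hx.1) hne)
    intro x hx
    rw [← hTV] at hx
    exact hx.2
  letI : CommGroup V := { (inferInstance : Group V) with mul_comm := hVc.is_comm.comm }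
  haveI : Fintype Q := Fintype.ofFinite Q
  haveI : Nontrivial (Additive V) := (Subgroup.nontrivial_iff_ne_bot V).mpr hV0
  obtain ⟨hmod⟩ : Nonempty (Module (ZMod t) (Additive V)) := ⟨AddCommGroup.zmodModule fun x =>
    Additive.toMul.injective (Subtype.ext (hexp _ (Additive.toMul x).2))⟩
  haveI : Finite (Additive V) := inferInstanceAs (Finite V)
  haveI : FiniteDimensional (ZMod t) (Additive V) := Module.Finite.of_finite
  let ρ : Q →* Module.End (ZMod t) (Additive V) :=
    { toFun := fun g => AddMonoidHom.toZModLinearMap t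
        (MonoidHom.toAdditive ((MulAut.conjNormal (g : H) : MulAut V).toMonoidHom))
      map_one' := LinearMap.ext fun v => by
        show Additive.ofMul ((MulAut.conjNormal ((1 : Q) : H) : MulAut V) (Additive.toMul v)) = v
        rw [OneMemClass.coe_one, map_one]; rfl
      map_mul' := fun a b => LinearMap.ext fun v => by
        show Additive.ofMul ((MulAut.conjNormal ((a * b : Q) : H) : MulAut V) (Additive.toMul v)) =
          Additive.ofMul ((MulAut.conjNormal (a : H) : MulAut V)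
            ((MulAut.conjNormal (b : H) : MulAut V) (Additive.toMul v)))
        rw [Subgroup.coe_mul, map_mul]; rfl }
  let X : Module.End (ZMod t) (Additive V) :=
    AddMonoidHom.toZModLinearMap t (MonoidHom.toAdditive (H1.restrictAut φ V hV).toMonoidHom)
  have hρv : ∀ (g : Q) (v : Additive V),
      ((Additive.toMul (ρ g v) : V) : H) = (g : H) * ((Additive.toMul v : V) : H) * (g : H)⁻¹ :=
    fun g v => MulAut.conjNormal_apply (g : H) (Additive.toMul v)
  have hXv : ∀ v : Additive V,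
      ((Additive.toMul (X v) : V) : H) = φ ((Additive.toMul v : V) : H) := fun v => rfl
  have hext : ∀ f f' : Module.End (ZMod t) (Additive V),
      (∀ v, ((Additive.toMul (f v) : V) : H) = ((Additive.toMul (f' v) : V) : H)) → f = f' :=
    fun f f' hh => LinearMap.ext fun v => Additive.toMul.injective (Subtype.ext (hh v))
  have hXpow : ∀ (i : ℕ) (v : Additive V),
      ((Additive.toMul ((X ^ i) v) : V) : H) = (φ ^ i) ((Additive.toMul v : V) : H) := by
    intro i
    induction i with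
    | zero => intro v; rfl
    | succ i ih => intro v; rw [pow_succ, Module.End.mul_apply, ih, hXv, pow_succ, MulAut.mul_apply]
  refine no_two_fixed_spaces (F := ZMod t) (Q := Q) ?_ (H1.restrictAut φ Q hQi) h.odd ?_
    (restrict_pow_eq_one h.pow_eq hQi) ?_ ρ ?_ ?_ X ?_ ?_ ⟨k⁻¹, inv_mem hk⟩ ?_
  · rw [Ne, CharP.cast_eq_zero_iff (ZMod t) t, ← Nat.card_eq_fintype_card]
    intro hd
    obtain ⟨n, hn⟩ := IsPGroup.iff_card.mp hQ
    rw [hn] at hd
    exact hqV (((Nat.prime_dvd_prime_iff_eq ht Fact.out).mp (ht.dvd_of_dvd_pow hd)) ▸ htV)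
  · rw [Ne, CharP.cast_eq_zero_iff (ZMod t) t, Nat.prime_dvd_prime_iff_eq ht hp]
    exact fun he => h.cop (he ▸ htV.trans (card_subgroup_dvd_card V))
  · apply map_injective Q.subtype_injective
    rw [map_cgen_restrict, hcgenQ, ← MonoidHom.range_eq_map, range_subtype]
  · intro a b
    apply hext
    intro v
    have hcm : (b : H) * a * (b : H)⁻¹ * (a : H)⁻¹ ∈ Φ := hΦc _ b.2 _ a.2
    rw [Module.End.mul_apply, Module.End.mul_apply, hρv, hρv, hρv, hρv]
    obtain ⟨x, hxV, hx⟩ : ∃ x ∈ V, x = (a : H) * ((Additive.toMul v : V) : H) * (a : H)⁻¹ :=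
      ⟨_, Subgroup.Normal.conj_mem inferInstance _ (Additive.toMul v).2 _, rfl⟩
    obtain ⟨f, hf⟩ : ∃ f, f = (b : H) * a * (b : H)⁻¹ * (a : H)⁻¹ := ⟨_, rfl⟩
    have hy : (b : H) * x * (b : H)⁻¹ ∈ V := Subgroup.Normal.conj_mem inferInstance _ hxV _
    have e : (b : H) * x * (b : H)⁻¹ = f * ((a : H) * ((b : H) * ((Additive.toMul v : V) : H) *
        (b : H)⁻¹) * (a : H)⁻¹) * f⁻¹ := by rw [hx, hf]; group
    have hz : (a : H) * ((b : H) * ((Additive.toMul v : V) : H) * (b : H)⁻¹) * (a : H)⁻¹ ∈ V :=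
      Subgroup.Normal.conj_mem inferInstance _
        (Subgroup.Normal.conj_mem inferInstance _ (Additive.toMul v).2 _) _
    rw [hΦV f (hf ▸ hcm) _ hz, mul_inv_cancel_right] at e
    rw [← hx]
    exact e.symm
  · intro v hv
    apply Additive.toMul.injective
    apply Subtype.ext
    refine hcent _ (Additive.toMul v).2 fun x hx => ?_
    have h2 := congrArg (fun y : Additive V => ((Additive.toMul y : V) : H)) (hv ⟨x, hx⟩)
    simp only [hρv] at h2
    calc x * ((Additive.toMul v : V) : H) = x * ((Additive.toMul v : V) : H) * x⁻¹ * x := by group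
      _ = _ := by rw [h2]
  · apply hext
    intro v
    rw [hXpow, h.pow_eq]; rfl
  · intro g
    apply hext
    intro v
    rw [Module.End.mul_apply, Module.End.mul_apply, hXv, hρv, hρv, hXv]
    show φ ((g : H) * _ * (g : H)⁻¹) = φ (g : H) * _ * (φ (g : H))⁻¹
    simp [mul_assoc]
  · intro v
    obtain ⟨a, ha, b, hb, haf, hbf, e⟩ := hkey _ (Additive.toMul v).2
    refine ⟨Additive.ofMul ⟨a, ha⟩, Additive.ofMul ⟨b, hb⟩,
      Additive.toMul.injective (Subtype.ext haf), Additive.toMul.injective (Subtype.ext hbf), ?_⟩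
    apply Additive.toMul.injective
    apply Subtype.ext
    rw [e]
    show a * (k⁻¹ * b * k) = a * ((Additive.toMul (ρ _ _) : V) : H)
    rw [hρv]
    simp

/-- The nilpotent class two step. -/
theorem MinCE.prime_power (h : MinCE φ p) [Group.IsSolvable H] [Nontrivial H] {q : ℕ}
    [Fact q.Prime] (hq : IsPGroup q H) : False := by
  classical
  have hΦi : IsInv φ (frattini H) := isInv_of_characteristic φ
  have hc : ∀ a b : H, a * b * a⁻¹ * b⁻¹ ∈ frattini H := fun a b =>
    H6.commutator_le_frattini hq (commutator_mem_commutator (mem_top a) (mem_top b))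
  have hfix : ∀ x, φ x = x → x ∈ frattini H := fun x hx =>
    fixed_mem_of_commutator_le h.pow_eq h.cop h.top _ hΦi hc hx
  let L : H → Subgroup H := fun a => dgen φ a ⊔ frattini H
  have hLi : ∀ a, IsInv φ (L a) := fun a => (isInv_dgen φ a).sup hΦi
  have hLne : ∀ a, L a ≠ ⊤ := fun a he => h.dgen_ne_top a (frattini_nongenerating he)
  have hFne : frattini H ≠ ⊤ := fun he => hLne 1 (top_le_iff.mp (he.ge.trans le_sup_right))
  by_cases hΦZ : frattini H ≤ center H
  · -- class two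
    have hab : ∀ a, ∀ x ∈ L a, ∀ y ∈ L a, x * y = y * x := by
      intro a
      have hcomm := cgen_commute_of_class_two h.pow_eq h.cop (hLi a)
        (fun x _ y _ => hΦZ (hc x y)) h.center_le_fix
        (fun x hx hxc => h.inf_center (hLi a) (hLne a) hx hxc)
      intro x hx y hy
      obtain ⟨d, hd, c, -, hcf, rfl⟩ := exists_cgen_mul_fixed h.pow_eq h.cop (hLi a) hx
      have hcz : y * c = c * y := mem_center_iff.mp (hΦZ (hfix c hcf)) y
      rw [mul_assoc, ← hcz, ← mul_assoc, hcomm d hd y hy, mul_assoc]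
    haveI : Finite (H ⧸ center H) := inferInstance
    let δ : H ⧸ center H → H ⧸ center H := fun x => x⁻¹ * quotAut φ (center H)
      (isInv_of_characteristic φ) x
    have hcomm : ∀ x y : H ⧸ center H, x * y = y * x := by
      intro x y
      obtain ⟨x, rfl⟩ := QuotientGroup.mk_surjective x
      obtain ⟨y, rfl⟩ := QuotientGroup.mk_surjective y
      rw [← QuotientGroup.mk_mul, ← QuotientGroup.mk_mul, QuotientGroup.eq]
      have := hΦZ (hc y⁻¹ x⁻¹)
      simpa [mul_assoc] using this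
    have hfixq : ∀ x : H, x⁻¹ * φ x ∈ center H → x ∈ center H := by
      intro x hx
      obtain ⟨c, -, hcf, hxc⟩ := exists_fixed_lift h.pow_eq h.cop (isInv_top φ)
        (isInv_of_characteristic φ) (mem_top x) hx
      have := mul_mem (hΦZ (hfix c hcf)) (inv_mem hxc)
      simpa using this
    have hinj : Function.Injective δ := by
      intro x y he
      obtain ⟨x, rfl⟩ := QuotientGroup.mk_surjective x
      obtain ⟨y, rfl⟩ := QuotientGroup.mk_surjective y
      rw [QuotientGroup.eq]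
      apply hfixq
      rw [← QuotientGroup.eq_one_iff]
      have he' : (x : H ⧸ center H)⁻¹ * ((φ x : H) : H ⧸ center H) =
          (y : H ⧸ center H)⁻¹ * ((φ y : H) : H ⧸ center H) := he
      simp only [QuotientGroup.mk_mul, QuotientGroup.mk_inv, map_mul, map_inv, mul_inv_rev, inv_inv]
      generalize ((x : H) : H ⧸ center H) = X at he' ⊢
      generalize ((y : H) : H ⧸ center H) = Y at he' ⊢
      generalize ((φ x : H) : H ⧸ center H) = X' at he' ⊢
      generalize ((φ y : H) : H ⧸ center H) = Y' at he' ⊢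
      calc Y⁻¹ * X * (X'⁻¹ * Y') = (X⁻¹ * X')⁻¹ * (Y⁻¹ * Y') := by
            rw [mul_inv_rev, inv_inv, hcomm Y⁻¹ X, mul_assoc, ← mul_assoc Y⁻¹, hcomm Y⁻¹ X'⁻¹,
              mul_assoc X'⁻¹ Y⁻¹, ← mul_assoc X, hcomm X X'⁻¹, mul_assoc]
        _ = 1 := by rw [he']; group
    have hsurj := Finite.surjective_of_injective hinj
    have hB0 : ∀ w, w * φ w = φ w * w := by
      intro w
      obtain ⟨x, hx⟩ := hsurj (w : H ⧸ center H)
      obtain ⟨x, rfl⟩ := QuotientGroup.mk_surjective x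
      have hx' : ((x⁻¹ * φ x : H) : H ⧸ center H) = (w : H ⧸ center H) := hx
      have hz : (x⁻¹ * φ x)⁻¹ * w ∈ center H := QuotientGroup.eq.mp hx'
      set d := x⁻¹ * φ x with hd
      have hdm : d ∈ dgen φ x := subset_closure ⟨1, by rw [pow_one]⟩
      have hdd := hab x d (mem_sup_left hdm) (φ d) (mem_sup_left (isInv_dgen φ x _ hdm))
      have hw : w = d * (d⁻¹ * w) := by group
      obtain ⟨z, hzdef⟩ : ∃ z, z = d⁻¹ * w := ⟨_, rfl⟩
      rw [← hzdef] at hw hz
      have hzf : φ z = z := h.center_le_fix hz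
      rw [hw, map_mul, hzf]
      calc d * z * (φ d * z) = d * φ d * (z * z) := by
            rw [mul_assoc d, ← mul_assoc z, ← mem_center_iff.mp hz (φ d)]; group
        _ = φ d * d * (z * z) := by rw [hdd]
        _ = φ d * z * (d * z) := by
            rw [mul_assoc (φ d) z, ← mul_assoc z d, ← mem_center_iff.mp hz d]; group
    -- the commutator form
    let B : H → H → H := fun x y => x * y * x⁻¹ * y⁻¹
    have hB : ∀ x y, B x y ∈ center H := fun x y => hΦZ (hc x y)
    have hBl : ∀ x y z, B (x * y) z = B x z * B y z := by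
      intro x y z
      show x * y * z * (x * y)⁻¹ * z⁻¹ = _
      calc x * y * z * (x * y)⁻¹ * z⁻¹ = x * B y z * z * x⁻¹ * z⁻¹ := by
            show _ = x * (y * z * y⁻¹ * z⁻¹) * z * x⁻¹ * z⁻¹
            group
        _ = B y z * (x * z * x⁻¹ * z⁻¹) := by rw [mem_center_iff.mp (hB y z) x]; group
        _ = B x z * B y z := (mem_center_iff.mp (hB y z) _).symm
    have hBr : ∀ x y z, B x (y * z) = B x y * B x z := by
      intro x y z
      show x * (y * z) * x⁻¹ * (y * z)⁻¹ = _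
      calc x * (y * z) * x⁻¹ * (y * z)⁻¹ = x * y * x⁻¹ * B x z * y⁻¹ := by
            show _ = x * y * x⁻¹ * (x * z * x⁻¹ * z⁻¹) * y⁻¹
            group
        _ = B x y * B x z := by
            rw [mul_assoc (x * y * x⁻¹), ← mem_center_iff.mp (hB x z) y⁻¹, ← mul_assoc]
    have hBφ : ∀ x y, B (φ x) (φ y) = B x y := by
      intro x y
      have h1 : φ (B x y) = B x y := h.center_le_fix (hB x y)
      simpa [B, map_mul, map_inv] using h1
    have hB0' : ∀ w, B w (φ w) = 1 := fun w => by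
      show ⁅w, φ w⁆ = 1
      exact commutatorElement_eq_one_iff_mul_comm.mpr (hB0 w)
    have hBswap : ∀ x y, B x (φ y) = B (φ x) y := by
      intro x y
      have h1 := hB0' (x * y)
      rw [map_mul, hBl, hBr, hBr, hB0', hB0', one_mul, mul_one] at h1
      have h2 : B y (φ x) = (B (φ x) y)⁻¹ := by
        show y * φ x * y⁻¹ * (φ x)⁻¹ = (φ x * y * (φ x)⁻¹ * y⁻¹)⁻¹
        group
      rw [h2] at h1
      exact mul_inv_eq_one.mp h1
    have hsq : ∀ y : H, (φ ^ 2) y * y⁻¹ ∈ center H := by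
      intro y
      rw [mem_center_iff]
      intro x
      have h1 : B x ((φ ^ 2) y) = B x y := by
        rw [pow_two, MulAut.mul_apply, hBswap, hBφ]
      have h2 : B x ((φ ^ 2) y * y⁻¹) = 1 := by
        rw [hBr, h1, ← hBr, mul_inv_cancel]
        simp [B]
      exact commutatorElement_eq_one_iff_mul_comm.mp h2
    have hφ1 : ∀ y : H, y⁻¹ * φ y ∈ center H := by
      intro y
      have hcen : ∀ (n : ℕ) (y : H), ((((φ ^ 2) ^ n) y : H) : H ⧸ center H) = (y : H ⧸ center H) := by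
        intro n
        induction n with
        | zero => intro y; rfl
        | succ n ih =>
          intro y
          rw [pow_succ, MulAut.mul_apply, ih]
          refine (QuotientGroup.eq.mpr ?_).symm
          rw [show y⁻¹ * (φ ^ 2) y = y⁻¹ * ((φ ^ 2) y * y⁻¹) * y by group,
            mem_center_iff.mp (hsq y) y⁻¹]
          simpa using hsq y
      rw [← QuotientGroup.eq]
      obtain ⟨m, hm⟩ : Odd p := (Fact.out : p.Prime).odd_of_ne_two (by have := h.odd; omega)
      have h3 := hcen (m + 1) y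
      rw [← pow_mul, show 2 * (m + 1) = p + 1 by omega, pow_succ, h.pow_eq, one_mul] at h3
      exact h3.symm
    obtain ⟨x, hx⟩ : ∃ x, x ∉ center H := by
      by_contra hcon
      exact h.center_ne_top ((eq_top_iff' _).mpr (not_exists_not.mp hcon))
    exact hx (hfixq x (hφ1 x))
  · -- the Frattini subgroup is not central
    obtain ⟨E, ⟨hEn, hE, hEΦ, hEZ⟩, hEmin⟩ := Set.exists_min_image
      {E : Subgroup H | E.Normal ∧ IsInv φ E ∧ E ≤ frattini H ∧ ¬ E ≤ center H}
      (fun E => Nat.card E) (Set.toFinite _) ⟨frattini H, inferInstance, hΦi, le_rfl, hΦZ⟩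
    haveI := hEn
    have hEne : E ≠ ⊤ := fun he => hFne (top_le_iff.mp (he ▸ hEΦ))
    have hmin : ∀ K : Subgroup H, K.Normal → IsInv φ K → K ≤ E → K ≠ E → K ≤ center H := by
      intro K h1 h2 h3 h4
      by_contra hcon
      exact h4 (eq_of_le_of_card_ge h3 (hEmin K ⟨h1, h2, h3.trans hEΦ, hcon⟩))
    have hEc := h.comm_of_minimal hEn hE hEne hEZ hmin
    refine hEZ (h.le_center_of_good hE hEc (frattini_nongenerating (top_le_iff.mp ?_)))
    rw [← h.top]
    refine (closure_le _).mpr ?_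
    rintro _ ⟨a, -, i, rfl⟩
    obtain ⟨d, hd, c, -, hcf, e⟩ := exists_cgen_mul_fixed h.pow_eq h.cop (hLi a)
      (mem_sup_left (subset_closure ⟨i, rfl⟩) : a⁻¹ * (φ ^ i) a ∈ L a)
    rw [SetLike.mem_coe, e]
    exact mul_mem (mem_sup_left (cgen_le_good h.pow_eq hE hEc (hEΦ.trans le_sup_right)
      (h.sub _ (hLi a) (hLne a)) hd)) (mem_sup_right (hfix c hcf))

/-- There is no minimal counterexample. -/
theorem MinCE.false (h : MinCE φ p) [Group.IsSolvable H] [Nontrivial H] : False := by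
  classical
  by_cases hpp : ∃ q : ℕ, q.Prime ∧ IsPGroup q H
  · obtain ⟨q, hq, hqH⟩ := hpp
    haveI : Fact q.Prime := ⟨hq⟩
    exact h.prime_power hqH
  obtain ⟨E, ⟨hEn, hE, hEZ⟩, hEmin⟩ := Set.exists_min_image
    {E : Subgroup H | E.Normal ∧ IsInv φ E ∧ ¬ E ≤ center H} (fun E => Nat.card E)
    (Set.toFinite _)
    ⟨⊤, inferInstance, isInv_top φ, fun he => h.center_ne_top (top_le_iff.mp he)⟩
  haveI := hEn
  have hmin : ∀ K : Subgroup H, K.Normal → IsInv φ K → K ≤ E → K ≠ E → K ≤ center H := by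
    intro K h1 h2 h3 h4
    by_contra hcon
    exact h4 (eq_of_le_of_card_ge h3 (hEmin K ⟨h1, h2, hcon⟩))
  have hEne : E ≠ ⊤ := by
    intro he
    have hder : commutator H ≤ center H := hmin _ inferInstance (isInv_of_characteristic φ)
      (he ▸ le_top) (he ▸ (IsSolvable.commutator_lt_top_of_nontrivial (G := H)).ne)
    have hnil : Group.IsNilpotent H := by
      refine Group.of_quotient_center_nilpotent ?_
      haveI : IsMulCommutative (H ⧸ center H) :=
        Subgroup.Normal.quotient_commutative_iff_commutator_le.mpr hder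
      letI : CommGroup (H ⧸ center H) :=
        { (inferInstance : Group (H ⧸ center H)) with mul_comm := fun a b => mul_comm' a b }
      infer_instance
    apply h.center_ne_top
    rw [← index_eq_one]
    by_contra hi
    obtain ⟨q, hq, hqi⟩ := Nat.exists_prime_and_dvd hi
    haveI : Fact q.Prime := ⟨hq⟩
    obtain ⟨Q⟩ : Nonempty (Sylow q H) := inferInstance
    have hQn : (Q : Subgroup H).Normal :=
      ((Group.isNilpotent_of_finite_tfae (G := H)).out 0 3 rfl rfl).mp hnil q ⟨hq⟩ Q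
    haveI : (Q : Subgroup H).Characteristic := Sylow.characteristic_of_normal Q hQn
    have hQt : (Q : Subgroup H) ≠ E := fun he' => hpp ⟨q, hq, by
      have h1 := Q.2
      rw [he', he] at h1
      exact h1.of_equiv Subgroup.topEquiv⟩
    exact Q.not_dvd_index (hqi.trans (index_dvd_of_le
      (hmin _ hQn (isInv_of_characteristic φ) (he ▸ le_top) hQt)))
  have hEc := h.comm_of_minimal hEn hE hEne hEZ hmin
  -- a maximal invariant normal subgroup above `E`
  obtain ⟨M, ⟨hMn, hM, hEM, hMne⟩, hMmax⟩ := Set.exists_max_image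
    {M : Subgroup H | M.Normal ∧ IsInv φ M ∧ E ≤ M ∧ M ≠ ⊤} (fun M => Nat.card M)
    (Set.toFinite _) ⟨E, hEn, hE, le_rfl, hEne⟩
  haveI := hMn
  have hMc : commutator H ≤ M := by
    by_contra hcon
    have htop : M ⊔ commutator H = ⊤ := by
      by_contra hne
      have h1 := hMmax _ ⟨inferInstance, hM.sup (isInv_of_characteristic φ),
        hEM.trans le_sup_left, hne⟩
      exact hcon (le_sup_right.trans (eq_of_le_of_card_ge le_sup_left h1).ge)
    haveI : Nontrivial (H ⧸ M) := by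
      obtain ⟨x, hx⟩ : ∃ x, x ∉ M := by
        by_contra hc'
        exact hMne ((eq_top_iff' _).mpr (not_exists_not.mp hc'))
      exact ⟨x, 1, fun he => hx ((QuotientGroup.eq_one_iff x).mp he)⟩
    refine (IsSolvable.commutator_lt_top_of_nontrivial (G := H ⧸ M)).ne ?_
    rw [_root_.commutator_def, ← map_top_of_surjective _ (QuotientGroup.mk'_surjective M),
      ← map_commutator, ← _root_.commutator_def]
    apply comap_injective (QuotientGroup.mk'_surjective M)
    rw [comap_map_eq, QuotientGroup.ker_mk', sup_comm, htop, map_top_of_surjective _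
      (QuotientGroup.mk'_surjective M), comap_top]
  obtain ⟨q, hq, hqM⟩ := Nat.exists_prime_and_dvd (n := M.index)
    (fun he => hMne (index_eq_one.mp he))
  haveI : Fact q.Prime := ⟨hq⟩
  obtain ⟨Q, hQ⟩ := exists_invariant_sylow h.pow_eq h.cop q
  have hQne : (Q : Subgroup H) ≠ ⊤ := fun he => hpp ⟨q, hq, by
    have h1 := Q.2
    rw [he] at h1
    exact h1.of_equiv Subgroup.topEquiv⟩
  have hMQn : (M ⊔ (Q : Subgroup H)).Normal :=
    Subgroup.Normal.of_commutator_le (h := hMc.trans le_sup_left)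
  have hMQ : M ⊔ (Q : Subgroup H) = ⊤ := by
    by_contra hne
    have h1 := hMmax _ ⟨hMQn, hM.sup hQ, hEM.trans le_sup_left, hne⟩
    have h2 : (Q : Subgroup H) ≤ M := le_sup_right.trans (eq_of_le_of_card_ge le_sup_left h1).ge
    exact Q.not_dvd_index (hqM.trans (index_dvd_of_le h2))
  by_cases hEQ : E ⊔ (Q : Subgroup H) = ⊤
  · -- `H = E Q`
    set n := Nat.card (Q : Subgroup H) with hn
    set m := (Q : Subgroup H).index with hm
    have hcop : n.Coprime m := Q.card_coprime_index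
    have hEE : ∀ a ∈ E, ∀ b ∈ E, a * b = b * a := fun a ha b hb =>
      congrArg Subtype.val (hEc.is_comm.comm ⟨a, ha⟩ ⟨b, hb⟩)
    let A : ℕ → Subgroup H := fun s =>
      { carrier := {x | x ∈ E ∧ x ^ s = 1}
        one_mem' := ⟨one_mem _, one_pow _⟩
        mul_mem' := fun {a b} ha hb => ⟨mul_mem ha.1 hb.1, by
          rw [(show Commute a b from hEE a ha.1 b hb.1).mul_pow, ha.2, hb.2, one_mul]⟩
        inv_mem' := fun {a} ha => ⟨inv_mem ha.1, by rw [inv_pow, ha.2, inv_one]⟩ }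
    have hAn : ∀ s, (A s).Normal := fun s => ⟨fun x hx g => ⟨hEn.conj_mem x hx.1 g, by
      rw [conj_pow, hx.2, mul_one, mul_inv_cancel]⟩⟩
    have hAi : ∀ s, IsInv φ (A s) := fun s x hx => ⟨hE x hx.1, by rw [← map_pow, hx.2, map_one]⟩
    have hAn' : A n ≤ center H := by
      refine hmin _ (hAn n) (hAi n) (fun x hx => hx.1) fun he => hQne ?_
      haveI := hAn n
      have hpg : IsPGroup q (A n) := by
        obtain ⟨j, hj⟩ := IsPGroup.iff_card.mp Q.2
        intro x
        exact ⟨j, Subtype.ext (by rw [Subgroup.coe_pow, ← hj]; exact x.2.2)⟩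
      rw [← top_le_iff, ← hEQ]
      exact sup_le (he ▸ hpg.le_sylow_of_normal Q) le_rfl
    have hnm : n * m = Nat.card H := (Q : Subgroup H).card_mul_index
    have hsplit : ∀ e ∈ E, e ^ m ∈ A n ∧ e ^ n ∈ A m := fun e he =>
      ⟨⟨pow_mem he m, by rw [← pow_mul, mul_comm, hnm, pow_card_eq_one']⟩,
        ⟨pow_mem he n, by rw [← pow_mul, hnm, pow_card_eq_one']⟩⟩
    have hAm : A m = E := by
      by_contra hne
      have h1 := hmin _ (hAn m) (hAi m) (fun x hx => hx.1) hne
      refine hEZ fun e he => ?_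
      have hb := Nat.gcd_eq_gcd_ab n m
      rw [hcop.gcd_eq_one, Nat.cast_one] at hb
      rw [show e = (e ^ n) ^ n.gcdA m * (e ^ m) ^ n.gcdB m by
        rw [← zpow_natCast e n, ← zpow_natCast e m, ← zpow_mul, ← zpow_mul, ← zpow_add, ← hb,
          zpow_one]]
      exact mul_mem (zpow_mem (h1 (hsplit e he).2) _) (zpow_mem (hAn' (hsplit e he).1) _)
    have hEm : ∀ e ∈ E, e ^ m = 1 := fun e he => by
      rw [← hAm] at he; exact he.2
    have hone : ∀ e ∈ E, e ^ n = 1 → e = 1 := fun e he he' =>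
      orderOf_eq_one_iff.mp (Nat.eq_one_of_dvd_coprimes hcop
        (orderOf_dvd_of_pow_eq_one he') (orderOf_dvd_of_pow_eq_one (hEm e he)))
    have hdec : ∀ x : H, ∃ a ∈ E, ∃ k ∈ (Q : Subgroup H), x = a * k := by
      intro x
      obtain ⟨a, ha, k, hk, e⟩ := mem_sup_of_normal_left.mp (hEQ.symm ▸ mem_top x)
      exact ⟨a, ha, k, hk, e.symm⟩
    have hkn : ∀ k ∈ (Q : Subgroup H), k ^ n = 1 := fun k hk =>
      orderOf_dvd_iff_pow_eq_one.mp (Subgroup.orderOf_mk k hk ▸ orderOf_dvd_natCard _)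
    have hEE' : ⁅(⊤ : Subgroup H), E⁆ = E := by
      by_contra hne
      have h1 := hmin _ inferInstance (isInv_commutator (isInv_top φ) hE)
        (commutator_le_right _ _) hne
      refine hEZ fun e he => mem_center_iff.mpr fun g => ?_
      obtain ⟨a, ha, k, hk, rfl⟩ := hdec g
      set c := k * e * k⁻¹ * e⁻¹ with hc
      have hcm : c ∈ ⁅(⊤ : Subgroup H), E⁆ := commutator_mem_commutator (mem_top k) he
      have hcE : c ∈ E := commutator_le_right _ _ hcm
      have hcZ := h1 hcm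
      have hj : ∀ j : ℕ, k ^ j * e * (k ^ j)⁻¹ = c ^ j * e := by
        intro j
        induction j with
        | zero => simp
        | succ j ih =>
          calc k ^ (j + 1) * e * (k ^ (j + 1))⁻¹ = k * (k ^ j * e * (k ^ j)⁻¹) * k⁻¹ := by
                rw [pow_succ']; group
            _ = k * c ^ j * e * k⁻¹ := by rw [ih]; group
            _ = c ^ j * (k * e * k⁻¹) := by
                rw [mem_center_iff.mp (pow_mem hcZ j) k]; group
            _ = c ^ (j + 1) * e := by rw [pow_succ, hc]; group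
      have h2 := hj n
      rw [hkn k hk, one_mul, inv_one, mul_one] at h2
      have h3 : c ^ n = 1 := by
        have := mul_eq_right (b := e) (a := c ^ n)
        exact this.mp h2.symm
      have h4 := hone c hcE h3
      rw [hc, ← commutatorElement_def, commutatorElement_eq_one_iff_mul_comm] at h4
      rw [mul_assoc, h4, ← mul_assoc, hEE a ha e he, mul_assoc]
    -- no central elements in `E`
    have hEZ0 : ∀ x ∈ E, x ∈ center H → x = 1 := by
      intro v hv hvZ
      letI : CommGroup E := { (inferInstance : Group E) with mul_comm := hEc.is_comm.comm }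
      haveI : Fintype (Q : Subgroup H) := Fintype.ofFinite _
      let ψ : (Q : Subgroup H) →* MulAut E :=
        (MulAut.conjNormal : H →* MulAut E).comp (Subgroup.subtype _)
      let N : E →* E :=
        { toFun := fun x => ∏ g, ψ g x
          map_one' := by simp
          map_mul' := fun a b => by simp [Finset.prod_mul_distrib] }
      have hker : ⁅(⊤ : Subgroup H), E⁆ ≤ N.ker.map E.subtype := by
        rw [commutator_le]
        intro g _ e he
        obtain ⟨a, ha, k, hk, rfl⟩ := hdec g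
        refine ⟨ψ ⟨k, hk⟩ ⟨e, he⟩ * (⟨e, he⟩ : E)⁻¹, ?_, ?_⟩
        · show N (ψ ⟨k, hk⟩ ⟨e, he⟩ * (⟨e, he⟩ : E)⁻¹) = 1
          rw [map_mul, map_inv, mul_inv_eq_one]
          show ∏ g, ψ g (ψ ⟨k, hk⟩ ⟨e, he⟩) = ∏ g, ψ g ⟨e, he⟩
          refine (Finset.prod_congr rfl fun g _ => ?_).trans
            (Equiv.prod_comp (Equiv.mulRight (⟨k, hk⟩ : (Q : Subgroup H))) fun g => ψ g ⟨e, he⟩)
          rw [Equiv.coe_mulRight, map_mul]; rfl
        · show k * e * k⁻¹ * e⁻¹ = ⁅a * k, e⁆
          rw [commutatorElement_def]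
          have hke : k * e * k⁻¹ ∈ E := hEn.conj_mem e he k
          rw [show a * k * e * (a * k)⁻¹ = a * (k * e * k⁻¹) * a⁻¹ by group, hEE a ha _ hke,
            mul_inv_cancel_right]
      rw [hEE'] at hker
      obtain ⟨v', hv', rfl⟩ := hker hv
      refine hone _ hv ?_
      have h2 : N v' = v' ^ n := by
        show ∏ g, ψ g v' = _
        rw [hn, Nat.card_eq_fintype_card, ← Finset.card_univ, ← Finset.prod_const]
        refine Finset.prod_congr rfl fun g _ => Subtype.ext ?_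
        show (g : H) * (v' : H) * (g : H)⁻¹ = v'
        have hc' : (g : H) * (v' : H) = (v' : H) * (g : H) := mem_center_iff.mp hvZ (g : H)
        rw [hc']
        exact mul_inv_cancel_right _ _
      rw [MonoidHom.mem_ker.mp hv'] at h2
      exact congrArg Subtype.val h2.symm
    refine h.no_split E (Q : Subgroup H) hE (fun he => hEZ (he ▸ bot_le)) hEc hEZ0 ?_ Q.2 hQ hEQ ?_
    · intro K h1 h2 h3 h4
      rw [eq_bot_iff]
      intro x hx
      exact mem_bot.mpr (hEZ0 x (h3 hx) (hmin K h1 h2 h3 h4 hx))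
    · intro hd
      obtain ⟨x, hx⟩ := exists_prime_orderOf_dvd_card' q hd
      have h1 : q ∣ m := hx ▸ orderOf_dvd_of_pow_eq_one
        (Subtype.ext (hEm _ x.2) : x ^ m = 1)
      exact Q.not_dvd_index h1
  · -- `E Q` is proper
    refine hEZ (h.le_center_of_good hE hEc (top_le_iff.mp ?_))
    set P := E ⊔ (Q : Subgroup H) with hP
    set J := cgen φ M ⊔ cgen φ P with hJ
    have hJg : J ≤ goodSubgroup φ p E :=
      sup_le (cgen_le_good h.pow_eq hE hEc hEM (h.sub M hM hMne))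
        (cgen_le_good h.pow_eq hE hEc le_sup_left (h.sub P (hE.sup hQ) hEQ))
    refine le_trans ?_ hJg
    have hfixJ : ∀ b ∈ (Q : Subgroup H), φ b = b → ∀ y ∈ J, b⁻¹ * y * b ∈ J := by
      intro b hb hbf
      have hle : J ≤ J.comap (MulAut.conj b⁻¹).toMonoidHom := by
        refine sup_le (fun y hy => ?_) (fun y hy => ?_)
        · show b⁻¹ * y * b⁻¹⁻¹ ∈ J
          rw [inv_inv]
          exact mem_sup_left (cgen_conj_mem_of_fixed φ hbf
            (fun x hx => by simpa using hMn.conj_mem x hx b⁻¹) hy)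
        · show b⁻¹ * y * b⁻¹⁻¹ ∈ J
          rw [inv_inv]
          exact mem_sup_right (cgen_conj_mem φ (mem_sup_right hb) hy)
      intro y hy
      simpa using hle hy
    rw [← h.top]
    refine (closure_le _).mpr ?_
    rintro _ ⟨x, -, i, rfl⟩
    obtain ⟨a, ha, k, hk, e⟩ := mem_sup_of_normal_left.mp (hMQ.symm ▸ mem_top x)
    obtain ⟨d, hd, b, hb, hbf, rfl⟩ := exists_cgen_mul_fixed h.pow_eq h.cop hQ hk
    subst e
    have hd' : d ∈ J := mem_sup_right (cgen_mono φ le_sup_right hd)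
    have ha' : a⁻¹ * (φ ^ i) a ∈ J := mem_sup_left (subset_closure ⟨a, ha, i, rfl⟩)
    have hdi : (φ ^ i) d ∈ J :=
      mem_sup_right ((isInv_cgen φ P).pow_mem i d (cgen_mono φ le_sup_right hd))
    have key : (a * (d * b))⁻¹ * (φ ^ i) (a * (d * b)) =
        b⁻¹ * (d⁻¹ * (a⁻¹ * (φ ^ i) a) * (φ ^ i) d) * b := by
      rw [map_mul, map_mul, pow_apply_fixed hbf]; group
    rw [SetLike.mem_coe, key]
    exact hfixJ b hb hbf _ (mul_mem (mul_mem (inv_mem hd') ha') hdi)

/-- `C_{[H,φ]}(φ)` is generated by the `C_{[h,φ]}(φ)`. -/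
theorem cgen_inf_fixG_le : ∀ {H : Type*} [Group H] [Finite H] [Group.IsSolvable H] (φ : MulAut H)
    {p : ℕ} [Fact p.Prime], φ ^ p = 1 → 3 ≤ p → ¬ p ∣ Nat.card H →
    cgen φ ⊤ ⊓ fixG φ ≤ fixGen φ := by
  intro H _ _ _ φ p _ hφ hp3 hcop
  induction hn : Nat.card H using Nat.strong_induction_on generalizing H with
  | _ n ih =>
  have hsub : ∀ L : Subgroup H, IsInv φ L → L ≠ ⊤ → cgen φ L ⊓ fixG φ ≤ fixGen φ := by
    intro L hL hne
    have hlt : Nat.card L < n := hn ▸ lt_of_le_of_ne (Subgroup.card_le_card_group L)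
      (fun h => hne (Subgroup.eq_top_of_card_eq L h))
    have h1 := ih _ hlt (H1.restrictAut φ L hL) (restrict_pow_eq_one hφ hL)
      (fun hd => hcop (hd.trans (card_subgroup_dvd_card L))) rfl
    refine le_trans ?_ ((map_mono h1).trans (map_fixGen_restrict_le φ hL))
    rintro x ⟨hx, hxf⟩
    rw [← map_cgen_restrict φ hL] at hx
    obtain ⟨y, hy, rfl⟩ := hx
    exact ⟨y, ⟨hy, Subtype.ext hxf⟩, rfl⟩
  by_cases htop : cgen φ ⊤ = ⊤
  · rcases subsingleton_or_nontrivial H with hs | hs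
    · intro x _
      rw [Subsingleton.elim x 1]
      exact one_mem _
    by_contra hcon
    rw [htop, top_inf_eq] at hcon
    refine MinCE.false (φ := φ) (p := p) ⟨hφ, hp3, hcop, htop, hsub, fun N hN hNi hN0 hle => hcon ?_⟩
    haveI := hN
    have hlt : Nat.card (H ⧸ N) < n := by
      rw [← hn, Subgroup.card_eq_card_quotient_mul_card_subgroup N]
      exact lt_mul_of_one_lt_right Nat.card_pos ((Subgroup.one_lt_card_iff_ne_bot N).mpr hN0)
    have h1 := ih _ hlt (quotAut φ N hNi) (quotAut_pow_eq_one hφ N hNi)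
      (fun hd => hcop (hd.trans (card_quotient_dvd_card N))) rfl
    intro g hg
    have hg' : (g : H ⧸ N) ∈ cgen (quotAut φ N hNi) ⊤ ⊓ fixG (quotAut φ N hNi) := by
      refine ⟨?_, ?_⟩
      · rw [cgen_quotAut_top, htop]
        exact ⟨g, mem_top _, rfl⟩
      · show ((φ g : H) : H ⧸ N) = (g : H ⧸ N)
        rw [mem_fixG.mp hg]
    obtain ⟨r, hr, hrg⟩ := fixGen_quotAut_le hφ hcop N hNi (h1 hg')
    have hmem : r⁻¹ * g ∈ N ⊓ fixG φ :=
      ⟨QuotientGroup.eq.mp hrg, (fixG φ).mul_mem ((fixG φ).inv_mem (fixGen_le_fixG φ hr)) hg⟩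
    simpa using mul_mem hr (hle hmem)
  · refine le_trans ?_ (hsub _ (isInv_cgen φ ⊤) htop)
    rintro x ⟨hx, hxf⟩
    refine ⟨?_, hxf⟩
    suffices hall : cgen φ ⊤ ≤ cgen φ (cgen φ ⊤) from hall hx
    refine (closure_le _).mpr ?_
    rintro _ ⟨a, -, i, rfl⟩
    obtain ⟨d, hd, c, -, hc, rfl⟩ := exists_cgen_mul_fixed hφ hcop (isInv_top φ) (mem_top a)
    rw [SetLike.mem_coe, map_mul, pow_apply_fixed hc, mul_inv_rev]
    rw [show c⁻¹ * d⁻¹ * ((φ ^ i) d * c) = c⁻¹ * (d⁻¹ * (φ ^ i) d) * c by group]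
    exact cgen_conj_mem_of_fixed φ hc
      (fun y hy => cgen_conj_mem φ (mem_top c) hy) (subset_closure ⟨d, hd, i, rfl⟩)

end Cfsg.Agent.H29
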