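import Cfsg.Prelude.Def_Transfer
import Cfsg.Prelude.Def_KGroupFacts
import Cfsg.Prelude.Def_Classical
import Cfsg.Agent.H6.Extraspecial
import Mathlib.Tactic

/-!
The outer automorphism group of an extraspecial 2-group is the isometry group of its square map.
-/

set_option autoImplicit false

namespace Cfsg.Agent.H29

open scoped commutatorElement
open scoped Matrix

variable {E : Type*} [Group E]

theorem mult_two_mul_eq_one : ∀ {u v : Multiplicative (ZMod 2)}, u ≠ 1 → v ≠ 1 → u * v = 1 := by
  decide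

/-- A group all of whose squares are trivial has, for a nontrivial element, a character not
killing it. -/
theorem exists_char_ne_one {A : Type*} [Group A] [Finite A] (h2 : ∀ a : A, a * a = 1) (a : A)
    (ha : a ≠ 1) : ∃ f : A →* Multiplicative (ZMod 2), f a ≠ 1 := by
  have hc : ∀ x y : A, x * y = y * x := by
    intro x y
    have hi : ∀ u : A, u⁻¹ = u := fun u => inv_eq_of_mul_eq_one_right (h2 u)
    calc x * y = (x * y)⁻¹ := (hi _).symm
      _ = y⁻¹ * x⁻¹ := mul_inv_rev _ _
      _ = y * x := by rw [hi, hi]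
  letI : CommGroup A := { (inferInstance : Group A) with mul_comm := hc }
  have hadd : ∀ x : Additive A, 2 • x = 0 := fun x => by
    rw [two_nsmul]
    exact congrArg Additive.ofMul (h2 (Additive.toMul x))
  letI : Module (ZMod 2) (Additive A) := AddCommGroup.zmodModule hadd
  have hne : Additive.ofMul a ≠ 0 := fun h => ha (by simpa using h)
  obtain ⟨l, hl⟩ : ∃ l : Module.Dual (ZMod 2) (Additive A), l (Additive.ofMul a) ≠ 0 := by
    by_contra hcon
    push_neg at hcon
    exact hne ((Module.forall_dual_apply_eq_zero_iff (ZMod 2) _).1 hcon)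
  refine ⟨MonoidHom.mk' (fun x => Multiplicative.ofAdd (l (Additive.ofMul x))) (fun x y => by
    rw [ofMul_mul, map_add, ofAdd_add]), ?_⟩
  simpa using hl

/-- The outer automorphism group of an extraspecial 2-group whose square map, read on the
quotient by the centre, is `Q`, is the isometry group of `Q`. -/
theorem out_equiv_isometryGroup [Finite E] (hE : Cfsg.IsExtraspecial 2 E)
    {z : E} (hz : orderOf z = 2) (hzc : Subgroup.center E = Subgroup.zpowers z)
    {ι : Type} [Fintype ι] [DecidableEq ι]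
    (φ : E →* Multiplicative (ι → ZMod 2)) (hφ : Function.Surjective φ)
    (hker : φ.ker = Subgroup.center E)
    (Q : (ι → ZMod 2) → ZMod 2)
    (hQ : ∀ g, g * g = z ^ (Q (Multiplicative.toAdd (φ g))).val) :
    Nonempty (Cfsg.Out E ≃* Cfsg.isometryGroup (ZMod 2) Q) := by
  classical
  haveI : Fact (Nat.Prime 2) := ⟨Nat.prime_two⟩
  have hz1 : z ≠ 1 := fun h => by rw [h, orderOf_one] at hz; omega
  have hzz : z * z = 1 := by rw [← sq, ← hz, pow_orderOf_eq_one]
  have hcen : ∀ w ∈ Subgroup.center E, w = 1 ∨ w = z := by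
    intro w hw
    rw [hzc] at hw
    obtain ⟨k, rfl⟩ := hw
    rcases Int.even_or_odd k with ⟨m, rfl⟩ | ⟨m, rfl⟩
    · left
      show z ^ (m + m) = 1
      rw [← two_mul, _root_.zpow_mul, _root_.zpow_two, hzz, one_zpow]
    · right
      show z ^ (2 * m + 1) = z
      rw [_root_.zpow_add_one, _root_.zpow_mul, _root_.zpow_two, hzz, one_zpow, one_mul]
  have hzC : z ∈ Subgroup.center E := hzc ▸ Subgroup.mem_zpowers z
  have hcomm : ∀ g : E, z * g = g * z := fun g => (Subgroup.mem_center_iff.1 hzC g).symm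
  have hφz : φ z = 1 := by rw [← MonoidHom.mem_ker, hker]; exact hzC
  have hbit : ∀ a b : ZMod 2, z ^ a.val = z ^ b.val → a = b := by
    intro a b h
    apply ZMod.val_injective
    have := pow_injOn_Iio_orderOf (by rw [hz]; exact ZMod.val_lt a) (by rw [hz]; exact ZMod.val_lt b) h
    exact this
  have hfix : ∀ α : MulAut E, α z = z := by
    intro α
    have h1 : α z ∈ Subgroup.center E := by
      rw [Subgroup.mem_center_iff]
      intro g
      obtain ⟨g', rfl⟩ := α.surjective g
      rw [← map_mul, ← map_mul, Subgroup.mem_center_iff.1 hzC g']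
    rcases hcen _ h1 with h | h
    · exact absurd (α.injective (h.trans (map_one α).symm)) hz1
    · exact h
  have hwd : ∀ (α : MulAut E) (g g' : E), φ g = φ g' → φ (α g) = φ (α g') := by
    intro α g g' h
    have h1 : g⁻¹ * g' ∈ φ.ker := by rw [MonoidHom.mem_ker, map_mul, map_inv, h, inv_mul_cancel]
    rw [hker] at h1
    have h2 : φ (α (g⁻¹ * g')) = 1 := by
      rcases hcen _ h1 with h3 | h3
      · rw [h3, map_one, map_one]
      · rw [h3, hfix, hφz]
    rw [map_mul, map_inv, map_mul, map_inv, inv_mul_eq_one] at h2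
    exact h2
  let s : (ι → ZMod 2) → E := fun v => Function.surjInv hφ (Multiplicative.ofAdd v)
  have hs : ∀ v, φ (s v) = Multiplicative.ofAdd v := fun v => Function.surjInv_eq hφ _
  let L : MulAut E → ((ι → ZMod 2) →+ (ι → ZMod 2)) := fun α =>
    AddMonoidHom.mk' (fun v => Multiplicative.toAdd (φ (α (s v)))) (fun v w => by
      rw [← toAdd_mul, ← map_mul, ← map_mul]
      exact congrArg Multiplicative.toAdd (hwd α _ _ (by rw [map_mul, hs, hs, hs, ofAdd_add])))
  have hL : ∀ (α : MulAut E) (g : E),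
      L α (Multiplicative.toAdd (φ g)) = Multiplicative.toAdd (φ (α g)) := fun α g =>
    congrArg Multiplicative.toAdd (hwd α _ _ (by rw [hs, ofAdd_toAdd]))
  have hsurj : ∀ v : ι → ZMod 2, ∃ g, Multiplicative.toAdd (φ g) = v := fun v =>
    ⟨s v, by rw [hs, toAdd_ofAdd]⟩
  let Φ₀ : MulAut E →* Matrix ι ι (ZMod 2) :=
    { toFun := fun α => LinearMap.toMatrix' ((L α).toZModLinearMap 2)
      map_one' := by
        rw [← LinearMap.toMatrix'_id]
        congr 1
        apply LinearMap.ext
        intro v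
        obtain ⟨g, rfl⟩ := hsurj v
        show L 1 _ = _
        rw [hL]; rfl
      map_mul' := fun α β => by
        rw [← LinearMap.toMatrix'_comp]
        congr 1
        apply LinearMap.ext
        intro v
        obtain ⟨g, rfl⟩ := hsurj v
        show L (α * β) _ = L α (L β _)
        rw [hL, hL, hL]; rfl }
  have hΦ₀ : ∀ (α : MulAut E) (g : E),
      Φ₀ α *ᵥ Multiplicative.toAdd (φ g) = Multiplicative.toAdd (φ (α g)) := by
    intro α g
    show LinearMap.toMatrix' ((L α).toZModLinearMap 2) *ᵥ _ = _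
    rw [LinearMap.toMatrix'_mulVec]
    exact hL α g
  let Φ : MulAut E →* Matrix.GeneralLinearGroup ι (ZMod 2) := Φ₀.toHomUnits
  have hΦ : ∀ α, ((Φ α : Matrix ι ι (ZMod 2))) = Φ₀ α := fun α => rfl
  have hmem : ∀ α, Φ α ∈ Cfsg.isometryGroup (ZMod 2) Q := by
    intro α u v
    obtain ⟨g, rfl⟩ := hsurj u
    show Q (((Φ α : Matrix ι ι (ZMod 2))) *ᵥ _) = Q _
    rw [hΦ, hΦ₀]
    apply hbit
    rw [← hQ, ← map_mul, hQ g, map_pow, hfix]
  let Φ' : MulAut E →* Cfsg.isometryGroup (ZMod 2) Q := Φ.codRestrict _ hmem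
  have hk : Φ'.ker = Cfsg.Inn E := by
    ext α
    rw [MonoidHom.mem_ker]
    have hiff : Φ' α = 1 ↔ ∀ g, φ (α g) = φ g := by
      constructor
      · intro h g
        have h1 : (Φ α : Matrix ι ι (ZMod 2)) = 1 := by
          have := congrArg Subtype.val h
          exact congrArg Units.val this
        have h2 := hΦ₀ α g
        rw [← hΦ, h1, Matrix.one_mulVec] at h2
        exact Multiplicative.toAdd.injective h2.symm
      · intro h
        apply Subtype.ext
        apply Units.ext
        show (Φ α : Matrix ι ι (ZMod 2)) = 1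
        rw [hΦ]
        apply Matrix.ext_of_mulVec_single
        intro i
        obtain ⟨g, hg⟩ := hsurj (Pi.single i 1)
        rw [← hg, hΦ₀, h, Matrix.one_mulVec]
    rw [hiff]
    constructor
    · intro h
      have hmemc : ∀ g, α g * g⁻¹ ∈ Subgroup.center E := fun g => by
        rw [← hker, MonoidHom.mem_ker, map_mul, map_inv, h, mul_inv_cancel]
      let χ : E →* Subgroup.center E := MonoidHom.mk' (fun g => ⟨α g * g⁻¹, hmemc g⟩) (fun g k => by
        apply Subtype.ext
        show α (g * k) * (g * k)⁻¹ = α g * g⁻¹ * (α k * k⁻¹)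
        have hc := Subgroup.mem_center_iff.1 (hmemc k) g⁻¹
        calc α (g * k) * (g * k)⁻¹ = α g * ((α k * k⁻¹) * g⁻¹) := by rw [map_mul]; group
          _ = α g * (g⁻¹ * (α k * k⁻¹)) := by rw [hc]
          _ = α g * g⁻¹ * (α k * k⁻¹) := by group)
      obtain ⟨e, he⟩ := H6.extraspecial_exists_commutator_eq hE χ
      refine ⟨e, ?_⟩
      ext g
      rw [MulAut.conj_apply]
      have h1 : α g * g⁻¹ = ⁅e, g⁆ := he g
      rw [commutatorElement_def, mul_left_inj] at h1
      exact h1.symm
    · rintro ⟨e, rfl⟩ g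
      rw [MulAut.conj_apply, map_mul, map_mul, map_inv, mul_right_comm, mul_inv_cancel, one_mul]
  have hΦsurj : Function.Surjective Φ' := by
    rintro ⟨M, hM⟩
    let LM : Multiplicative (ι → ZMod 2) →* Multiplicative (ι → ZMod 2) :=
      AddMonoidHom.toMultiplicative (Matrix.mulVecLin (M : Matrix ι ι (ZMod 2))).toAddMonoidHom
    let R : Subgroup (E × E) :=
      MonoidHom.eqLocus (φ.comp (MonoidHom.snd E E)) (LM.comp (φ.comp (MonoidHom.fst E E)))
    have hR : ∀ g h : E, (g, h) ∈ R ↔ Multiplicative.toAdd (φ h) =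
        (M : Matrix ι ι (ZMod 2)) *ᵥ Multiplicative.toAdd (φ g) := fun g h => Iff.rfl
    have hzzR : (z, z) ∈ R := by rw [hR, hφz, toAdd_one, Matrix.mulVec_zero]
    have h1zR : (1, z) ∈ R := by rw [hR, hφz, φ.map_one, toAdd_one, Matrix.mulVec_zero]
    set d : R := ⟨(z, z), hzzR⟩ with hd
    haveI hN : (Subgroup.zpowers d).Normal := by
      apply Subgroup.Normal.mk
      intro w hw g
      obtain ⟨i, rfl⟩ := hw
      have hc : Commute g (d ^ i) := (show Commute g d from
        Subtype.ext (Prod.ext (hcomm _).symm (hcomm _).symm)).zpow_right i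
      refine ⟨i, ?_⟩
      show d ^ i = g * d ^ i * g⁻¹
      rw [hc.eq, mul_inv_cancel_right]
    have hd2 : ∀ w ∈ Subgroup.zpowers d, w = 1 ∨ w = d := by
      have hdd : d * d = 1 := Subtype.ext (Prod.ext hzz hzz)
      intro w hw
      obtain ⟨k, rfl⟩ := hw
      rcases Int.even_or_odd k with ⟨m, rfl⟩ | ⟨m, rfl⟩
      · left
        show d ^ (m + m) = 1
        rw [← two_mul, _root_.zpow_mul, _root_.zpow_two, hdd, one_zpow]
      · right
        show d ^ (2 * m + 1) = d
        rw [_root_.zpow_add_one, _root_.zpow_mul, _root_.zpow_two, hdd, one_zpow, one_mul]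
    let π := QuotientGroup.mk' (Subgroup.zpowers d)
    have hsq : ∀ r : R ⧸ Subgroup.zpowers d, r * r = 1 := by
      intro r
      obtain ⟨⟨⟨g, h⟩, hgh⟩, rfl⟩ := QuotientGroup.mk'_surjective _ r
      rw [← map_mul]
      refine (QuotientGroup.eq_one_iff _).2 ⟨((Q (Multiplicative.toAdd (φ g))).val : ℤ), ?_⟩
      apply Subtype.ext
      show (z, z) ^ ((Q (Multiplicative.toAdd (φ g))).val : ℤ) = (g * g, h * h)
      have hMQ : Q (Multiplicative.toAdd (φ h)) = Q (Multiplicative.toAdd (φ g)) := by
        rw [(hR g h).1 hgh]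
        exact hM (Multiplicative.toAdd (φ g)) (Multiplicative.toAdd (φ g))
      rw [zpow_natCast, Prod.pow_mk, hQ g, hQ h, hMQ]
    have hne : π ⟨(1, z), h1zR⟩ ≠ 1 := by
      intro h
      rcases hd2 _ ((QuotientGroup.eq_one_iff _).1 h) with h' | h'
      · exact hz1 (congrArg (fun r : R => r.1.2) h')
      · exact hz1 (congrArg (fun r : R => r.1.1) h').symm
    obtain ⟨f₀, hf₀⟩ := exists_char_ne_one hsq _ hne
    let f : R →* Multiplicative (ZMod 2) := f₀.comp π
    have hfd : f d = 1 := by
      show f₀ (π d) = 1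
      rw [show π d = 1 from (QuotientGroup.eq_one_iff _).2 (Subgroup.mem_zpowers d), map_one]
    have hf1 : f ⟨(1, z), h1zR⟩ ≠ 1 := hf₀
    have hex : ∀ g, ∃ h, ∃ hh : (g, h) ∈ R, f ⟨(g, h), hh⟩ = 1 := by
      intro g
      obtain ⟨h, hh⟩ := hsurj ((M : Matrix ι ι (ZMod 2)) *ᵥ Multiplicative.toAdd (φ g))
      have hgh : (g, h) ∈ R := (hR g h).2 hh
      by_cases h1 : f ⟨(g, h), hgh⟩ = 1
      · exact ⟨h, hgh, h1⟩
      · have hghz : (g, h * z) ∈ R := by
          have := R.mul_mem hgh h1zR
          simpa using this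
        refine ⟨h * z, hghz, ?_⟩
        have : (⟨(g, h * z), hghz⟩ : R) = ⟨(g, h), hgh⟩ * ⟨(1, z), h1zR⟩ :=
          Subtype.ext (Prod.ext (mul_one g).symm rfl)
        rw [this, map_mul]
        exact mult_two_mul_eq_one h1 hf1
    choose a haR haf using hex
    have huniq : ∀ g h (hh : (g, h) ∈ R), f ⟨(g, h), hh⟩ = 1 → h = a g := by
      intro g h hh hf
      have hq : ((1 : E), (a g)⁻¹ * h) ∈ R := by
        have := R.mul_mem (R.inv_mem (haR g)) hh
        simpa using this
      have hfq : f ⟨_, hq⟩ = 1 := by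
        have : (⟨_, hq⟩ : R) = ⟨_, haR g⟩⁻¹ * ⟨_, hh⟩ :=
          Subtype.ext (Prod.ext (inv_mul_cancel g).symm rfl)
        rw [this, map_mul, map_inv, haf, hf, inv_one, one_mul]
      have hk : (a g)⁻¹ * h ∈ φ.ker := by
        rw [MonoidHom.mem_ker]
        apply Multiplicative.toAdd.injective
        rw [(hR _ _).1 hq, map_one, toAdd_one, Matrix.mulVec_zero]
      rw [hker] at hk
      rcases hcen _ hk with h' | h'
      · exact (inv_mul_eq_one.1 h').symm
      · exfalso
        apply hf1
        rw [← hfq]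
        congr 1
        exact Subtype.ext (Prod.ext rfl h'.symm)
    let A : E →* E := MonoidHom.mk' a (fun g k => by
      refine (huniq _ _ (R.mul_mem (haR g) (haR k)) ?_).symm
      show f (⟨_, haR g⟩ * ⟨_, haR k⟩) = 1
      rw [map_mul, haf, haf, one_mul])
    have hAinj : Function.Injective A := by
      rw [injective_iff_map_eq_one]
      intro g hg
      have h1 : a g = 1 := hg
      have h2 := (hR _ _).1 (haR g)
      rw [h1, map_one, toAdd_one] at h2
      have h3 : Multiplicative.toAdd (φ g) = 0 := by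
        have h4 := congrArg (fun w => ((M⁻¹ : GL ι (ZMod 2)) : Matrix ι ι (ZMod 2)) *ᵥ w) h2
        simpa [Matrix.mulVec_mulVec, ← Units.val_mul] using h4.symm
      have hk : g ∈ φ.ker := by
        rw [MonoidHom.mem_ker]
        exact Multiplicative.toAdd.injective h3
      rw [hker] at hk
      rcases hcen _ hk with h' | h'
      · exact h'
      · exfalso
        apply hf1
        have hw := haf g
        have : (⟨(g, a g), haR g⟩ : R) = d * ⟨(1, z), h1zR⟩ :=
          Subtype.ext (Prod.ext (by simp [d, h']) (by simp [d, h1, hzz]))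
        rw [this, map_mul, hfd, one_mul] at hw
        exact hw
    let α : MulAut E := MulEquiv.ofBijective A (Finite.injective_iff_bijective.1 hAinj)
    refine ⟨α, ?_⟩
    apply Subtype.ext
    apply Units.ext
    show (Φ α : Matrix ι ι (ZMod 2)) = (M : Matrix ι ι (ZMod 2))
    rw [hΦ]
    apply Matrix.ext_of_mulVec_single
    intro i
    obtain ⟨g, hg⟩ := hsurj (Pi.single i 1)
    rw [← hg, hΦ₀]
    exact (hR _ _).1 (haR g)
  exact ⟨(QuotientGroup.quotientMulEquivOfEq hk.symm).trans
    (QuotientGroup.quotientKerEquivOfSurjective Φ' hΦsurj)⟩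

end Cfsg.Agent.H29
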