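import Cfsg.Agent.H1.Shult.CyclicHH
import Cfsg.Agent.H11.HallHigmanBase

/-!
A cyclic `p`-group, `p` odd, acting freely modulo the centre on a `2`-group of class two and without a
regular summand on a module in characteristic `p`: the central quotient has order `(N - 1) ^ 2`.
-/

set_option autoImplicit false
set_option linter.style.haveILetI false
set_option maxHeartbeats 1600000
set_option linter.all false

namespace Cfsg.Agent.H29.HHExp

open Module Subgroup
open Cfsg.Agent.H29 (subalgebra_eq_top_of_irreducible)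
open H1.Shult (card_orbits_semiregular)

theorem finrank_ker_pow_le {K V : Type*} [Field K] [AddCommGroup V] [Module K V] [FiniteDimensional K V]
    (n : Module.End K V) (h : Module.finrank K (LinearMap.ker n) ≤ 1) (i : ℕ) :
    Module.finrank K (LinearMap.ker (n ^ i)) ≤ i := by
  induction i with
  | zero =>
    have : LinearMap.ker (n ^ 0) = ⊥ := by rw [pow_zero]; exact LinearMap.ker_id
    rw [this, finrank_bot]
  | succ i ih =>
    have hmap : ∀ v ∈ LinearMap.ker (n ^ (i + 1)), n v ∈ LinearMap.ker (n ^ i) := by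
      intro v hv
      rw [LinearMap.mem_ker] at hv ⊢
      rwa [← Module.End.mul_apply, ← pow_succ]
    have h1 := LinearMap.finrank_range_add_finrank_ker (n.restrict hmap)
    have h2 : Module.finrank K (LinearMap.range (n.restrict hmap)) ≤ i :=
      (Submodule.finrank_le _).trans ih
    have h3 : Module.finrank K (LinearMap.ker (n.restrict hmap)) ≤ 1 := by
      refine le_trans ?_ h
      let g : LinearMap.ker (n.restrict hmap) →ₗ[K] LinearMap.ker n :=
        { toFun := fun v => ⟨((v : LinearMap.ker (n ^ (i + 1))) : V), by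
            rw [LinearMap.mem_ker]
            exact congrArg Subtype.val (LinearMap.mem_ker.mp v.2)⟩
          map_add' := fun _ _ => rfl
          map_smul' := fun _ _ => rfl }
      refine LinearMap.finrank_le_finrank_of_injective (f := g) fun v w hvw => ?_
      exact Subtype.ext (Subtype.ext (show ((v : LinearMap.ker (n ^ (i + 1))) : V) = ((w : LinearMap.ker (n ^ (i + 1))) : V) from congrArg (fun t : LinearMap.ker n => (t : V)) hvw))
    omega

theorem arith {p m N d o e : ℕ} (hp : p.Prime) (hp2 : p ≠ 2) (hN : N = p ^ m)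
    (hd : d = 2 ^ e) (hd2 : 2 ≤ d) (hle : d ≤ N - 1) (ho : d ^ 2 + N = N * o + 1) : N = d + 1 := by
  have hdvd : N ∣ (d - 1) * (d + 1) := by
    have h1 : 1 ≤ o := by
      rcases Nat.eq_zero_or_pos o with h | h
      · subst h; nlinarith
      · exact h
    obtain ⟨o', rfl⟩ : ∃ o', o = o' + 1 := ⟨o - 1, by omega⟩
    obtain ⟨c, rfl⟩ : ∃ c, d = c + 1 := ⟨d - 1, by omega⟩
    refine ⟨o', ?_⟩
    simp only [Nat.add_sub_cancel]
    nlinarith
  rw [hN] at hdvd hle ⊢
  by_cases h2 : p ∣ d + 1
  · have h1 : ¬ p ∣ d - 1 := fun h1 => by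
      have h3 : p ∣ d + 1 - (d - 1) := Nat.dvd_sub h2 h1
      rw [show d + 1 - (d - 1) = 2 by omega] at h3
      exact hp2 ((Nat.prime_dvd_prime_iff_eq hp Nat.prime_two).mp h3)
    have := Nat.le_of_dvd (by omega) (Nat.Coprime.dvd_of_dvd_mul_left
      (Nat.Coprime.pow_left m ((Nat.Prime.coprime_iff_not_dvd hp).mpr h1)) hdvd)
    omega
  · have := Nat.le_of_dvd (by omega) (Nat.Coprime.dvd_of_dvd_mul_right
      (Nat.Coprime.pow_left m ((Nat.Prime.coprime_iff_not_dvd hp).mpr h2)) hdvd)
    omega

/-- No regular summand: the central quotient has order `(N - 1) ^ 2`. -/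
theorem natCard_quotient_center {Q : Type*} [Group Q] [Finite Q] (hQ : IsPGroup 2 Q)
    {p m N : ℕ} [Fact p.Prime] (hp2 : p ≠ 2) (hN : N = p ^ m)
    (hcls : ∀ a b : Q, a * b * a⁻¹ * b⁻¹ ∈ center Q) (hnc : ∃ a : Q, a ∉ center Q)
    (θ : Q ≃* Q) (hθN : ∀ a, (θ : Q → Q)^[N] a = a) (hθZ : ∀ c ∈ center Q, θ c = c)
    (hfree : ∀ k : ℕ, 0 < k → k < N → ∀ a, a⁻¹ * (θ : Q → Q)^[k] a ∈ center Q → a ∈ center Q)
    {K : Type*} [Field K] [CharP K p] [IsAlgClosed K]
    {W : Type*} [AddCommGroup W] [Module K W] [FiniteDimensional K W] [Nontrivial W]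
    (ρ : Q →* Module.End K W) (hρ : Function.Injective ρ)
    (hscalW : ∀ c ∈ center Q, ∃ k : K, ρ c = k • (1 : Module.End K W))
    (u : Module.End K W) (hu : u ^ N = 1) (hnil : (u - 1) ^ (N - 1) = 0)
    (hcomm : ∀ a, u * ρ a = ρ (θ a) * u) :
    Nat.card (Q ⧸ center Q) = (N - 1) ^ 2 ∧ ∃ e : ℕ, 1 ≤ e ∧ N - 1 = 2 ^ e := by
  classical
  have hp : p.Prime := Fact.out
  have hNpos : 0 < N := hN ▸ pow_pos hp.pos m
  -- a minimal invariant subspace 
  let W0 : Submodule K W := ⊤
  have hW0 : W0 ≠ ⊥ := top_ne_bot
  have hW0inv : ∀ a : Q, ∀ v ∈ W0, ρ a v ∈ W0 := fun _ _ _ => Submodule.mem_top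
  obtain ⟨S, ⟨hS0, hSinv, hSle⟩, hSmin⟩ := wellFounded_lt.has_min
    {U : Submodule K W | U ≠ ⊥ ∧ (∀ a : Q, ∀ v ∈ U, ρ a v ∈ U) ∧ U ≤ W0}
    ⟨W0, hW0, hW0inv, le_rfl⟩
  haveI : Nontrivial S := Submodule.nontrivial_iff_ne_bot.mpr hS0
  let ρS : Q →* Module.End K S :=
    { toFun := fun a => (ρ a).restrict (hSinv a)
      map_one' := by
        refine LinearMap.ext fun v => Subtype.ext ?_
        show ρ 1 (v : W) = _
        rw [map_one]; rfl
      map_mul' := fun a b => by
        refine LinearMap.ext fun v => Subtype.ext ?_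
        show ρ (a * b) (v : W) = _
        rw [map_mul]; rfl }
  have hρScoe : ∀ a (v : S), (ρS a v : W) = ρ a (v : W) := fun _ _ => rfl
  have hirr : ∀ U : Submodule K S, (∀ a, ∀ v ∈ U, ρS a v ∈ U) → U = ⊥ ∨ U = ⊤ := by
    intro U hU
    by_cases h0 : U = ⊥
    · exact Or.inl h0
    right
    by_contra htop
    have hlt : U.map S.subtype < S := by
      refine lt_of_le_of_ne (Submodule.map_subtype_le S U) fun h => htop ?_
      apply Submodule.map_injective_of_injective (f := S.subtype) Subtype.val_injective
      rw [h, Submodule.map_subtype_top]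
    refine hSmin (U.map S.subtype) ⟨?_, ?_, le_trans hlt.le hSle⟩ hlt
    · intro h
      exact h0 (Submodule.map_injective_of_injective (f := S.subtype) Subtype.val_injective
        (by rw [h, Submodule.map_bot]))
    · intro a v hv
      obtain ⟨w, hw, rfl⟩ := Submodule.mem_map.mp hv
      exact Submodule.mem_map.mpr ⟨ρS a w, hU a w hw, rfl⟩
  -- the centre acts by scalars
  have hscal : ∀ c ∈ center Q, ∃ k : K, ρS c = k • (1 : Module.End K S) := by
    intro c hc
    obtain ⟨k, hk⟩ := hscalW c hc
    refine ⟨k, LinearMap.ext fun v => Subtype.ext ?_⟩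
    show ρ c (v : W) = k • (v : W)
    rw [hk]; rfl
  have hcenter_inj : ∀ c ∈ center Q, ρS c = 1 → c = 1 := by
    intro c hc h
    obtain ⟨k, hk⟩ := hscalW c hc
    obtain ⟨v, hv⟩ := exists_ne (0 : S)
    have h1 : k • (v : W) = (v : W) := by
      have := congrArg (fun f : Module.End K S => ((f v : S) : W)) h
      simpa [hρScoe, hk] using this
    have hk1 : k = 1 := by
      by_contra hne
      exact hv (Subtype.ext (smul_right_injective W (sub_ne_zero.mpr hne)
        (show (k - 1) • (v : W) = (k - 1) • (0 : W) by rw [sub_smul, h1, one_smul, sub_self, smul_zero])))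
    apply hρ
    rw [hk, hk1, one_smul, map_one]
  have hunit : ∀ a, IsUnit (ρS a) := fun a => by
    refine IsUnit.map ρS (Group.isUnit a)
  have hcommcenter := hcls
  -- the coset representatives
  let T := Q ⧸ center Q
  haveI : Fintype T := Fintype.ofFinite T
  let out : T → Q := fun t => Quotient.out t
  have hout : ∀ t : T, QuotientGroup.mk (out t) = t := fun t => Quotient.out_eq t
  let b : T → Module.End K S := fun t => ρS (out t)
  have hdecomp : ∀ a : Q, ∃ k : K, ρS a = k • b (QuotientGroup.mk a) := by
    intro a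
    obtain ⟨k, hk⟩ := hscal _ (QuotientGroup.eq.mp (hout (QuotientGroup.mk a)))
    refine ⟨k, ?_⟩
    have : a = out (QuotientGroup.mk a) * ((out (QuotientGroup.mk a))⁻¹ * a) := by group
    conv_lhs => rw [this]
    rw [map_mul, hk, mul_smul_comm, mul_one]
  -- linear independence
  have hindep : ∀ s : Finset T, ∀ c : T → K, ∑ t ∈ s, c t • b t = 0 → ∀ t ∈ s, c t = 0 := by
    intro s
    induction s using Finset.induction with
    | empty => intro c _ t ht; exact absurd ht (Finset.notMem_empty t)
    | @insert t₁ s ht₁ ih =>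
      intro c hc
      choose χ hχ using fun (y : Q) (t : T) => hscal _ (hcommcenter y (out t))
      have hconj : ∀ y t, ρS y * b t = χ y t • (b t * ρS y) := by
        intro y t
        show ρS y * ρS (out t) = _
        rw [← map_mul, show y * out t = (y * out t * y⁻¹ * (out t)⁻¹) * (out t * y) by group,
          map_mul, hχ, smul_mul_assoc, one_mul, map_mul]
      have hs : ∀ t ∈ s, c t = 0 := by
        intro t ht
        by_contra hct
        have hall : ∀ y, χ y t = χ y t₁ := by
          intro y
          have h1 : ∑ x ∈ insert t₁ s, (χ y x * c x) • b x = 0 := by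
            have h2 : (∑ x ∈ insert t₁ s, (χ y x * c x) • b x) * ρS y =
                ρS y * ∑ x ∈ insert t₁ s, c x • b x := by
              rw [Finset.sum_mul, Finset.mul_sum]
              refine Finset.sum_congr rfl fun x _ => ?_
              rw [mul_smul_comm, hconj, smul_smul, smul_mul_assoc, mul_comm (χ y x)]
            rw [hc, mul_zero] at h2
            exact (hunit y).mul_left_eq_zero.mp h2
          have h3 : ∑ x ∈ insert t₁ s, ((χ y x - χ y t₁) * c x) • b x = 0 := by
            have e0 : ∀ x, ((χ y x - χ y t₁) * c x) • b x =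
                (χ y x * c x) • b x - χ y t₁ • (c x • b x) := fun x => by
              rw [smul_smul, sub_mul]
              exact sub_smul (χ y x * c x) (χ y t₁ * c x) (b x)
            rw [Finset.sum_congr rfl (fun x _ => e0 x), Finset.sum_sub_distrib, h1,
              ← Finset.smul_sum, hc, smul_zero, sub_zero]
          rw [Finset.sum_insert ht₁, sub_self, zero_mul, zero_smul, zero_add] at h3
          rcases mul_eq_zero.mp (ih _ h3 t ht) with h | h
          · exact sub_eq_zero.mp h
          · exact absurd h hct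
        apply ht₁
        have heq : ∀ y, y * out t * y⁻¹ * (out t)⁻¹ = y * out t₁ * y⁻¹ * (out t₁)⁻¹ := by
          intro y
          have h4 : ρS (y * out t * y⁻¹ * (out t)⁻¹) = ρS (y * out t₁ * y⁻¹ * (out t₁)⁻¹) := by
            rw [hχ, hχ, hall]
          have := hcenter_inj _ (mul_mem (inv_mem (hcommcenter y (out t₁))) (hcommcenter y (out t)))
            (by rw [map_mul, h4, ← map_mul, inv_mul_cancel, map_one])
          rw [inv_mul_eq_one] at this
          exact this.symm
        have hmem : (out t)⁻¹ * out t₁ ∈ center Q := by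
          rw [Subgroup.mem_center_iff]
          intro y
          set w := y * out t * y⁻¹ * (out t)⁻¹ with hw
          have e1 : y * out t = w * out t * y := by rw [hw]; group
          have e2 : y * out t₁ = w * out t₁ * y := by rw [hw, heq y]; group
          calc y * ((out t)⁻¹ * out t₁)
              = (out t)⁻¹ * w⁻¹ * (y * out t₁) := by
                have e3 : y * (out t)⁻¹ = (out t)⁻¹ * w⁻¹ * y := by rw [hw]; group
                rw [← mul_assoc, e3, mul_assoc]
            _ = (out t)⁻¹ * out t₁ * y := by rw [e2]; group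
        have : t = t₁ := by
          rw [← hout t, ← hout t₁]; exact QuotientGroup.eq.mpr hmem
        exact this ▸ ht
      intro t ht
      rcases Finset.mem_insert.mp ht with rfl | ht'
      · rw [Finset.sum_insert ht₁, Finset.sum_eq_zero (fun x hx => by rw [hs x hx, zero_smul]),
          add_zero] at hc
        exact (smul_eq_zero.mp hc).resolve_right (hunit (out t)).ne_zero
      · exact hs t ht'
  have hli : LinearIndependent K b := by
    rw [Fintype.linearIndependent_iff]
    exact fun g hg t => hindep Finset.univ g hg t (Finset.mem_univ t)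
  -- spanning
  have hsmall : ∀ a, ρS a ∈ Submodule.span K (Set.range b) := fun a => by
    obtain ⟨k, hk⟩ := hdecomp a
    rw [hk]; exact Submodule.smul_mem _ _ (Submodule.subset_span ⟨_, rfl⟩)
  have hspan : ⊤ ≤ Submodule.span K (Set.range b) := by
    have hA : Algebra.adjoin K (Set.range ρS) = ⊤ := by
      apply subalgebra_eq_top_of_irreducible
      intro U hU
      exact hirr U fun a v hv => hU _ (Algebra.subset_adjoin ⟨a, rfl⟩) v hv
    have hB : Subalgebra.toSubmodule (Algebra.adjoin K (Set.range ρS)) =
        Submodule.span K (Set.range ρS) := by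
      rw [Algebra.adjoin_eq_span, ← MonoidHom.coe_mrange, Submonoid.closure_eq]
    rw [hA, Algebra.top_toSubmodule] at hB
    rw [hB, Submodule.span_le]
    rintro _ ⟨a, rfl⟩
    exact hsmall a
  let B : Basis T K (Module.End K S) := Basis.mk hli hspan
  have hB : ∀ t, B t = b t := fun t => Basis.mk_apply hli hspan t
  have hN' : Nat.card T = Module.finrank K S ^ 2 := by
    rw [Nat.card_eq_fintype_card, ← Module.finrank_eq_card_basis B, Module.finrank_linearMap, sq]
  -- the induced permutation
  have hθcenter : (center Q).map θ.toMonoidHom = center Q := by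
    ext c
    constructor
    · rintro ⟨d, hd, rfl⟩
      show θ d ∈ _
      rw [hθZ d hd]; exact hd
    · intro hc; exact ⟨c, hc, hθZ c hc⟩
  let σ : Equiv.Perm T := (QuotientGroup.congr (center Q) (center Q) θ hθcenter).toEquiv
  have hσmk : ∀ a : Q, σ (QuotientGroup.mk a) = QuotientGroup.mk (θ a) := fun a => rfl
  -- the algebra automorphism
  let L : Module.End K S →ₗ[K] Module.End K S := B.constr K fun t => ρS (θ (out t))
  have hL : ∀ a, L (ρS a) = ρS (θ a) := by
    intro a
    obtain ⟨k, hk⟩ := hscal _ (QuotientGroup.eq.mp (hout (QuotientGroup.mk a)))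
    have ha : a = out (QuotientGroup.mk a) * ((out (QuotientGroup.mk a))⁻¹ * a) := by group
    have hc := hθZ _ (QuotientGroup.eq.mp (hout (QuotientGroup.mk a)))
    conv_rhs => rw [ha, map_mul θ, hc, map_mul ρS, hk]
    conv_lhs => rw [ha, map_mul, hk]
    rw [mul_smul_comm, mul_smul_comm, mul_one, mul_one, map_smul]
    congr 1
    show L (b (QuotientGroup.mk a)) = _
    rw [← hB, Basis.constr_basis]
  have hLmul : ∀ f g, L (f * g) = L f * L g := by
    intro f g
    have hf : f ∈ Submodule.span K (Set.range b) := hspan trivial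
    have hg : g ∈ Submodule.span K (Set.range b) := hspan trivial
    induction hf using Submodule.span_induction with
    | zero => simp
    | add x y _ _ hx hy => rw [add_mul, map_add, map_add, add_mul, hx, hy]
    | smul k x _ hx => rw [smul_mul_assoc, map_smul, map_smul, smul_mul_assoc, hx]
    | mem x hx =>
      obtain ⟨t, rfl⟩ := hx
      induction hg using Submodule.span_induction with
      | zero => simp
      | add x y _ _ hx hy => rw [mul_add, map_add, map_add, mul_add, hx, hy]
      | smul k x _ hx => rw [mul_smul_comm, map_smul, map_smul, mul_smul_comm, hx]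
      | mem x hx =>
        obtain ⟨t', rfl⟩ := hx
        show L (ρS (out t) * ρS (out t')) = L (ρS _) * L (ρS _)
        rw [← map_mul ρS, hL, hL, hL, map_mul θ, map_mul ρS]
  have hL1 : L 1 = 1 := by
    rw [← map_one ρS, hL, map_one θ]
  let Λ : Module.End K S →ₐ[K] Module.End K S := AlgHom.ofLinearMap L hL1 hLmul
  have hΛsurj : Function.Surjective L := by
    rw [← LinearMap.range_eq_top, eq_top_iff]
    refine hspan.trans (Submodule.span_le.mpr ?_)
    rintro _ ⟨t, rfl⟩
    refine ⟨ρS (θ.symm (out t)), ?_⟩
    rw [hL, MulEquiv.apply_symm_apply]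
  have hΛbij : Function.Bijective Λ :=
    ⟨(LinearMap.injective_iff_surjective (f := L)).mpr hΛsurj, hΛsurj⟩
  obtain ⟨s, hs⟩ := LinearEquiv.conjAlgEquiv_surjective K S S (AlgEquiv.ofBijective Λ hΛbij)
  have hsL : ∀ f v, s (f v) = L f (s v) := by
    intro f v
    have h1 := congrArg (fun e : Module.End K S ≃ₐ[K] Module.End K S => e f (s v)) hs
    simp only [LinearEquiv.conjAlgEquiv_apply, LinearMap.coe_comp, LinearEquiv.coe_coe,
      Function.comp_apply, LinearEquiv.symm_apply_apply] at h1
    exact h1
  -- correct the scalar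
  let U : Submodule K (S →ₗ[K] W) :=
    { carrier := {φ | ∀ a v, ρ a (φ v) = φ (ρS a v)}
      add_mem' := fun {φ ψ} hφ hψ a v => by
        simp only [LinearMap.add_apply, map_add, hφ a v, hψ a v]
      zero_mem' := fun a v => by simp
      smul_mem' := fun k φ hφ a v => by
        simp only [LinearMap.smul_apply, map_smul, hφ a v] }
  let Tφ : U →ₗ[K] U :=
    { toFun := fun φ => ⟨u ∘ₗ (φ : S →ₗ[K] W) ∘ₗ s.symm.toLinearMap, by
        intro a v
        obtain ⟨a', rfl⟩ := θ.surjective a
        show ρ (θ a') (u ((φ : S →ₗ[K] W) (s.symm v))) = u ((φ : S →ₗ[K] W) (s.symm (ρS (θ a') v)))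
        rw [← Module.End.mul_apply, ← hcomm, Module.End.mul_apply, φ.2 a']
        congr 2
        apply s.injective
        rw [hsL, LinearEquiv.apply_symm_apply, LinearEquiv.apply_symm_apply, hL]⟩
      map_add' := fun φ ψ => by
        apply Subtype.ext
        refine LinearMap.ext fun v => ?_
        simp
      map_smul' := fun k φ => by
        apply Subtype.ext
        refine LinearMap.ext fun v => ?_
        simp }
  haveI : Nontrivial U := by
    refine Submodule.nontrivial_iff_ne_bot.mpr ?_
    rw [Submodule.ne_bot_iff]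
    refine ⟨S.subtype, fun a v => rfl, fun h => ?_⟩
    obtain ⟨v, hv⟩ := exists_ne (0 : S)
    exact hv (Subtype.ext (congrArg (fun f : S →ₗ[K] W => f v) h))
  obtain ⟨lam, hlam⟩ := Module.End.exists_eigenvalue Tφ
  obtain ⟨φ, hφmem, hφ0⟩ := hlam.exists_hasEigenvector
  have hφinj : Function.Injective (φ : S →ₗ[K] W) := by
    rw [← LinearMap.ker_eq_bot]
    refine (hirr _ fun a v hv => ?_).resolve_right fun h => hφ0 (Subtype.ext ?_)
    · rw [LinearMap.mem_ker] at hv ⊢
      rw [← φ.2 a v, hv, map_zero]
    · exact LinearMap.ker_eq_top.mp h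
  let u' : Module.End K S := lam • s.toLinearMap
  have hu' : ∀ v, u ((φ : S →ₗ[K] W) v) = (φ : S →ₗ[K] W) (u' v) := by
    intro v
    have h1 := congrArg (fun ψ : U => (ψ : S →ₗ[K] W) (s v))
      (Module.End.mem_eigenspace_iff.mp hφmem)
    simpa [Tφ, u'] using h1
  have hu'pow : ∀ k : ℕ, ∀ v, (u ^ k) ((φ : S →ₗ[K] W) v) = (φ : S →ₗ[K] W) ((u' ^ k) v) := by
    intro k
    induction k with
    | zero => intro v; rfl
    | succ k ih =>
      intro v
      rw [pow_succ', pow_succ', Module.End.mul_apply, Module.End.mul_apply, ih, hu']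
  have hu'r : u' ^ N = 1 := by
    refine LinearMap.ext fun v => hφinj ?_
    rw [← hu'pow, hu]; rfl
  have hu'nil : (u' - 1) ^ (N - 1) = 0 := by
    have h1 : ∀ k : ℕ, ∀ v, ((u - 1) ^ k) ((φ : S →ₗ[K] W) v) = (φ : S →ₗ[K] W) (((u' - 1) ^ k) v) := by
      intro k
      induction k with
      | zero => intro v; rfl
      | succ k ih =>
        intro v
        rw [pow_succ', pow_succ', Module.End.mul_apply, Module.End.mul_apply, ih, LinearMap.sub_apply,
          LinearMap.sub_apply, Module.End.one_apply, Module.End.one_apply, hu', map_sub]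
    refine LinearMap.ext fun v => hφinj ?_
    rw [← h1, hnil]
    simp
  -- the orbit bound for the centraliser
  have hcen : ∀ f ∈ Subalgebra.centralizer K ({u'} : Set (Module.End K S)), L f = f := by
    intro f hf
    have hlam0 : lam ≠ 0 := by
      intro h
      obtain ⟨v, hv⟩ := exists_ne (0 : S)
      apply hv
      have hz : u' = 0 := by simp [u', h]
      have := congrArg (fun g : Module.End K S => g v) hu'r
      simp only [hz, zero_pow hNpos.ne', LinearMap.zero_apply, Module.End.one_apply] at this
      exact this.symm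
    refine LinearMap.ext fun v => ?_
    obtain ⟨w, rfl⟩ := s.surjective v
    rw [← hsL]
    have h1 := congrArg (fun g : Module.End K S => g w)
      ((Subalgebra.mem_centralizer_iff K).mp hf u' (Set.mem_singleton _))
    simp only [Module.End.mul_apply, u', LinearMap.smul_apply, LinearEquiv.coe_coe, map_smul] at h1
    exact smul_right_injective S hlam0 h1
  let C : Submodule K (Module.End K S) :=
    Subalgebra.toSubmodule (Subalgebra.centralizer K ({u'} : Set (Module.End K S)))
  let Ω := MulAction.orbitRel.Quotient (zpowers σ) T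
  haveI : Fintype Ω := Fintype.ofFinite Ω
  let Ψ : C →ₗ[K] (Ω → K) :=
    { toFun := fun f o => B.repr (f : Module.End K S) (Quotient.out o)
      map_add' := fun f g => by funext o; simp
      map_smul' := fun k f => by funext o; simp }
  have hΨ : Function.Injective Ψ := by
    suffices H : ∀ f, Ψ f = 0 → f = 0 by
      intro f g hfg
      refine sub_eq_zero.mp (H (f - g) ?_)
      funext o
      have h := congrFun hfg o
      simp only [Ψ, LinearMap.coe_mk, AddHom.coe_mk] at h ⊢
      simp [h]
    intro f hf
    have hrel : ∀ t, B.repr (f : Module.End K S) t = 0 ↔ B.repr (f : Module.End K S) (σ t) = 0 := by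
      intro t
      obtain ⟨k, hk, hk0⟩ : ∃ k : K, L (B t) = k • B (σ t) ∧ k ≠ 0 := by
        obtain ⟨k, hk⟩ := hdecomp (θ (out t))
        have hσt : QuotientGroup.mk (θ (out t)) = σ t := by rw [← hσmk, hout]
        rw [hσt] at hk
        refine ⟨k, by rw [hB, hB, hL]; exact hk, fun h => ?_⟩
        rw [h, zero_smul] at hk
        exact (hunit _).ne_zero hk
      have h1 : ∀ g : Module.End K S, B.repr (L g) (σ t) = k * B.repr g t := by
        intro g
        have : B.coord (σ t) ∘ₗ L = k • B.coord t := by
          refine B.ext fun t' => ?_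
          obtain ⟨k', hk'⟩ := hdecomp (θ (out t'))
          have hσt : QuotientGroup.mk (θ (out t')) = σ t' := by rw [← hσmk, hout]
          simp only [LinearMap.comp_apply, LinearMap.smul_apply, Basis.coord_apply]
          by_cases h : t' = t
          · subst h; rw [hk]; simp
          · rw [hB t', hL, hk', hσt, ← hB, ← hB t']
            simp [Finsupp.single_eq_of_ne, h, (σ.injective.ne h)]
        exact congrArg (fun l : Module.End K S →ₗ[K] K => l g) this
      have h2 := h1 (f : Module.End K S)
      rw [hcen _ f.2] at h2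
      rw [h2, mul_eq_zero]
      exact ⟨Or.inr, fun h => h.resolve_left hk0⟩
    apply Subtype.ext
    show (f : Module.End K S) = 0
    apply B.repr.injective
    rw [map_zero]
    ext t
    have hrep : B.repr (f : Module.End K S) (Quotient.out (Quotient.mk'' t : Ω)) = 0 :=
      congrFun hf _
    obtain ⟨g, hg⟩ := MulAction.orbitRel_apply.mp
      (Quotient.exact' (Quotient.out_eq' (Quotient.mk'' t : Ω)))
    obtain ⟨j, hj⟩ := Subgroup.mem_zpowers_iff.mp g.2
    have key : ∀ j : ℤ, ∀ t, B.repr (f : Module.End K S) t = 0 ↔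
        B.repr (f : Module.End K S) ((σ ^ j) t) = 0 := by
      intro j
      induction j using Int.induction_on with
      | zero => intro t; simp
      | succ n ih => intro t; rw [add_comm, zpow_add, zpow_one, Equiv.Perm.mul_apply, ih t, hrel]
      | pred n ih =>
        intro t
        rw [sub_eq_neg_add, zpow_add, zpow_neg_one, Equiv.Perm.mul_apply, ih t,
          hrel (σ⁻¹ _), ← Equiv.Perm.mul_apply σ σ⁻¹, mul_inv_cancel, Equiv.Perm.one_apply]
    rw [Finsupp.zero_apply]
    rw [key j t, hj]
    rw [show (g : Equiv.Perm T) t = g • t from rfl, show g • t = _ from hg]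
    exact hrep
  -- orbit count
  have hσit : ∀ k : ℕ, ∀ a : Q, (σ ^ k) (QuotientGroup.mk a) = QuotientGroup.mk ((θ : Q → Q)^[k] a) := by
    intro k
    induction k with
    | zero => intro a; rfl
    | succ k ih =>
      intro a
      rw [pow_succ', Equiv.Perm.mul_apply, ih, hσmk, Function.iterate_succ_apply']
  have hσN : σ ^ N = 1 := by
    ext t
    rw [← hout t, hσit, hθN]
    rfl
  have hσ0 : σ (1 : T) = 1 := by
    show σ (QuotientGroup.mk 1) = _
    rw [hσmk, map_one]
    rfl
  have hσfree : ∀ k : ℕ, 0 < k → k < N → ∀ t : T, (σ ^ k) t = t → t = 1 := by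
    intro k hk0 hkN t ht
    rw [← hout t, hσit] at ht
    rw [← hout t]
    exact (QuotientGroup.eq_one_iff _).mpr (hfree k hk0 hkN _ (QuotientGroup.eq.mp ht.symm))
  obtain ⟨a₀, ha₀⟩ := hnc
  have hne : ∃ t : T, t ≠ 1 := ⟨QuotientGroup.mk a₀, fun h => ha₀ ((QuotientGroup.eq_one_iff _).mp h)⟩
  have hcount := card_orbits_semiregular σ hNpos 1 hσN hσ0 hσfree hne
  rw [hN'] at hcount
  -- fixed operators are scalar on the fixed vectors
  have hlam0 : lam ≠ 0 := by
    intro h
    obtain ⟨v, hv⟩ := exists_ne (0 : S)
    apply hv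
    have hz : u' = 0 := by simp [u', h]
    have := congrArg (fun g : Module.End K S => g v) hu'r
    simp only [hz, zero_pow hNpos.ne', LinearMap.zero_apply, Module.End.one_apply] at this
    exact this.symm
  have hLu : ∀ g : Module.End K S, u' * g = L g * u' := fun g => LinearMap.ext fun v => by
    simp only [Module.End.mul_apply, u', LinearMap.smul_apply, LinearEquiv.coe_coe, map_smul, hsL]
  have hLuk : ∀ (k : ℕ) (g : Module.End K S), u' ^ k * g = L^[k] g * u' ^ k := by
    intro k
    induction k with
    | zero => intro g; simp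
    | succ k ih =>
      intro g
      rw [pow_succ, mul_assoc, hLu, ← mul_assoc, ih, mul_assoc, Function.iterate_succ_apply]
  have hmemC : ∀ g : Module.End K S, L g = g → g ∈ C := by
    intro g hg
    show g ∈ Subalgebra.centralizer K ({u'} : Set (Module.End K S))
    rw [Subalgebra.mem_centralizer_iff]
    intro y hy
    rw [Set.mem_singleton_iff] at hy
    subst hy
    rw [hLu, hg]
  let NL : Module.End K S → Module.End K S := fun g => ∑ i ∈ Finset.range N, L^[i] g
  have hLN : ∀ g : Module.End K S, L^[N] g = g := by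
    intro g
    have h1 := hLuk N g
    rw [hu'r, one_mul, mul_one] at h1
    exact h1.symm
  have hNLC : ∀ g, NL g ∈ C := by
    intro g
    refine hmemC _ ?_
    show L (∑ i ∈ Finset.range N, L^[i] g) = ∑ i ∈ Finset.range N, L^[i] g
    rw [map_sum]
    have e1 : ∀ i ∈ Finset.range N, L (L^[i] g) = L^[i + 1] g := fun i _ =>
      (Function.iterate_succ_apply' L i g).symm
    rw [Finset.sum_congr rfl e1]
    have h1 := (Finset.sum_range_succ' (fun i => L^[i] g) N).symm.trans
      (Finset.sum_range_succ (fun i => L^[i] g) N)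
    simp only [hLN, Function.iterate_zero_apply] at h1
    exact add_right_cancel h1
  have hNLker : ∀ g v, u' v = v → NL g v = 0 := by
    intro g v hv
    have hpow : ∀ k : ℕ, (u' ^ k) v = v := by
      intro k
      induction k with
      | zero => rfl
      | succ k ih => rw [pow_succ, Module.End.mul_apply, hv, ih]
    have e1 : ∀ i ∈ Finset.range N, (L^[i] g) v = (u' ^ i) (g v) := by
      intro i _
      have h1 := congrArg (fun f : Module.End K S => f v) (hLuk i g)
      simp only [Module.End.mul_apply, hpow] at h1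
      exact h1.symm
    show (∑ i ∈ Finset.range N, L^[i] g) v = 0
    rw [LinearMap.sum_apply, Finset.sum_congr rfl e1, ← LinearMap.sum_apply, hN,
      H11.HB.geom_sum_eq_sub_one_pow (K := K), ← hN, hu'nil, LinearMap.zero_apply]
  have hLit : ∀ (i : ℕ) (t : T), ∃ k : K, L^[i] (B t) = k • B ((σ ^ i) t) := by
    intro i
    induction i with
    | zero => intro t; exact ⟨1, by simp⟩
    | succ i ih =>
      intro t
      obtain ⟨k, hk⟩ := ih t
      obtain ⟨k', hk'⟩ := hdecomp (θ (out ((σ ^ i) t)))
      refine ⟨k * k', ?_⟩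
      rw [Function.iterate_succ_apply', hk, map_smul, hB, hB, hL, hk', ← hσmk, hout, smul_smul,
        pow_succ', Equiv.Perm.mul_apply]
  have hB1 : ∃ k₀ : K, B 1 = k₀ • (1 : Module.End K S) ∧ k₀ ≠ 0 := by
    obtain ⟨k, hk⟩ := hscal (out 1) ((QuotientGroup.eq_one_iff _).mp (hout 1))
    refine ⟨k, by rw [hB]; exact hk, fun h => ?_⟩
    rw [h, zero_smul] at hk
    exact (hunit _).ne_zero hk
  obtain ⟨k₀, hk₀, hk₀0⟩ := hB1
  let rep : Ω → T := Quotient.out
  let o₁ : Ω := Quotient.mk'' 1
  have hrep1 : rep o₁ = 1 := by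
    obtain ⟨g, hg⟩ := MulAction.orbitRel_apply.mp (Quotient.exact' (Quotient.out_eq' o₁))
    obtain ⟨j, hj⟩ := Subgroup.mem_zpowers_iff.mp g.2
    show Quotient.out o₁ = 1
    rw [← hg]
    show (g : Equiv.Perm T) 1 = 1
    rw [← hj]
    exact Equiv.Perm.zpow_apply_eq_self_of_apply_eq_self hσ0 j
  have hrep_ne : ∀ o, o ≠ o₁ → rep o ≠ 1 := by
    intro o ho h
    apply ho
    rw [← Quotient.out_eq' o]
    exact congrArg Quotient.mk'' h
  have hcoord : ∀ o o' : Ω, o ≠ o₁ →
      B.repr (NL (B (rep o))) (rep o') = if o' = o then 1 else 0 := by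
    intro o o' ho
    show B.repr (∑ i ∈ Finset.range N, L^[i] (B (rep o))) (rep o') = _
    rw [map_sum, Finsupp.finsetSum_apply, Finset.sum_eq_single 0]
    · rw [Function.iterate_zero_apply, Basis.repr_self, Finsupp.single_apply]
      by_cases h : o' = o
      · rw [if_pos h, if_pos (by rw [h])]
      · rw [if_neg h, if_neg]
        intro h'
        apply h
        rw [← Quotient.out_eq' o, ← Quotient.out_eq' o']
        exact (congrArg Quotient.mk'' h').symm
    · intro i hi hi0
      obtain ⟨k, hk⟩ := hLit i (rep o)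
      rw [hk, map_smul, Finsupp.smul_apply, Basis.repr_self, Finsupp.single_apply, if_neg, smul_zero]
      intro h'
      have hoo : o' = o := by
        rw [← Quotient.out_eq' o, ← Quotient.out_eq' o']
        exact Quotient.sound' ⟨⟨σ ^ i, pow_mem (mem_zpowers σ) i⟩, h'⟩
      subst hoo
      exact hrep_ne o' ho (hσfree i (Nat.pos_of_ne_zero hi0) (Finset.mem_range.mp hi) _ h')
    · intro h
      exact absurd (Finset.mem_range.mpr hNpos) h
  have hscalarC : ∀ f ∈ C, ∃ α : K, ∀ v, u' v = v → f v = α • v := by
    intro f hf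
    set c : Ω → K := fun o => B.repr f (rep o) with hc
    set f' : Module.End K S := c o₁ • B 1 + ∑ o ∈ Finset.univ.erase o₁, c o • NL (B (rep o)) with hf'
    have hf'C : f' ∈ C := by
      refine add_mem (Submodule.smul_mem _ _ ?_) (sum_mem fun o _ => Submodule.smul_mem _ _ (hNLC _))
      exact hmemC _ (by rw [hk₀, map_smul, hL1])
    have heq : (⟨f, hf⟩ : C) = ⟨f', hf'C⟩ := by
      apply hΨ
      funext o'
      show B.repr f (rep o') = B.repr f' (rep o')
      rw [hf', map_add, map_smul, map_sum, Finsupp.add_apply, Finsupp.smul_apply,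
        Finsupp.finsetSum_apply, Basis.repr_self]
      have e1 : ∀ o ∈ Finset.univ.erase o₁, (B.repr (c o • NL (B (rep o)))) (rep o') =
          if o' = o then c o else 0 := by
        intro o ho
        rw [map_smul, Finsupp.smul_apply, hcoord o o' (Finset.ne_of_mem_erase ho)]
        split <;> simp
      rw [Finset.sum_congr rfl e1, Finset.sum_ite_eq]
      by_cases h : o' = o₁
      · subst h
        rw [if_neg (by simp), add_zero, ← hrep1, Finsupp.single_eq_same, smul_eq_mul, mul_one]
      · rw [if_pos (by simp [h]), Finsupp.single_eq_of_ne (hrep_ne o' h), smul_zero, zero_add]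
    have hff : f = f' := congrArg Subtype.val heq
    refine ⟨c o₁ * k₀, fun v hv => ?_⟩
    rw [hff, hf', LinearMap.add_apply, LinearMap.sum_apply, Finset.sum_eq_zero (fun o _ => by
      rw [LinearMap.smul_apply, hNLker _ _ hv, smul_zero]), add_zero, LinearMap.smul_apply, hk₀,
      LinearMap.smul_apply, Module.End.one_apply, smul_smul]
  -- a longest chain
  set n : Module.End K S := u' - 1 with hn
  have hker : ∀ v, n v = 0 ↔ u' v = v := fun v => by simp [hn, sub_eq_zero]
  have hex : ∃ r, n ^ r = 0 := ⟨N - 1, hu'nil⟩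
  have hr0 : Nat.find hex ≠ 0 := by
    intro h
    have := Nat.find_spec hex
    rw [h, pow_zero] at this
    obtain ⟨v, hv⟩ := exists_ne (0 : S)
    exact hv (by simpa using congrArg (fun g : Module.End K S => g v) this)
  obtain ⟨r, hr⟩ : ∃ r, Nat.find hex = r + 1 := ⟨Nat.find hex - 1, by omega⟩
  have hrtop : n ^ (r + 1) = 0 := hr ▸ Nat.find_spec hex
  have hrne : n ^ r ≠ 0 := Nat.find_min hex (by omega)
  obtain ⟨v₀, hv₀⟩ : ∃ v, (n ^ r) v ≠ 0 := by
    by_contra hall
    push Not at hall
    exact hrne (LinearMap.ext hall)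
  set z := (n ^ r) v₀ with hz
  obtain ⟨π, hπ⟩ := (LinearMap.toSpanSingleton K S z).exists_leftInverse_of_injective
    (LinearMap.ker_eq_bot.mpr (smul_left_injective K hv₀))
  have hπz : π z = 1 := by
    simpa using congrArg (fun g : K →ₗ[K] K => g 1) hπ
  let h : Module.End K S := ∑ i ∈ Finset.range (r + 1), (π ∘ₗ (n ^ (r - i))).smulRight ((n ^ i) v₀)
  have hh : ∀ w, h w = ∑ i ∈ Finset.range (r + 1), π ((n ^ (r - i)) w) • (n ^ i) v₀ := fun w => by
    simp [h]
  have hcommh : n * h = h * n := by
    refine LinearMap.ext fun w => ?_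
    rw [Module.End.mul_apply, Module.End.mul_apply, hh, hh, map_sum, Finset.sum_range_succ,
      Finset.sum_range_succ']
    have e0 : π ((n ^ (r - 0)) (n w)) = 0 := by
      rw [Nat.sub_zero, ← Module.End.mul_apply, ← pow_succ, hrtop, LinearMap.zero_apply, map_zero]
    have er : n (π ((n ^ (r - r)) w) • (n ^ r) v₀) = 0 := by
      rw [map_smul, ← Module.End.mul_apply, ← pow_succ', hrtop, LinearMap.zero_apply, smul_zero]
    rw [e0, zero_smul, add_zero, er, add_zero]
    refine Finset.sum_congr rfl fun i hi => ?_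
    rw [map_smul, ← Module.End.mul_apply n, ← pow_succ', ← Module.End.mul_apply (n ^ (r - (i + 1))) n,
      ← pow_succ, show r - (i + 1) + 1 = r - i by have := Finset.mem_range.mp hi; omega]
  have hhC : h ∈ C := by
    refine hmemC h ?_
    have h1 : u' * h = h * u' := by
      rw [hn, sub_mul, mul_sub, one_mul, mul_one, sub_left_inj] at hcommh
      exact hcommh
    refine LinearMap.ext fun v => ?_
    obtain ⟨w, rfl⟩ := s.surjective v
    rw [← hsL]
    have h2 := congrArg (fun g : Module.End K S => g w) h1
    simp only [Module.End.mul_apply, u', LinearMap.smul_apply, LinearEquiv.coe_coe, map_smul] at h2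
    exact smul_right_injective S hlam0 h2
  obtain ⟨α, hα⟩ := hscalarC h hhC
  have hhker : ∀ w, n w = 0 → h w = π w • z := by
    intro w hw
    rw [hh, Finset.sum_eq_single r]
    · rw [Nat.sub_self, pow_zero, Module.End.one_apply]
    · intro i hi hir
      rw [show r - i = (r - i - 1) + 1 by have := Finset.mem_range.mp hi; omega, pow_succ,
        Module.End.mul_apply, hw, map_zero, map_zero, zero_smul]
    · intro h'
      exact absurd (Finset.self_mem_range_succ r) h'
  have hnz : n z = 0 := by
    rw [hz, ← Module.End.mul_apply, ← pow_succ', hrtop, LinearMap.zero_apply]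
  have hα1 : α = 1 := by
    have h1 := hα z ((hker z).mp hnz)
    rw [hhker z hnz, hπz, one_smul] at h1
    exact (smul_left_injective K hv₀ (by simpa using h1)).symm
  have hkle : Module.finrank K (LinearMap.ker n) ≤ 1 := by
    refine le_trans (Submodule.finrank_mono (t := K ∙ z) fun w hw => ?_)
      (le_of_eq (finrank_span_singleton hv₀))
    rw [LinearMap.mem_ker] at hw
    have h1 := hα w ((hker w).mp hw)
    rw [hhker w hw, hα1, one_smul] at h1
    exact Submodule.mem_span_singleton.mpr ⟨π w, h1⟩
  have hdle : Module.finrank K S ≤ N - 1 := by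
    have h1 := finrank_ker_pow_le n hkle (r + 1)
    rw [hrtop, LinearMap.ker_zero, finrank_top] at h1
    have h2 : Nat.find hex ≤ N - 1 := Nat.find_min' hex hu'nil
    omega
  obtain ⟨f, hf⟩ := IsPGroup.iff_card.mp (hQ.to_quotient (center Q))
  have hd2 : 2 ≤ Module.finrank K S := by
    by_contra hlt
    have h1 : Nat.card T ≤ 1 := by
      rw [hN', sq]
      exact Nat.mul_le_mul (by omega : _ ≤ 1) (by omega : _ ≤ 1)
    obtain ⟨t, ht⟩ := hne
    exact ht (Finite.card_le_one_iff_subsingleton.mp h1 |>.elim t 1)
  obtain ⟨e, -, he⟩ := (Nat.dvd_prime_pow Nat.prime_two).mp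
    (show Module.finrank K S ∣ 2 ^ f by
      rw [← hf, show Nat.card (Q ⧸ center Q) = Module.finrank K S ^ 2 from hN', sq]
      exact dvd_mul_right _ _)
  have hfin := arith hp hp2 hN he hd2 hdle hcount
  refine ⟨?_, e, ?_, by omega⟩
  · show Nat.card T = _
    rw [hN', hfin, Nat.add_sub_cancel]
  · rcases Nat.eq_zero_or_pos e with h' | h'
    · rw [he, h', pow_zero] at hd2; omega
    · exact h'

end Cfsg.Agent.H29.HHExp
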