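import Cfsg.Agent.H1.Shult.Eigen
import Cfsg.Agent.H28.ShultGross.Eigen
import Cfsg.Agent.H11.HallHigmanBase

/-!
Two orbit arguments for the Hall–Higman exponent bound: operators without a regular summand fix the
characters of normalised abelian groups, and an element moving few vectors of a space over the field with two
elements fixes the characters of normalised abelian `p`-groups.
-/

set_option autoImplicit false
set_option linter.all false

open scoped TensorProduct

namespace Cfsg.Agent.H29.HHExp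

open Module
open H28.SG (Eig tw)

section Orbit

variable {K : Type*} [Field K] [IsAlgClosed K] {W : Type*} [AddCommGroup W] [Module K W]
  [FiniteDimensional K W]

/-- Eigencharacters are fixed by the element of order `p` when the norm vanishes. -/
theorem eig_fixed {A : Type*} {p k : ℕ} (hp : p.Prime) {F : A → Module.End K W} {θ : A ≃ A}
    {s : Module.End K W} (hs : ∀ a, s * F a = F (θ a) * s) (hθ : ∀ a, (⇑θ)^[p ^ (k + 1)] a = a)
    (hsum : ∑ i ∈ Finset.range (p ^ (k + 1)), s ^ i = 0) {μ : A → K} {v : W} (h : Eig F μ v)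
    (hv : v ≠ 0) (a : A) : μ ((⇑θ)^[p ^ k] a) = μ a := by
  have hP : Function.IsPeriodicPt (tw θ) (p ^ (k + 1)) μ := H28.SG.tw_iterate_of_period hθ μ
  obtain ⟨j, hj, hjL⟩ := (Nat.dvd_prime_pow hp).mp hP.minimalPeriod_dvd
  have hjk : j ≤ k := by
    by_contra hjk
    apply hv
    have hmin : Function.minimalPeriod (tw θ) μ = p ^ (k + 1) := by rw [hjL]; congr 1; omega
    have h0 : ∑ i ∈ Finset.range (p ^ (k + 1)), (s ^ i) v = 0 := by
      rw [← LinearMap.sum_apply, hsum, LinearMap.zero_apply]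
    have := H28.SG.eig_indep F (fun i => (tw θ)^[i] μ) (Finset.range (p ^ (k + 1)))
      (by rw [Finset.coe_range, ← hmin]; exact Function.iterate_injOn_Iio_minimalPeriod)
      (fun i => (s ^ i) v) (fun i _ => h.twist_pow hs i) h0 0
      (Finset.mem_range.mpr (pow_pos hp.pos _))
    simpa using this
  have hk : (tw θ)^[p ^ k] μ = μ :=
    (Function.isPeriodicPt_minimalPeriod (tw θ) μ).trans_dvd (hjL ▸ pow_dvd_pow p hjk)
  conv_lhs => rw [← hk]
  exact H28.SG.tw_iterate_apply θ (p ^ k) μ a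

/-- Operators normalising an abelian group of order prime to `p` commute with it up to the `p`-th root. -/
theorem map_iterate_eq {A : Type*} [Group A] {p k : ℕ} (hp : p.Prime) (F : A →* Module.End K W)
    (hcomm : ∀ a b, F a * F b = F b * F a) (hord : ∀ a : A, (orderOf a : K) ≠ 0) (θ : MulAut A)
    {s : Module.End K W} (hs : ∀ a, s * F a = F (θ a) * s) (hθ : ∀ a, (⇑θ)^[p ^ (k + 1)] a = a)
    (hsum : ∑ i ∈ Finset.range (p ^ (k + 1)), s ^ i = 0) (a : A) :
    F ((⇑θ)^[p ^ k] a) = F a := by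
  have h1 : F ((⇑θ)^[p ^ k] a * a⁻¹) = 1 := by
    have := H1.Shult.eq_smul_of_eigen F hcomm ((⇑θ)^[p ^ k] a * a⁻¹) (hord _) 1 ?_
    · simpa using this
    intro v hv χ hχ
    have hE : Eig (⇑F) χ v := hχ
    have hfa : χ ((⇑θ)^[p ^ k] a) = χ a := eig_fixed hp (θ := θ.toEquiv) hs hθ hsum hE hv a
    rw [H28.SG.eig_mul hE hv, hfa,
      ← H28.SG.eig_mul hE hv, mul_inv_cancel, H28.SG.eig_one hE hv]
  calc F ((⇑θ)^[p ^ k] a) = F (((⇑θ)^[p ^ k] a * a⁻¹) * a) := by group
    _ = F a := by rw [map_mul, h1, one_mul]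

end Orbit

section Monomial

theorem arith_three {p n j : ℕ} [Fact p.Prime] (hp3 : 3 ≤ p) (hn : 2 ≤ n) (hq : p ^ n - 1 = 2 ^ j) :
    p = 3 ∧ n = 2 ∧ j = 3 := by
  have hodd : Odd p := (Fact.out : p.Prime).odd_of_ne_two (by omega)
  rcases Nat.even_or_odd n with ⟨m, hm⟩ | hno
  · subst hm
    have hm1 : 1 ≤ m := by omega
    set u := p ^ m with hu
    have hu3 : 3 ≤ u := hp3.trans (Nat.le_self_pow (by omega) p)
    have hfac : (u - 1) * (u + 1) = 2 ^ j := by
      rw [← hq, pow_add, ← hu, mul_comm, ← Nat.sq_sub_sq]; simp [sq]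
    obtain ⟨a, -, ha⟩ := (Nat.dvd_prime_pow Nat.prime_two).mp (Dvd.intro _ hfac)
    obtain ⟨b, -, hb⟩ := (Nat.dvd_prime_pow Nat.prime_two).mp (Dvd.intro_left _ hfac)
    have hab : 2 ^ b = 2 ^ a + 2 := by omega
    have ha1 : 1 ≤ a := by
      by_contra h
      have : a = 0 := by omega
      rw [this, pow_zero] at ha
      omega
    have ha' : a = 1 := by
      by_contra h
      have h4 : 4 ∣ 2 ^ a := pow_dvd_pow 2 (show 2 ≤ a by omega)
      have hb2 : 2 ≤ b := by
        by_contra hb'
        have : 2 ^ b ≤ 2 ^ 1 := Nat.pow_le_pow_right (by norm_num) (by omega)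
        omega
      have h4' : 4 ∣ 2 ^ b := pow_dvd_pow 2 hb2
      omega
    subst ha'
    have hu3' : u = 3 := by omega
    have hm' : m = 1 := by
      by_contra h
      have : p ^ 2 ≤ u := Nat.pow_le_pow_right (by omega) (by omega)
      nlinarith
    subst hm'
    rw [hu, pow_one] at hu3'
    subst hu3'
    refine ⟨rfl, rfl, ?_⟩
    have : 2 ^ j = 2 ^ 3 := by rw [← hq]; norm_num
    exact Nat.pow_right_injective le_rfl this
  · exfalso
    have hgeom : (∑ i ∈ Finset.range n, p ^ i) * (p - 1) = 2 ^ j := by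
      rw [← hq]
      exact geom_sum_mul_of_one_le (by omega) n
    obtain ⟨c, -, hc⟩ := (Nat.dvd_prime_pow Nat.prime_two).mp (Dvd.intro _ hgeom)
    have hsum_odd : Odd (∑ i ∈ Finset.range n, p ^ i) := by
      rw [Finset.odd_sum_iff_odd_card_odd, Finset.filter_true_of_mem (fun i _ => hodd.pow),
        Finset.card_range]
      exact hno
    have hc0 : c = 0 := by
      rw [hc, Nat.odd_pow_iff] at hsum_odd
      · exact absurd hsum_odd (by decide)
      · intro h
        exact absurd h (by
          intro h0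
          subst h0
          have : 1 + p ≤ ∑ i ∈ Finset.range n, p ^ i := by
            rw [← Finset.sum_range_add_sum_Ico _ hn]
            simp [Finset.sum_range_succ]
          rw [hc, pow_zero] at this
          omega)
    subst hc0
    have : 1 + p ≤ ∑ i ∈ Finset.range n, p ^ i := by
      rw [← Finset.sum_range_add_sum_Ico _ hn]
      simp [Finset.sum_range_succ]
    rw [hc, pow_zero] at this
    omega

abbrev K₂ : Type := AlgebraicClosure (ZMod 2)

variable {S : Type*} [AddCommGroup S] [Module (ZMod 2) S] [FiniteDimensional (ZMod 2) S]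

/-- The scalar extension of an operator. -/
noncomputable def ext₂ : Module.End (ZMod 2) S →* Module.End K₂ (K₂ ⊗[ZMod 2] S) :=
  (Module.End.baseChangeHom (ZMod 2) K₂ S : Module.End (ZMod 2) S →* _)

theorem ext₂_apply (f : Module.End (ZMod 2) S) : ext₂ f = f.baseChange K₂ := rfl

theorem ext₂_injective : Function.Injective (ext₂ : Module.End (ZMod 2) S → _) := by
  intro f g h
  have hflat : Function.Injective (fun v : S => (1 : K₂) ⊗ₜ[ZMod 2] v) := by
    have hi := Module.Flat.rTensor_preserves_injective_linearMap (M := S)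
      (Algebra.linearMap (ZMod 2) K₂) (algebraMap (ZMod 2) K₂).injective
    intro v w hvw
    apply (TensorProduct.lid (ZMod 2) S).symm.injective
    apply hi
    simpa using hvw
  refine LinearMap.ext fun v => hflat ?_
  have := congrArg (fun φ : Module.End K₂ (K₂ ⊗[ZMod 2] S) => φ ((1 : K₂) ⊗ₜ[ZMod 2] v)) h
  simpa [ext₂_apply] using this

theorem finrank_range_ext₂ (f : Module.End (ZMod 2) S) :
    Module.finrank K₂ (LinearMap.range (ext₂ f)) ≤ Module.finrank (ZMod 2) (LinearMap.range f) := by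
  have h : f.baseChange K₂ =
      ((LinearMap.range f).subtype.baseChange K₂) ∘ₗ (f.rangeRestrict.baseChange K₂) := by
    rw [← LinearMap.baseChange_comp]
    rfl
  rw [ext₂_apply, h]
  refine ((Submodule.finrank_mono (LinearMap.range_comp_le_range _ _)).trans
    (LinearMap.finrank_range_le _)).trans ?_
  rw [Module.finrank_baseChange]

/-- The Frobenius on the first factor. -/
noncomputable def frob₂ : K₂ ⊗[ZMod 2] S →ₗ[ZMod 2] K₂ ⊗[ZMod 2] S :=
  LinearMap.rTensor S ((frobenius K₂ 2).toAddMonoidHom.toZModLinearMap 2)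

theorem frob₂_tmul (k : K₂) (v : S) : frob₂ (k ⊗ₜ[ZMod 2] v) = (k ^ 2) ⊗ₜ[ZMod 2] v := rfl

theorem frob₂_smul (c : K₂) (w : K₂ ⊗[ZMod 2] S) : frob₂ (c • w) = c ^ 2 • frob₂ w := by
  induction w using TensorProduct.induction_on with
  | zero => simp
  | tmul k v => simp [TensorProduct.smul_tmul', frob₂_tmul, mul_pow]
  | add a b ha hb => simp only [smul_add, map_add, ha, hb]

theorem frob₂_ext₂ (f : Module.End (ZMod 2) S) (w : K₂ ⊗[ZMod 2] S) :
    ext₂ f (frob₂ w) = frob₂ (ext₂ f w) := by
  induction w using TensorProduct.induction_on with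
  | zero => simp
  | tmul k v => simp [ext₂_apply, frob₂_tmul]
  | add a b ha hb => simp only [map_add, ha, hb]

theorem frob₂_injective : Function.Injective (frob₂ : K₂ ⊗[ZMod 2] S → _) :=
  Module.Flat.rTensor_preserves_injective_linearMap (M := S) _ (frobenius K₂ 2).injective

variable {L : Type*} [Group L] [Finite L] (π : L →* Module.End (ZMod 2) S) (A : Subgroup L) [A.Normal]

/-- The representation of `A` on the scalar extension. -/
noncomputable def repA : A →* Module.End K₂ (K₂ ⊗[ZMod 2] S) :=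
  ext₂.comp (π.comp A.subtype)

/-- Eigencharacters of `A` on the scalar extension. -/
def IsChar (χ : A → K₂) : Prop := ∃ v, v ≠ 0 ∧ Eig (⇑(repA π A)) χ v

/-- The action on characters. -/
def act (g : L) (χ : A → K₂) : A → K₂ := fun a => χ (MulAut.conjNormal g⁻¹ a)

variable {π A}

omit [Finite L] in
theorem act_mul (g h : L) (χ : A → K₂) : act A (g * h) χ = act A g (act A h χ) := by
  funext a
  simp [act, map_mul, mul_inv_rev]

omit [Finite L] in
theorem act_one (χ : A → K₂) : act A (1 : L) χ = χ := by funext a; simp [act]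

omit [Finite L] in
theorem act_pow_two (g : L) (χ : A → K₂) (t : ℕ) :
    act A g (fun a => χ a ^ t) = fun a => act A g χ a ^ t := rfl

omit [Finite L] [FiniteDimensional (ZMod 2) S] in
theorem eig_act {χ : A → K₂} {v : K₂ ⊗[ZMod 2] S} (h : Eig (⇑(repA π A)) χ v) (g : L) :
    Eig (⇑(repA π A)) (act A g χ) (ext₂ (π g) v) := by
  intro a
  have h1 : repA π A a * ext₂ (π g) = ext₂ (π g) * repA π A (MulAut.conjNormal g⁻¹ a) := by
    show ext₂ (π (a : L)) * ext₂ (π g) = ext₂ (π g) * ext₂ (π (MulAut.conjNormal g⁻¹ a : A))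
    rw [← map_mul, ← map_mul, ← map_mul, ← map_mul, MulAut.conjNormal_apply, inv_inv, ← mul_assoc,
      ← mul_assoc, mul_inv_cancel, one_mul]
  rw [← Module.End.mul_apply, h1, Module.End.mul_apply, h, map_smul]
  rfl

omit [Finite L] [FiniteDimensional (ZMod 2) S] in
theorem ext₂_ne_zero (g : L) {v : K₂ ⊗[ZMod 2] S} (hv : v ≠ 0) : ext₂ (π g) v ≠ 0 := by
  intro h
  apply hv
  have := congrArg (ext₂ (π g⁻¹)) h
  rwa [← Module.End.mul_apply, ← map_mul, ← map_mul, inv_mul_cancel, map_one, map_one, map_zero,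
    Module.End.one_apply] at this

omit [Finite L] [FiniteDimensional (ZMod 2) S] in
theorem IsChar.act {χ : A → K₂} (h : IsChar π A χ) (g : L) : IsChar π A (HHExp.act A g χ) := by
  obtain ⟨v, hv, hE⟩ := h
  exact ⟨_, ext₂_ne_zero g hv, eig_act hE g⟩

omit [Finite L] in
theorem IsChar.sq {χ : A → K₂} (h : IsChar π A χ) : IsChar π A (fun a => χ a ^ 2) := by
  obtain ⟨v, hv, hE⟩ := h
  refine ⟨frob₂ v, fun h0 => hv (frob₂_injective (h0.trans (map_zero _).symm)), fun a => ?_⟩
  show ext₂ (π (a : L)) (frob₂ v) = _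
  rw [frob₂_ext₂, show ext₂ (π (a : L)) v = χ a • v from hE a, frob₂_smul]

/-- Characters in one orbit of `y`. -/
def SameOrbit (y : L) (χ χ' : A → K₂) : Prop := ∃ i : ℕ, act A (y ^ i) χ = χ'

theorem SameOrbit.symm {y : L} {χ χ' : A → K₂} (h : SameOrbit y χ χ') : SameOrbit y χ' χ := by
  obtain ⟨i, rfl⟩ := h
  refine ⟨orderOf y * i - i, ?_⟩
  rw [← act_mul, ← pow_add, Nat.sub_add_cancel (Nat.le_mul_of_pos_left i (orderOf_pos y)), pow_mul,
    pow_orderOf_eq_one, one_pow, act_one]

omit [Finite L] in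
theorem SameOrbit.trans {y : L} {χ χ' χ'' : A → K₂} (h : SameOrbit y χ χ') (h' : SameOrbit y χ' χ'') :
    SameOrbit y χ χ'' := by
  obtain ⟨i, rfl⟩ := h
  obtain ⟨i', rfl⟩ := h'
  exact ⟨i' + i, by rw [pow_add, act_mul]⟩

theorem act_eq_of_pow {p : ℕ} (hp : p.Prime) {y : L} (hy : y ^ p = 1) {χ : A → K₂} {i : ℕ}
    (hi : ¬ p ∣ i) (h : act A (y ^ i) χ = χ) : act A y χ = χ := by
  obtain ⟨m, -, hm⟩ := Nat.exists_mul_mod_eq_one_of_coprime
    ((Nat.Prime.coprime_iff_not_dvd hp).mpr hi).symm hp.one_lt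
  have h1 : ∀ k : ℕ, act A ((y ^ i) ^ k) χ = χ := by
    intro k
    induction k with
    | zero => rw [pow_zero, act_one]
    | succ k ih => rw [pow_succ, act_mul, h, ih]
  have h2 := h1 m
  rwa [← pow_mul, ← Nat.div_add_mod (i * m) p, hm, pow_add, pow_mul, hy, one_pow, one_mul, pow_one]
    at h2

/-- Every moved orbit costs `p - 1` dimensions of moved vectors. -/
theorem orbit_count {p : ℕ} (hp : p.Prime) {y : L} (hy : y ^ p = 1) {c : ℕ} (χ : Fin c → A → K₂)
    (hχ : ∀ i, IsChar π A (χ i)) (hmoved : ∀ i, act A y (χ i) ≠ χ i)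
    (hdis : ∀ i j, i ≠ j → ¬ SameOrbit y (χ i) (χ j)) :
    c * (p - 1) ≤ Module.finrank (ZMod 2) (LinearMap.range (π y - 1)) := by
  classical
  choose v hv hE using hχ
  set F := repA π A
  let Y : Module.End K₂ (K₂ ⊗[ZMod 2] S) := ext₂ (π y)
  let w : Fin c × Fin (p - 1) → K₂ ⊗[ZMod 2] S := fun t =>
    (Y ^ (t.2.1 + 1)) (v t.1) - v t.1
  have hin : ∀ t, w t ∈ LinearMap.range (Y - 1) := by
    intro t
    refine ⟨(∑ i ∈ Finset.range (t.2.1 + 1), Y ^ i) (v t.1), ?_⟩
    rw [← Module.End.mul_apply, show (Y - 1) * ∑ i ∈ Finset.range (t.2.1 + 1), Y ^ i = Y ^ (t.2.1 + 1) - 1 from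
      @mul_geom_sum _ _ Y (t.2.1 + 1), LinearMap.sub_apply, Module.End.one_apply]
  have hYpow : ∀ i : ℕ, Y ^ i = ext₂ (π (y ^ i)) := fun i => by rw [map_pow, map_pow]
  have hinj : Set.InjOn (fun t : Fin c × Fin p => act A (y ^ t.2.1) (χ t.1)) Set.univ := by
    rintro ⟨a, i⟩ - ⟨b, j⟩ - h
    simp only at h
    have hab : a = b := by
      by_contra hne
      exact hdis a b hne ((show SameOrbit y (χ a) (act A (y ^ i.1) (χ a)) from ⟨_, rfl⟩).trans
        (show SameOrbit y (χ b) (act A (y ^ i.1) (χ a)) from ⟨_, h.symm⟩).symm)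
    subst hab
    refine Prod.ext rfl (Fin.ext (show i.1 = j.1 from ?_))
    by_contra hne
    have hip : i.1 < p := i.2
    have hjp : j.1 < p := j.2
    wlog hlt : i.1 < j.1 generalizing i j with H
    · exact H j i h.symm (Ne.symm hne) hjp hip (by omega)
    apply hmoved a
    refine act_eq_of_pow hp hy (i := j.1 - i.1) (fun hd => ?_) ?_
    · have := Nat.le_of_dvd (by omega) hd
      omega
    · have h2 := congrArg (act A (y ^ (p - i.1))) h.symm
      rw [← act_mul, ← act_mul, ← pow_add, ← pow_add, show p - i.1 + i.1 = p by omega, hy, act_one,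
        show p - i.1 + j.1 = p + (j.1 - i.1) by omega, pow_add, hy, one_mul] at h2
      exact h2
  have hli : LinearIndependent K₂ w := by
    rw [Fintype.linearIndependent_iff]
    intro g hg t
    let d : Fin c × Fin p → K₂ := fun s =>
      if h : s.2.1 = 0 then -(∑ i : Fin (p - 1), g (s.1, i))
      else g (s.1, ⟨s.2.1 - 1, by omega⟩)
    have hp0 : p = (p - 1) + 1 := by have := hp.two_le; omega
    have hzero : ∑ s : Fin c × Fin p, d s • (Y ^ s.2.1) (v s.1) = 0 := by
      rw [← hg, Fintype.sum_prod_type, Fintype.sum_prod_type]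
      refine Finset.sum_congr rfl fun a _ => ?_
      rw [← Equiv.sum_comp (finCongr hp0.symm), Fin.sum_univ_succ]
      simp only [d, finCongr_apply, Fin.val_cast, Fin.val_zero, Fin.val_succ, dite_true, pow_zero,
        Module.End.one_apply, Nat.succ_ne_zero, dite_false, Nat.add_sub_cancel, Fin.eta, w, smul_sub,
        Finset.sum_sub_distrib, neg_smul, Finset.sum_smul]
      rw [Finset.sum_congr rfl (fun x _ => rfl), ← Finset.sum_smul, add_comm]
      rw [sub_eq_add_neg]
      congr 1
      exact neg_smul (∑ i, g (a, i)) (v a)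
    have := H28.SG.eig_indep (⇑F) (fun s : Fin c × Fin p => act A (y ^ s.2.1) (χ s.1)) Finset.univ
      (by rw [Finset.coe_univ]; exact hinj) (fun s => d s • (Y ^ s.2.1) (v s.1))
      (fun s _ b => by
        rw [map_smul, hYpow, eig_act (hE s.1) (y ^ s.2.1) b, smul_comm]) hzero
      (t.1, ⟨t.2.1 + 1, by omega⟩) (Finset.mem_univ _)
    have hne : (Y ^ (t.2.1 + 1)) (v t.1) ≠ 0 := by rw [hYpow]; exact ext₂_ne_zero _ (hv t.1)
    have hd := (smul_eq_zero.mp this).resolve_right hne
    simpa [d] using hd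
  have h1 : Fintype.card (Fin c × Fin (p - 1)) ≤ Module.finrank K₂ (LinearMap.range (Y - 1)) := by
    have hli' : LinearIndependent K₂ (fun t => (⟨w t, hin t⟩ : LinearMap.range (Y - 1))) :=
      LinearIndependent.of_comp (LinearMap.range (Y - 1)).subtype hli
    exact hli'.fintype_card_le_finrank
  rw [Fintype.card_prod, Fintype.card_fin, Fintype.card_fin] at h1
  refine h1.trans ?_
  rw [show Y - 1 = ext₂ (π y - 1) by
    rw [ext₂_apply, LinearMap.baseChange_sub, show (1 : Module.End (ZMod 2) S).baseChange K₂ = 1 from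
      LinearMap.baseChange_id]; rfl]
  exact finrank_range_ext₂ _

/-- A character whose `2 ^ t`-th power lies in its orbit is fixed. -/
theorem act_eq_of_pow_two {p : ℕ} [Fact p.Prime] (hA : IsPGroup p A) {y : L} (hy : y ^ p = 1)
    {χ : A → K₂} (hχ : IsChar π A χ) {t : ℕ} (ht0 : 0 < t) (ht : ¬ p ∣ 2 ^ t - 1)
    (h : SameOrbit y χ (fun a => χ a ^ 2 ^ t)) : act A y χ = χ := by
  have hp : p.Prime := Fact.out
  obtain ⟨i, hi⟩ := h
  obtain ⟨v, hv, hE⟩ := hχ
  have hrec : ∀ k : ℕ, act A (y ^ (i * k)) χ = fun a => χ a ^ 2 ^ (t * k) := by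
    intro k
    induction k with
    | zero => simp [act_one]
    | succ k ih =>
      rw [Nat.mul_succ, pow_add, act_mul, hi, act_pow_two, ih]
      funext a
      rw [← pow_mul, ← pow_add, Nat.mul_succ]
  have h1 := hrec p
  rw [mul_comm i p, pow_mul, hy, one_pow, act_one] at h1
  have hone : ∀ a : A, χ a = 1 := by
    intro a
    obtain ⟨c, hc⟩ := hA a
    have hpc : χ a ^ p ^ c = 1 := by
      have e1 : ∀ m : ℕ, χ (a ^ m) = χ a ^ m := by
        intro m
        induction m with
        | zero => rw [pow_zero, pow_zero, H28.SG.eig_one hE hv]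
        | succ m ih => rw [pow_succ, pow_succ, H28.SG.eig_mul hE hv, ih]
      rw [← e1, hc, H28.SG.eig_one hE hv]
    have hne : χ a ≠ 0 := H28.SG.eig_ne_zero hE hv a
    have h2 : χ a ^ (2 ^ (t * p) - 1) = 1 := by
      apply mul_right_cancel₀ hne
      rw [← pow_succ, Nat.sub_add_cancel Nat.one_le_two_pow, one_mul]
      exact (congrFun h1 a).symm
    have hcop : Nat.Coprime (p ^ c) (2 ^ (t * p) - 1) := by
      refine Nat.Coprime.pow_left c ((Nat.Prime.coprime_iff_not_dvd hp).mpr fun hd => ht ?_)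
      rw [← CharP.cast_eq_zero_iff (ZMod p) p] at hd ⊢
      rw [Nat.cast_sub Nat.one_le_two_pow] at hd ⊢
      push_cast at hd ⊢
      rwa [pow_mul, ZMod.pow_card] at hd
    have := pow_gcd_eq_one.mpr ⟨hpc, h2⟩
    rwa [hcop.gcd_eq_one, pow_one] at this
  funext a
  rw [act, hone, hone]

/-- An element with few moved vectors and a suitable root fixes all characters of `A`. -/
theorem conj_eq_of_small {p n j : ℕ} [Fact p.Prime] (hp2 : p ≠ 2) (hn : 1 ≤ n) (hj : 1 ≤ j)
    (hq : p ^ n - 1 = 2 ^ j) (hA : IsPGroup p A) (hAc : ∀ a b : A, π (a * b : A) = π (b * a : A))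
    (x : L) (hx : x ^ p ^ n = 1)
    (hr : Module.finrank (ZMod 2) (LinearMap.range (π (x ^ p ^ (n - 1)) - 1)) ≤ 2 * j) (a : A) :
    π (x ^ p ^ (n - 1) * (a : L) * (x ^ p ^ (n - 1))⁻¹) = π a := by
  have hp : p.Prime := Fact.out
  set y := x ^ p ^ (n - 1) with hy0
  have hy : y ^ p = 1 := by rw [hy0, ← pow_mul, ← pow_succ, Nat.sub_add_cancel hn, hx]
  have hp3 : 3 ≤ p := by have := hp.two_le; omega
  have hfix : ∀ χ, IsChar π A χ → act A y χ = χ := by
    intro χ hχ
    by_contra hmv
    have hmv2 : ∀ {ψ : A → K₂}, act A y ψ ≠ ψ → act A y (fun a => ψ a ^ 2) ≠ fun a => ψ a ^ 2 := by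
      intro ψ hψ h
      apply hψ
      funext b
      apply (frobenius K₂ 2).injective
      exact congrFun h b
    have hno : ∀ {ψ : A → K₂}, IsChar π A ψ → act A y ψ ≠ ψ → ¬ SameOrbit y ψ (fun a => ψ a ^ 2) := by
      intro ψ h1 h2 h3
      refine h2 (act_eq_of_pow_two hA hy h1 (t := 1) one_pos ?_ (by simpa using h3))
      exact fun hd => hp.ne_one (Nat.dvd_one.mp (by simpa using hd))
    have hsqinj : ∀ {ψ ψ' : A → K₂}, SameOrbit y (fun a => ψ a ^ 2) (fun a => ψ' a ^ 2) →
        SameOrbit y ψ ψ' := by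
      rintro ψ ψ' ⟨i, hi⟩
      refine ⟨i, funext fun b => (frobenius K₂ 2).injective ?_⟩
      exact congrFun hi b
    rcases Nat.lt_or_ge n 2 with h1 | h2
    · have hn1 : n = 1 := by omega
      subst hn1
      have hc := orbit_count hp hy ![χ, fun a => χ a ^ 2]
        (by intro i; fin_cases i; exacts [hχ, hχ.sq])
        (by intro i; fin_cases i; exacts [hmv, hmv2 hmv])
        (by
          intro i k hik
          fin_cases i <;> fin_cases k <;> first | exact absurd rfl hik | exact hno hχ hmv |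
            exact fun h => hno hχ hmv h.symm)
      rw [pow_one] at hq
      have h3 : j < 2 ^ j := Nat.lt_two_pow_self
      have := hc.trans hr
      omega
    · obtain ⟨rfl, rfl, rfl⟩ : p = 3 ∧ n = 2 ∧ j = 3 := arith_three hp3 h2 hq
      have hr6 : ∀ {c : ℕ}, c * (3 - 1) ≤ Module.finrank (ZMod 2) (LinearMap.range (π y - 1)) → c ≤ 3 :=
        fun {c} h => by have := h.trans hr; omega
      set χ₂ : A → K₂ := fun a => χ a ^ 2 with hχ₂
      set χ₄ : A → K₂ := fun a => χ₂ a ^ 2 with hχ₄
      have h24 : SameOrbit y χ χ₄ := by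
        by_contra h
        set χ₈ : A → K₂ := fun a => χ₄ a ^ 2 with hχ₈
        have m2 := hmv2 hmv
        have m4 := hmv2 m2
        have m8 := hmv2 m4
        have n12 : ¬ SameOrbit y χ χ₂ := hno hχ hmv
        have n24 : ¬ SameOrbit y χ₂ χ₄ := hno hχ.sq m2
        have n48 : ¬ SameOrbit y χ₄ χ₈ := hno hχ.sq.sq m4
        have n28 : ¬ SameOrbit y χ₂ χ₈ := fun h' => h (hsqinj h')
        have n18 : ¬ SameOrbit y χ χ₈ := fun h' => by
          refine hmv (act_eq_of_pow_two hA hy hχ (t := 3) (by norm_num) (by norm_num) ?_)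
          have : χ₈ = fun a => χ a ^ 2 ^ 3 := by
            funext b; simp only [hχ₈, hχ₄, hχ₂, ← pow_mul]; norm_num
          rwa [this] at h'
        have hc := hr6 (orbit_count hp hy ![χ, χ₂, χ₄, χ₈]
          (by intro i; fin_cases i; exacts [hχ, hχ.sq, hχ.sq.sq, hχ.sq.sq.sq])
          (by intro i; fin_cases i; exacts [hmv, m2, m4, m8])
          (by
            intro i k hik
            fin_cases i <;> fin_cases k <;> first | exact absurd rfl hik | assumption |
              (intro h'; replace h' := h'.symm; revert h'; assumption)))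
        omega
      have hxy : ∀ g : L, g * y = y * g → ∀ ψ : A → K₂, act A y ψ ≠ ψ → act A y (act A g ψ) ≠ act A g ψ := by
        intro g hg ψ hψ h
        apply hψ
        rw [← act_mul, ← hg, act_mul] at h
        have := congrArg (act A g⁻¹) h
        rwa [← act_mul g⁻¹ g (act A y ψ), ← act_mul g⁻¹ g ψ, inv_mul_cancel, act_one, act_one] at this
      have hcom : x * y = y * x := (Commute.self_pow x _).eq
      set ψ := act A x χ with hψ
      have mψ : act A y ψ ≠ ψ := hxy x hcom χ hmv
      have hcy : ∀ (g : L) (i : ℕ), g * y = y * g → ∀ φ : A → K₂,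
          act A g (act A (y ^ i) φ) = act A (y ^ i) (act A g φ) := by
        intro g i hg φ
        rw [← act_mul, ← act_mul, (show Commute g (y ^ i) from Commute.pow_right hg i).eq]
      have hno6 : ∀ g : L, g * y = y * g → SameOrbit y χ (act A g χ) → act A (g ^ 3) χ = χ := by
        rintro g hg ⟨i, hi⟩
        have e : act A (g ^ 3) χ = act A ((y ^ i) ^ 3) χ := by
          rw [pow_succ, pow_succ, pow_one, pow_succ, pow_succ, pow_one, act_mul, act_mul, ← hi,
            hcy g i hg, ← hi, hcy g i hg, hcy g i hg, ← hi, ← act_mul, ← act_mul, mul_assoc]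
        rw [e, ← pow_mul, mul_comm, pow_mul, hy, one_pow, act_one]
      have hy3 : y = x ^ 3 := by rw [hy0]; norm_num
      have hx12 : (x ^ 2) ^ 3 * (x ^ 2) ^ 3 = y := by
        rw [hy3, ← pow_mul, ← pow_add, show 2 * 3 + 2 * 3 = 3 ^ 2 + 3 by norm_num, pow_add, hx, one_mul]
      by_cases hA1 : SameOrbit y χ ψ
      · exact hmv (by rw [hy3]; exact hno6 x hcom hA1)
      by_cases hA2 : SameOrbit y χ₂ ψ
      · obtain ⟨i, hi⟩ := hA2
        have hsame : SameOrbit y χ (act A (x ^ 2) χ) := by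
          refine h24.trans ⟨i + i, ?_⟩
          rw [pow_two, act_mul, ← hψ, ← hi, hcy x i hcom]
          show act A (y ^ (i + i)) χ₄ = act A (y ^ i) (fun a => act A x χ a ^ 2)
          rw [← hψ, ← hi, pow_add, act_mul]
          rfl
        have h6 := hno6 (x ^ 2) (Commute.pow_left hcom 2).eq hsame
        exact hmv (by rw [← hx12, act_mul, h6, h6])
      set ψ₂ : A → K₂ := fun a => ψ a ^ 2 with hψ₂
      have n12 : ¬ SameOrbit y χ χ₂ := hno hχ hmv
      have n12' : ¬ SameOrbit y ψ ψ₂ := hno (hχ.act x) mψ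
      have n22 : ¬ SameOrbit y χ₂ ψ₂ := fun h' => hA1 (hsqinj h')
      have n12'' : ¬ SameOrbit y χ ψ₂ := fun h' => by
        have h44 : SameOrbit y ψ (fun a => ψ₂ a ^ 2) := by
          obtain ⟨i, hi⟩ := h24
          refine ⟨i, ?_⟩
          rw [hψ, ← hcy x i hcom, hi]
          rfl
        refine hA2 (SameOrbit.trans ?_ h44.symm)
        obtain ⟨i, hi⟩ := h'
        exact ⟨i, by rw [← hi]; rfl⟩
      have hc := hr6 (orbit_count hp hy ![χ, χ₂, ψ, ψ₂]
        (by intro i; fin_cases i; exacts [hχ, hχ.sq, hχ.act x, (hχ.act x).sq])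
        (by intro i; fin_cases i; exacts [hmv, hmv2 hmv, mψ, hmv2 mψ])
        (by
          intro i k hik
          fin_cases i <;> fin_cases k <;> first | exact absurd rfl hik | assumption |
            (intro h'; replace h' := h'.symm; revert h'; assumption)))
      omega
  have hcomm : ∀ b c : A, repA π A b * repA π A c = repA π A c * repA π A b := fun b c => by
    rw [← map_mul, ← map_mul]; exact congrArg ext₂ (hAc b c)
  apply ext₂_injective
  set a' : A := MulAut.conjNormal y a with ha'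
  have hcoe : ((a' : A) : L) = y * a * y⁻¹ := MulAut.conjNormal_apply y a
  suffices h : repA π A a' = repA π A a by rw [← hcoe]; exact h
  have h1 : repA π A (a' * a⁻¹) = 1 := by
    have := H1.Shult.eq_smul_of_eigen (repA π A) hcomm (a' * a⁻¹) ?_ 1 ?_
    · simpa using this
    · obtain ⟨c, hc⟩ := hA (a' * a⁻¹)
      intro h0
      rw [CharP.cast_eq_zero_iff K₂ 2] at h0
      have := h0.trans (orderOf_dvd_of_pow_eq_one hc)
      exact hp2 ((Nat.prime_dvd_prime_iff_eq Nat.prime_two hp).mp (Nat.prime_two.dvd_of_dvd_pow this)).symm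
    intro v hv χ hE
    have hf := congrFun (hfix χ ⟨v, hv, hE⟩) a'
    have he : act A y χ a' = χ a := by
      show χ (MulAut.conjNormal y⁻¹ (MulAut.conjNormal y a)) = χ a
      rw [← MulAut.mul_apply, ← map_mul, inv_mul_cancel, map_one, MulAut.one_apply]
    rw [H28.SG.eig_mul hE hv, ← hf, he, ← H28.SG.eig_mul hE hv, mul_inv_cancel, H28.SG.eig_one hE hv]
  calc repA π A a' = repA π A (a' * a⁻¹ * a) := by group
    _ = repA π A a := by rw [map_mul, h1, one_mul]

end Monomial

end Cfsg.Agent.H29.HHExp
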