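import Cfsg.Agent.H29.HHExpBlock
import Cfsg.Agent.H29.HHExpOrbit
import Cfsg.Agent.H30.Basic

/-!
On a block where the centre of a class two `2`-group acts by scalars, the elements of order `p` that are
roots of operators without a regular summand commute.
-/

set_option autoImplicit false
set_option linter.style.haveILetI false
set_option maxHeartbeats 1600000
set_option linter.all false

open scoped commutatorElement

namespace Cfsg.Agent.H29.HHExp

open Subgroup Module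

section Comm

variable {G : Type*} [Group G] (Q : Subgroup G)

theorem comm_mul_right (hcls : ∀ a ∈ Q, ∀ b ∈ Q, ∀ q ∈ Q, ⁅a, b⁆ * q = q * ⁅a, b⁆) {a b c : G}
    (ha : a ∈ Q) (hb : b ∈ Q) (hc : c ∈ Q) : ⁅a, b * c⁆ = ⁅a, b⁆ * ⁅a, c⁆ := by
  have h1 : ⁅a, b * c⁆ = ⁅a, b⁆ * (b * ⁅a, c⁆ * b⁻¹) := by simp only [commutatorElement_def]; group
  rw [h1, ← hcls a ha c hc b hb, mul_inv_cancel_right]

theorem comm_mul_left (hcls : ∀ a ∈ Q, ∀ b ∈ Q, ∀ q ∈ Q, ⁅a, b⁆ * q = q * ⁅a, b⁆) {a b c : G}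
    (ha : a ∈ Q) (hb : b ∈ Q) (hc : c ∈ Q) : ⁅a * b, c⁆ = ⁅a, c⁆ * ⁅b, c⁆ := by
  have h1 : ⁅a * b, c⁆ = (a * ⁅b, c⁆ * a⁻¹) * ⁅a, c⁆ := by simp only [commutatorElement_def]; group
  rw [h1, ← hcls b hb c hc a ha, mul_inv_cancel_right, hcls b hb c hc ⁅a, c⁆ ?_]
  simp only [commutatorElement_def]
  exact mul_mem (mul_mem (mul_mem ha hc) (inv_mem ha)) (inv_mem hc)

theorem comm_div_eq_one (hcls : ∀ a ∈ Q, ∀ b ∈ Q, ∀ q ∈ Q, ⁅a, b⁆ * q = q * ⁅a, b⁆) {w q r : G}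
    (hw : w ∈ Q) (hq : q ∈ Q) (hr : r ∈ Q) (h : ⁅w⁻¹ * q, r⁆ = 1) : ⁅w * q⁻¹, r⁆ = 1 := by
  rw [comm_mul_left Q hcls (inv_mem hw) hq hr] at h
  have a1 : ⁅q⁻¹, r⁆ * ⁅q, r⁆ = 1 := by
    rw [← comm_mul_left Q hcls (inv_mem hq) hq hr, inv_mul_cancel, commutatorElement_one_left]
  have a2 : ⁅w⁻¹, r⁆ * ⁅w, r⁆ = 1 := by
    rw [← comm_mul_left Q hcls (inv_mem hw) hw hr, inv_mul_cancel, commutatorElement_one_left]
  rw [comm_mul_left Q hcls hw (inv_mem hq) hr, eq_inv_of_mul_eq_one_left a1,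
    eq_inv_of_mul_eq_one_right a2, ← eq_inv_of_mul_eq_one_right h]
  group

end Comm

variable {K : Type*} [Field K] [IsAlgClosed K] {U : Type*} [AddCommGroup U] [Module K U]
  [FiniteDimensional K U]

/-- The elements of order `p` are trivial or move a space of size `(p ^ n - 1) ^ 2` modulo the centre. -/
theorem natCard_range_eq [Nontrivial U] {p n : ℕ} [Fact p.Prime] [CharP K p] (hp2 : p ≠ 2) (hn : 1 ≤ n)
    (Q : Subgroup (Module.End K U)ˣ) [Finite Q] (hQ : IsPGroup 2 Q)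
    (hcls : ∀ a ∈ Q, ∀ b ∈ Q, ∀ q ∈ Q, ⁅a, b⁆ * q = q * ⁅a, b⁆)
    (hscal : ∀ z ∈ Q, (∀ q ∈ Q, z * q = q * z) → ∃ k : K, ((z : (Module.End K U)ˣ) : Module.End K U) = k • 1)
    (x : (Module.End K U)ˣ) (hxQ : ∀ q ∈ Q, x * q * x⁻¹ ∈ Q) (hx : x ^ p ^ n = 1)
    (hnil : ((x : Module.End K U) - 1) ^ (p ^ n - 1) = 0)
    (R0 : Subgroup Q) (hR0 : ∀ t : Q, t ∈ R0 ↔ ∃ u : Q, ∀ q ∈ Q,
      ⁅(t : (Module.End K U)ˣ), q⁆ = ⁅(x ^ p ^ (n - 1)) * u * (x ^ p ^ (n - 1))⁻¹ * (u : (Module.End K U)ˣ)⁻¹, q⁆)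
    (hmoved : ∃ t ∈ R0, ∃ q ∈ Q, ⁅(t : (Module.End K U)ˣ), q⁆ ≠ 1) :
    Nat.card R0 = (p ^ n - 1) ^ 2 * Nat.card {z : Q // ∀ q ∈ Q, (z : (Module.End K U)ˣ) * q = q * z} ∧
      ∃ e : ℕ, 1 ≤ e ∧ p ^ n - 1 = 2 ^ e := by
  classical
  have hp : p.Prime := Fact.out
  set y := x ^ p ^ (n - 1) with hy0
  have hyp : y ^ p = 1 := by rw [hy0, ← pow_mul, ← pow_succ, Nat.sub_add_cancel hn, hx]
  have hpow : ∀ (i : ℕ), ∀ q ∈ Q, x ^ i * q * (x ^ i)⁻¹ ∈ Q := by
    intro i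
    induction i with
    | zero => intro q hq; simpa using hq
    | succ i ih =>
      intro q hq
      rw [pow_succ, show x ^ i * x * q * (x ^ i * x)⁻¹ = x ^ i * (x * q * x⁻¹) * (x ^ i)⁻¹ by group]
      exact ih _ (hxQ q hq)
  have hinv : ∀ q ∈ Q, x⁻¹ * q * x ∈ Q := by
    intro q hq
    have hN : 1 ≤ p ^ n := Nat.one_le_pow _ _ hp.pos
    have hxi : x ^ (p ^ n - 1) = x⁻¹ :=
      eq_inv_of_mul_eq_one_left (by rw [← pow_succ, Nat.sub_add_cancel hN, hx])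
    have := hpow (p ^ n - 1) q hq
    rwa [hxi, inv_inv] at this
  -- scalars are fixed
  have hfixc : ∀ z ∈ Q, (∀ q ∈ Q, z * q = q * z) → ∀ g : (Module.End K U)ˣ, g * z * g⁻¹ = z := by
    intro z hz hzc g
    obtain ⟨k, hk⟩ := hscal z hz hzc
    rw [mul_inv_eq_iff_eq_mul]
    apply Units.ext
    rw [Units.val_mul, Units.val_mul, hk, mul_smul_comm, mul_one, smul_mul_assoc, one_mul]
  have hcm : ∀ a ∈ Q, ∀ b ∈ Q, ⁅a, b⁆ ∈ Q := fun a ha b hb =>
    mul_mem (mul_mem (mul_mem ha hb) (inv_mem ha)) (inv_mem hb)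
  have hconj : ∀ (g : (Module.End K U)ˣ) (a b : (Module.End K U)ˣ), a ∈ Q → b ∈ Q →
      ⁅g * a * g⁻¹, g * b * g⁻¹⁆ = ⁅a, b⁆ := by
    intro g a b ha hb
    rw [← hfixc ⁅a, b⁆ (hcm a ha b hb) (hcls a ha b hb) g]
    simp only [commutatorElement_def]
    group
  let Z : Subgroup Q := Subgroup.center Q
  have hZ : ∀ z : Q, z ∈ Z ↔ ∀ q ∈ Q, (z : (Module.End K U)ˣ) * q = q * z := fun z => by
    rw [Subgroup.mem_center_iff]
    exact ⟨fun h q hq => (congrArg Subtype.val (h ⟨q, hq⟩)).symm,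
      fun h q => Subtype.ext (h q q.2).symm⟩
  have hone : ∀ t : Q, t ∈ Z ↔ ∀ q ∈ Q, ⁅(t : (Module.End K U)ˣ), q⁆ = 1 := fun t => by
    rw [hZ]; simp only [commutatorElement_eq_one_iff_mul_comm]
  have hm := @comm_mul_right _ _ Q hcls
  have hml := @comm_mul_left _ _ Q hcls
  -- an element fixed by `y` modulo the centre commutes with the moved part
  have horth : ∀ c : Q, (∀ q ∈ Q, ⁅y * c * y⁻¹, q⁆ = ⁅(c : (Module.End K U)ˣ), q⁆) → ∀ t ∈ R0,
      ⁅(t : (Module.End K U)ˣ), (c : (Module.End K U)ˣ)⁆ = 1 := by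
    intro c hc t ht
    obtain ⟨u, hu⟩ := (hR0 t).mp ht
    rw [hu c c.2, hml (hpow _ u u.2) (inv_mem u.2) c.2]
    have hinvu : ⁅(u : (Module.End K U)ˣ)⁻¹, (c : (Module.End K U)ˣ)⁆ = ⁅(u : (Module.End K U)ˣ), (c : (Module.End K U)ˣ)⁆⁻¹ := by
      apply eq_inv_of_mul_eq_one_left
      rw [← hml (inv_mem u.2) u.2 c.2, inv_mul_cancel, commutatorElement_one_left]
    have hswap : ⁅y * u * y⁻¹, (c : (Module.End K U)ˣ)⁆ = ⁅(u : (Module.End K U)ˣ), (c : (Module.End K U)ˣ)⁆ := by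
      have h1 := hc (y * u * y⁻¹) (hpow _ u u.2)
      rw [hconj y c u c.2 u.2] at h1
      rw [← commutatorElement_inv, ← h1, commutatorElement_inv]
    rw [hswap, hinvu, mul_inv_cancel]
  -- the only fixed moved elements are central
  have hfree1 : ∀ t ∈ R0, (∀ q ∈ Q, ⁅y * (t : Q) * y⁻¹, q⁆ = ⁅(t : (Module.End K U)ˣ), q⁆) → t ∈ Z := by
    intro t ht htfix
    rw [hone]
    intro q hq
    -- the norm of `q` is fixed
    let nq : ℕ → (Module.End K U)ˣ := fun i => (List.range i).foldr (fun j acc => y ^ j * q * (y ^ j)⁻¹ * acc) 1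
    have hkey : ∀ i : ℕ, ∀ b ∈ Q, ⁅(t : (Module.End K U)ˣ), y ^ i * b * (y ^ i)⁻¹⁆ = ⁅(t : (Module.End K U)ˣ), b⁆ := by
      intro i
      induction i with
      | zero => intro b _; simp
      | succ i ih =>
        intro b hb
        have hb' : y ^ i * b * (y ^ i)⁻¹ ∈ Q := by rw [hy0, ← pow_mul]; exact hpow _ b hb
        rw [pow_succ', show y * y ^ i * b * (y * y ^ i)⁻¹ = y * (y ^ i * b * (y ^ i)⁻¹) * y⁻¹ by group,
          ← htfix _ (hpow _ _ hb'), hconj y _ _ t.2 hb', ih b hb]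
    -- products of conjugates
    have hprod : ∀ i : ℕ, ∃ c ∈ Q, ⁅(t : (Module.End K U)ˣ), c⁆ = ⁅(t : (Module.End K U)ˣ), q⁆ ^ i ∧
        ∀ r ∈ Q, ⁅y * c * y⁻¹, r⁆ * ⁅q, r⁆ = ⁅c, r⁆ * ⁅y ^ i * q * (y ^ i)⁻¹, r⁆ := by
      intro i
      induction i with
      | zero =>
        refine ⟨1, one_mem Q, by simp, fun r _ => ?_⟩
        simp
      | succ i ih =>
        obtain ⟨c, hcQ, hc1, hc2⟩ := ih
        have hqi : y ^ i * q * (y ^ i)⁻¹ ∈ Q := by rw [hy0, ← pow_mul]; exact hpow _ q hq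
        have hqs : y ^ (i + 1) * q * (y ^ (i + 1))⁻¹ ∈ Q := by rw [hy0, ← pow_mul]; exact hpow _ q hq
        refine ⟨c * (y ^ i * q * (y ^ i)⁻¹), mul_mem hcQ hqi, ?_, fun r hr => ?_⟩
        · rw [hm t.2 hcQ hqi, hc1, hkey i q hq, pow_succ]
        · have e : y * (c * (y ^ i * q * (y ^ i)⁻¹)) * y⁻¹ = (y * c * y⁻¹) * (y ^ (i + 1) * q * (y ^ (i + 1))⁻¹) := by
            rw [pow_succ']; group
          rw [e, hml (hpow _ _ hcQ) hqs hr, hml hcQ hqi hr, ← hc2 r hr]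
          have h1 := hcls _ hqs r hr ⁅q, r⁆ (hcm q hq r hr)
          rw [mul_assoc, h1, ← mul_assoc]
    obtain ⟨c, hcQ, hc1, hc2⟩ := hprod p
    have hcfix : ∀ r ∈ Q, ⁅y * c * y⁻¹, r⁆ = ⁅c, r⁆ := by
      intro r hr
      have h1 := hc2 r hr
      rw [hyp, inv_one, one_mul, mul_one] at h1
      exact mul_right_cancel h1
    have h1 := horth ⟨c, hcQ⟩ hcfix t ht
    rw [hc1] at h1
    have h2 : ⁅(t : (Module.End K U)ˣ), q⁆ ^ 2 ^ 0 = ⁅(t : (Module.End K U)ˣ), q⁆ := by simp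
    obtain ⟨k, hk⟩ := hQ ⟨_, hcm _ t.2 q hq⟩
    have hk' : ⁅(t : (Module.End K U)ˣ), q⁆ ^ 2 ^ k = 1 := congrArg Subtype.val hk
    have hcop : Nat.Coprime p (2 ^ k) :=
      Nat.Coprime.pow_right k ((Nat.Prime.coprime_iff_not_dvd hp).mpr fun h =>
        hp2 ((Nat.prime_dvd_prime_iff_eq hp Nat.prime_two).mp h))
    have := pow_gcd_eq_one.mpr ⟨h1, hk'⟩
    rwa [hcop.gcd_eq_one, pow_one] at this
  -- the centre of `R0`
  have hZR : Z ≤ R0 := fun z hz => (hR0 z).mpr ⟨1, fun q hq => by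
    rw [(hone z).mp hz q hq]; simp⟩
  have hcenterR : ∀ z : R0, z ∈ Subgroup.center R0 ↔ (z : Q) ∈ Z := by
    intro z
    refine ⟨fun hz => hfree1 (z : Q) z.2 ?_, fun hz => Subgroup.mem_center_iff.mpr fun w =>
      Subtype.ext ((Subgroup.mem_center_iff.mp hz) (w : Q))⟩
    intro q hq
    -- `y z y⁻¹ z⁻¹` commutes with `q`
    have hyz : y * (z : Q) * y⁻¹ ∈ Q := hpow _ _ (z : Q).2
    have hw : (⟨y * (z : Q) * y⁻¹ * ((z : Q) : (Module.End K U)ˣ)⁻¹, mul_mem hyz (inv_mem (z : Q).2)⟩ : Q) ∈ R0 :=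
      (hR0 _).mpr ⟨(z : Q), fun r hr => rfl⟩
    have hd : ⁅y * (z : Q) * y⁻¹ * ((z : Q) : (Module.End K U)ˣ)⁻¹, q⁆ = 1 := by
      have hyq : y⁻¹ * q * y ∈ Q := by
        have hyi : y ^ (p - 1) = y⁻¹ :=
          eq_inv_of_mul_eq_one_left (by rw [← pow_succ, Nat.sub_add_cancel hp.one_le, hyp])
        have := hpow (p ^ (n - 1) * (p - 1)) q hq
        rwa [pow_mul, ← hy0, hyi, inv_inv] at this
      have hq' : (⟨q * (y⁻¹ * q * y)⁻¹, mul_mem hq (inv_mem hyq)⟩ : Q) ∈ R0 := by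
        refine (hR0 _).mpr ⟨⟨y⁻¹ * q * y, hyq⟩, fun r hr => ?_⟩
        show ⁅q * (y⁻¹ * q * y)⁻¹, r⁆ = ⁅y * (y⁻¹ * q * y) * y⁻¹ * (y⁻¹ * q * y)⁻¹, r⁆
        congr 1
        group
      have h1 : ⁅((z : Q) : (Module.End K U)ˣ), q * (y⁻¹ * q * y)⁻¹⁆ = 1 :=
        commutatorElement_eq_one_iff_mul_comm.mpr
          (congrArg (fun w : R0 => ((w : Q) : (Module.End K U)ˣ)) (Subgroup.mem_center_iff.mp hz ⟨_, hq'⟩)).symm
      rw [hm (z : Q).2 hq (inv_mem hyq)] at h1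
      have h2 : ⁅((z : Q) : (Module.End K U)ˣ), (y⁻¹ * q * y)⁻¹⁆ = ⁅((z : Q) : (Module.End K U)ˣ), y⁻¹ * q * y⁆⁻¹ := by
        apply eq_inv_of_mul_eq_one_left
        rw [← hm (z : Q).2 (inv_mem hyq) hyq, inv_mul_cancel, commutatorElement_one_right]
      rw [h2, mul_inv_eq_one] at h1
      have h3 : ⁅y * (z : Q) * y⁻¹, q⁆ = ⁅((z : Q) : (Module.End K U)ˣ), y⁻¹ * q * y⁆ := by
        rw [← hconj y (z : Q) (y⁻¹ * q * y) (z : Q).2 hyq]
        congr 1
        group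
      rw [hml hyz (inv_mem (z : Q).2) hq, h3, ← h1, ← hml (z : Q).2 (inv_mem (z : Q).2) hq, mul_inv_cancel,
        commutatorElement_one_left]
    have h4 : y * (z : Q) * y⁻¹ = y * (z : Q) * y⁻¹ * ((z : Q) : (Module.End K U)ˣ)⁻¹ * (z : Q) := by group
    rw [h4, hml (mul_mem hyz (inv_mem (z : Q).2)) (z : Q).2 hq, hd, one_mul]
  -- `x` normalises `R0`
  have hxR : ∀ t : Q, t ∈ R0 → (⟨x * t * x⁻¹, hxQ _ t.2⟩ : Q) ∈ R0 := by
    intro t ht
    obtain ⟨u, hu⟩ := (hR0 t).mp ht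
    refine (hR0 _).mpr ⟨⟨x * u * x⁻¹, hxQ _ u.2⟩, fun q hq => ?_⟩
    have h1 := hu (x⁻¹ * q * x) (hinv q hq)
    have e1 : ⁅x * (t : (Module.End K U)ˣ) * x⁻¹, q⁆ = ⁅(t : (Module.End K U)ˣ), x⁻¹ * q * x⁆ := by
      rw [← hconj x t (x⁻¹ * q * x) t.2 (hinv q hq)]
      congr 1
      group
    show ⁅x * (t : (Module.End K U)ˣ) * x⁻¹, q⁆ = _
    rw [e1, h1, ← hconj x _ _ (mul_mem (hpow _ u u.2) (inv_mem u.2)) (hinv q hq)]
    have hcxy : x * y = y * x := (Commute.self_pow x _).eq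
    congr 1
    · calc x * (y * (u : (Module.End K U)ˣ) * y⁻¹ * (u : (Module.End K U)ˣ)⁻¹) * x⁻¹
          = (x * y) * u * (x * y)⁻¹ * (x * u * x⁻¹)⁻¹ := by group
        _ = (y * x) * u * (y * x)⁻¹ * (x * u * x⁻¹)⁻¹ := by rw [hcxy]
        _ = _ := by group
    · group
  have hxR' : ∀ t : Q, t ∈ R0 → (⟨x⁻¹ * t * x, hinv _ t.2⟩ : Q) ∈ R0 := by
    intro t ht
    have hN : 1 ≤ p ^ n := Nat.one_le_pow _ _ hp.pos
    have key : ∀ i : ℕ, (⟨x ^ i * t * (x ^ i)⁻¹, hpow i _ t.2⟩ : Q) ∈ R0 := by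
      intro i
      induction i with
      | zero => simpa using ht
      | succ i ih =>
        have := hxR _ ih
        convert this using 2
        rw [pow_succ']
        group
    have h1 := key (p ^ n - 1)
    have hxi : x ^ (p ^ n - 1) = x⁻¹ :=
      eq_inv_of_mul_eq_one_left (by rw [← pow_succ, Nat.sub_add_cancel hN, hx])
    convert h1 using 2
    rw [hxi, inv_inv]
  let θ : R0 ≃* R0 :=
    { toFun := fun t => ⟨⟨x * (t : Q) * x⁻¹, hxQ _ (t : Q).2⟩, hxR _ t.2⟩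
      invFun := fun t => ⟨⟨x⁻¹ * (t : Q) * x, hinv _ (t : Q).2⟩, hxR' _ t.2⟩
      left_inv := fun t => Subtype.ext (Subtype.ext (by simp [mul_assoc]))
      right_inv := fun t => Subtype.ext (Subtype.ext (by simp [mul_assoc]))
      map_mul' := fun s t => Subtype.ext (Subtype.ext (by simp [mul_assoc])) }
  have hθit : ∀ (k : ℕ) (t : R0), (((θ : R0 → R0)^[k] t : Q) : (Module.End K U)ˣ) = x ^ k * (t : Q) * (x ^ k)⁻¹ := by
    intro k
    induction k with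
    | zero => intro t; simp
    | succ k ih =>
      intro t
      rw [Function.iterate_succ_apply']
      show x * (((θ : R0 → R0)^[k] t : Q) : (Module.End K U)ˣ) * x⁻¹ = _
      rw [ih, pow_succ']
      group
  let ρ : R0 →* Module.End K U :=
    (Units.coeHom _).comp (Q.subtype.comp R0.subtype)
  have hρ : Function.Injective ρ := fun a b h => Subtype.ext (Subtype.ext (Units.ext h))
  have hclsR : ∀ a b : R0, a * b * a⁻¹ * b⁻¹ ∈ Subgroup.center R0 := fun a b => by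
    rw [hcenterR]
    exact (hZ _).mpr (hcls _ (a : Q).2 _ (b : Q).2)
  have hnc : ∃ a : R0, a ∉ Subgroup.center R0 := by
    obtain ⟨t, ht, q, hq, hne⟩ := hmoved
    exact ⟨⟨t, ht⟩, fun h => hne ((hone t).mp ((hcenterR ⟨t, ht⟩).mp h) q hq)⟩
  have hmain := natCard_quotient_center (hQ.to_subgroup R0) hp2 (N := p ^ n) rfl hclsR hnc θ
    (fun a => Subtype.ext (Subtype.ext (by rw [hθit, hx, inv_one, one_mul, mul_one])))
    (fun c hc => Subtype.ext (Subtype.ext (hfixc _ (c : Q).2 ((hZ _).mp ((hcenterR c).mp hc)) x)))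
    (fun k hk0 hkn a ha => ?_) ρ hρ
    (fun c hc => hscal _ (c : Q).2 ((hZ _).mp ((hcenterR c).mp hc)))
    (x : Module.End K U) (by rw [← Units.val_pow_eq_pow_val, hx, Units.val_one]) hnil
    (fun a => by
      show (x : Module.End K U) * (((a : Q) : (Module.End K U)ˣ) : Module.End K U) =
        ((x * (a : Q) * x⁻¹ : (Module.End K U)ˣ) : Module.End K U) * (x : Module.End K U)
      rw [← Units.val_mul, ← Units.val_mul, inv_mul_cancel_right])
  · refine ⟨?_, hmain.2⟩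
    rw [Subgroup.card_eq_card_quotient_mul_card_subgroup (Subgroup.center R0), hmain.1]
    congr 1
    refine Nat.card_congr
      { toFun := fun z => ⟨(z.1 : Q), (hZ _).mp ((hcenterR z.1).mp z.2)⟩
        invFun := fun z => ⟨⟨z.1, hZR ((hZ _).mpr z.2)⟩, (hcenterR _).mpr ((hZ _).mpr z.2)⟩
        left_inv := fun z => rfl
        right_inv := fun z => rfl }
  · -- freeness
    rw [hcenterR] at ha ⊢
    refine hfree1 (a : Q) a.2 fun q hq => ?_
    have hgen : ∀ i : ℕ, ∀ r ∈ Q, ⁅x ^ (k * i) * (a : Q) * (x ^ (k * i))⁻¹, r⁆ = ⁅((a : Q) : (Module.End K U)ˣ), r⁆ := by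
      have h0 : ∀ r ∈ Q, ⁅x ^ k * (a : Q) * (x ^ k)⁻¹, r⁆ = ⁅((a : Q) : (Module.End K U)ˣ), r⁆ := by
        intro r hr
        have h1 := (hone _).mp ha r hr
        simp only [Subgroup.coe_mul, Subgroup.coe_inv, hθit] at h1
        rw [hml (inv_mem (a : Q).2) (hpow k _ (a : Q).2) hr] at h1
        have h2 : ⁅((a : Q) : (Module.End K U)ˣ), r⁆ * ⁅((a : Q) : (Module.End K U)ˣ)⁻¹, r⁆ = 1 := by
          rw [← hml (a : Q).2 (inv_mem (a : Q).2) hr, mul_inv_cancel, commutatorElement_one_left]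
        calc ⁅x ^ k * (a : Q) * (x ^ k)⁻¹, r⁆
            = ⁅((a : Q) : (Module.End K U)ˣ), r⁆ * ⁅((a : Q) : (Module.End K U)ˣ)⁻¹, r⁆ *
                ⁅x ^ k * (a : Q) * (x ^ k)⁻¹, r⁆ := by rw [h2, one_mul]
          _ = _ := by rw [mul_assoc, h1, mul_one]
      intro i
      induction i with
      | zero => intro r _; simp
      | succ i ih =>
        intro r hr
        have hr' : (x ^ k)⁻¹ * r * x ^ k ∈ Q := by
          have hN : 1 ≤ p ^ n := Nat.one_le_pow _ _ hp.pos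
          have hxi : x ^ (k * (p ^ n - 1)) = (x ^ k)⁻¹ :=
            eq_inv_of_mul_eq_one_left (by
              rw [← pow_add, ← Nat.mul_succ, Nat.succ_eq_add_one, Nat.sub_add_cancel hN, mul_comm,
                pow_mul, hx, one_pow])
          have := hpow (k * (p ^ n - 1)) r hr
          rwa [hxi, inv_inv] at this
        have e1 : x ^ (k * (i + 1)) * (a : Q) * (x ^ (k * (i + 1)))⁻¹ =
            x ^ k * (x ^ (k * i) * (a : Q) * (x ^ (k * i))⁻¹) * (x ^ k)⁻¹ := by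
          rw [Nat.mul_succ, add_comm (k * i) k, pow_add]; group
        have e2 : r = x ^ k * ((x ^ k)⁻¹ * r * x ^ k) * (x ^ k)⁻¹ := by group
        rw [e1]
        conv_lhs => rw [e2]
        rw [hconj _ _ _ (hpow _ _ (a : Q).2) hr', ih _ hr', ← h0 r hr]
        conv_rhs => rw [e2]
        rw [hconj _ _ _ (a : Q).2 hr']
    obtain ⟨j, hj, hjk⟩ := (Nat.dvd_prime_pow hp).mp (Nat.gcd_dvd_right k (p ^ n))
    have hjn : j ≤ n - 1 := by
      by_contra h
      have : p ^ n ∣ k := by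
        rw [show n = j by omega, ← hjk]; exact Nat.gcd_dvd_left _ _
      exact absurd (Nat.le_of_dvd hk0 this) (by omega)
    obtain ⟨c, hc⟩ := Nat.exists_mul_mod_eq_gcd (n := k) (k := p ^ n) (by
      rw [hjk]
      exact Nat.pow_lt_pow_right hp.one_lt (by omega))
    have hpowk : x ^ (k * c) = x ^ p ^ j := by
      conv_lhs => rw [← Nat.div_add_mod (k * c) (p ^ n)]
      rw [pow_add, pow_mul, hx, one_pow, one_mul, hc.2, hjk]
    have hy' : y = x ^ (k * (c * p ^ (n - 1 - j))) := by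
      rw [← mul_assoc, pow_mul, hpowk, ← pow_mul, ← pow_add, Nat.add_sub_cancel' hjn]
    rw [hy']
    exact hgen _ q hq

/-- On a block with scalar centre, two such elements of order `p` commute modulo the centre. -/
theorem commute_mod_center [Nontrivial U] {p : ℕ} [Fact p.Prime] [CharP K p] (hp2 : p ≠ 2)
    (Q L : Subgroup (Module.End K U)ˣ) [Finite Q] [Finite L] (hQ : IsPGroup 2 Q) (hL : IsPGroup p L)
    (hcls : ∀ a ∈ Q, ∀ b ∈ Q, ∀ q ∈ Q, ⁅a, b⁆ * q = q * ⁅a, b⁆)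
    (hsq : ∀ a ∈ Q, ∀ q ∈ Q, a ^ 2 * q = q * a ^ 2)
    (hscal : ∀ z ∈ Q, (∀ q ∈ Q, z * q = q * z) → ∃ k : K, ((z : (Module.End K U)ˣ) : Module.End K U) = k • 1)
    (hLQ : L ≤ Subgroup.normalizer (Q : Set (Module.End K U)ˣ)) (y₁ y₂ : (Module.End K U)ˣ)
    (h₁ : ∃ x ∈ L, ∃ n, 1 ≤ n ∧ x ^ p ^ n = 1 ∧ ((x : Module.End K U) - 1) ^ (p ^ n - 1) = 0 ∧ x ^ p ^ (n - 1) = y₁)
    (h₂ : ∃ x ∈ L, ∃ n, 1 ≤ n ∧ x ^ p ^ n = 1 ∧ ((x : Module.End K U) - 1) ^ (p ^ n - 1) = 0 ∧ x ^ p ^ (n - 1) = y₂) :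
    ∀ q ∈ Q, ∀ r ∈ Q, ⁅⁅y₁, y₂⁆ * q * ⁅y₁, y₂⁆⁻¹ * q⁻¹, r⁆ = 1 := by
  classical
  let C : Subgroup Q := Subgroup.center Q
  letI iS : CommGroup (Q ⧸ C) := { (inferInstance : Group (Q ⧸ C)) with
    mul_comm := fun a b => by
      obtain ⟨a, rfl⟩ := QuotientGroup.mk_surjective a
      obtain ⟨b, rfl⟩ := QuotientGroup.mk_surjective b
      rw [← QuotientGroup.mk_mul, ← QuotientGroup.mk_mul, QuotientGroup.eq, Subgroup.mem_center_iff]
      intro q
      apply Subtype.ext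
      have h := hcls _ (inv_mem b.2) _ (inv_mem a.2) _ q.2
      have e : ((((a * b)⁻¹ * (b * a) : Q)) : (Module.End K U)ˣ) = ⁅(b : (Module.End K U)ˣ)⁻¹, (a : (Module.End K U)ˣ)⁻¹⁆ := by
        simp [commutatorElement_def, mul_assoc]
      show (q : (Module.End K U)ˣ) * (((a * b)⁻¹ * (b * a) : Q) : (Module.End K U)ˣ) =
        (((a * b)⁻¹ * (b * a) : Q) : (Module.End K U)ˣ) * q
      rw [e]
      exact h.symm }
  haveI : Module (ZMod 2) (Additive (Q ⧸ C)) :=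
    AddCommGroup.zmodModule (fun s => by
      apply Additive.toMul.injective
      obtain ⟨a, ha⟩ := QuotientGroup.mk_surjective (Additive.toMul s)
      rw [toMul_nsmul, ← ha, ← QuotientGroup.mk_pow, toMul_zero, QuotientGroup.eq_one_iff,
        Subgroup.mem_center_iff]
      intro q
      exact Subtype.ext (hsq a a.2 q q.2).symm)
  haveI : FiniteDimensional (ZMod 2) (Additive (Q ⧸ C)) := Module.Finite.of_finite
  -- the action of `L`
  let φ : L →* MulAut Q := Q.normalizerMonoidHom.comp (Subgroup.inclusion hLQ)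
  have hφcoe : ∀ (l : L) (q : Q), ((φ l q : Q) : (Module.End K U)ˣ) = l * q * (l : (Module.End K U)ˣ)⁻¹ := fun l q => rfl
  have hmap : ∀ l : L, C.map (φ l).toMonoidHom = C := fun l => by
    ext z
    rw [Subgroup.mem_map_equiv]
    constructor
    · intro hz
      rw [Subgroup.mem_center_iff] at hz ⊢
      intro q
      apply (φ l).symm.injective
      rw [map_mul, map_mul]
      exact hz _
    · intro hz
      rw [Subgroup.mem_center_iff] at hz ⊢
      intro q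
      apply (φ l).injective
      rw [map_mul, map_mul, MulEquiv.apply_symm_apply]
      exact hz _
  let ψ : L →* MulAut (Q ⧸ C) :=
    { toFun := fun l => QuotientGroup.congr C C (φ l) (hmap l)
      map_one' := MulEquiv.ext fun s => by
        obtain ⟨a, rfl⟩ := QuotientGroup.mk_surjective s
        show (QuotientGroup.mk (φ 1 a) : Q ⧸ C) = _
        rw [map_one]; rfl
      map_mul' := fun l m => MulEquiv.ext fun s => by
        obtain ⟨a, rfl⟩ := QuotientGroup.mk_surjective s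
        show (QuotientGroup.mk (φ (l * m) a) : Q ⧸ C) = QuotientGroup.mk (φ l (φ m a))
        rw [map_mul]; rfl }
  have hψmk : ∀ (l : L) (a : Q), ψ l (QuotientGroup.mk a) = QuotientGroup.mk (φ l a) := fun l a => rfl
  let Lb := ψ.range
  have hLb : IsPGroup p Lb := hL.of_surjective ψ.rangeRestrict ψ.rangeRestrict_surjective
  haveI : Finite (MulAut (Q ⧸ C)) := Finite.of_injective (fun f => (f : Q ⧸ C → Q ⧸ C)) DFunLike.coe_injective
  let π : Lb →* Module.End (ZMod 2) (Additive (Q ⧸ C)) :=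
    { toFun := fun l => (MonoidHom.toAdditive (l.1 : MulAut (Q ⧸ C)).toMonoidHom).toZModLinearMap 2
      map_one' := LinearMap.ext fun _ => rfl
      map_mul' := fun _ _ => LinearMap.ext fun _ => rfl }
  have hπinj : Function.Injective π := fun l m h => Subtype.ext (MulEquiv.ext fun s =>
    congrArg (fun f : Module.End (ZMod 2) (Additive (Q ⧸ C)) => Additive.toMul (f (Additive.ofMul s))) h)
  obtain ⟨A, hAn, hAc, hAself⟩ := H30.exists_selfCentralizing' hLb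
  haveI := hAn
  have hZcard : Nat.card C = Nat.card {z : Q // ∀ q ∈ Q, (z : (Module.End K U)ˣ) * q = q * z} :=
    Nat.card_congr
      { toFun := fun z => ⟨z.1, fun q hq => congrArg Subtype.val (Subgroup.mem_center_iff.mp z.2 ⟨q, hq⟩).symm⟩
        invFun := fun z => ⟨z.1, Subgroup.mem_center_iff.mpr fun q => Subtype.ext (z.2 q q.2).symm⟩
        left_inv := fun _ => rfl
        right_inv := fun _ => rfl }
  have hmem : ∀ y : (Module.End K U)ˣ, ∀ x (hx : x ∈ L) (n : ℕ), 1 ≤ n → x ^ p ^ n = 1 →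
      ((x : Module.End K U) - 1) ^ (p ^ n - 1) = 0 → x ^ p ^ (n - 1) = y →
      ψ.rangeRestrict (⟨x, hx⟩ ^ p ^ (n - 1)) ∈ A := by
    intro y x hx n hn hxn hnil hxy
    set xL : L := ⟨x, hx⟩ with hxL
    set g := ψ.rangeRestrict xL with hg
    have hgn : g ^ p ^ n = 1 := by
      rw [hg, ← map_pow, show xL ^ p ^ n = 1 from Subtype.ext (by simpa [hxL] using hxn), map_one]
    rw [map_pow, ← hg, ← hAself, Subgroup.mem_centralizer_iff]
    intro a ha
    have hcomm' : ∀ b c : A, π ((b * c : A) : Lb) = π ((c * b : A) : Lb) := fun b c => by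
      rw [hAc.is_comm.comm b c]
    by_cases htriv : g ^ p ^ (n - 1) = 1
    · rw [htriv, one_mul, mul_one]
    -- the moved space
    let R0 : Subgroup Q := (LinearMap.range (π (g ^ p ^ (n - 1)) - 1)).toAddSubgroup.toSubgroup'.comap (QuotientGroup.mk' C)
    have hgcoe : ((g ^ p ^ (n - 1) : Lb) : MulAut (Q ⧸ C)) = ψ (xL ^ p ^ (n - 1)) := by
      rw [map_pow]; rfl
    have hπapp : ∀ u : Q, (π (g ^ p ^ (n - 1)) - 1) (Additive.ofMul (QuotientGroup.mk u)) =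
        Additive.ofMul (QuotientGroup.mk (φ (xL ^ p ^ (n - 1)) u * u⁻¹) : Q ⧸ C) := by
      intro u
      rw [LinearMap.sub_apply, Module.End.one_apply, sub_eq_add_neg, QuotientGroup.mk_mul,
        QuotientGroup.mk_inv, ofMul_mul, ofMul_inv]
      congr 1
      show Additive.ofMul (((g ^ p ^ (n - 1) : Lb) : MulAut (Q ⧸ C)) (QuotientGroup.mk u)) = _
      rw [hgcoe]
      rfl
    have hmkeq : ∀ t w : Q, (QuotientGroup.mk t : Q ⧸ C) = QuotientGroup.mk w ↔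
        ∀ q ∈ Q, ⁅(t : (Module.End K U)ˣ), q⁆ = ⁅(w : (Module.End K U)ˣ), q⁆ := by
      intro t w
      rw [QuotientGroup.eq, Subgroup.mem_center_iff]
      constructor
      · intro h q hq
        have h1 : ⁅((t⁻¹ * w : Q) : (Module.End K U)ˣ), q⁆ = 1 :=
          commutatorElement_eq_one_iff_mul_comm.mpr (congrArg Subtype.val (h ⟨q, hq⟩)).symm
        have h2 := comm_mul_left Q hcls t.2 (t⁻¹ * w).2 hq
        rw [h1, mul_one, Subgroup.coe_mul, Subgroup.coe_inv, mul_inv_cancel_left] at h2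
        exact h2.symm
      · intro h q
        apply Subtype.ext
        have h2 := comm_mul_left Q hcls t.2 (t⁻¹ * w).2 q.2
        rw [Subgroup.coe_mul, Subgroup.coe_inv, mul_inv_cancel_left, ← h q q.2] at h2
        exact (commutatorElement_eq_one_iff_mul_comm.mp (left_eq_mul.mp h2)).symm
    have hR0 : ∀ t : Q, t ∈ R0 ↔ ∃ u : Q, ∀ q ∈ Q, ⁅(t : (Module.End K U)ˣ), q⁆ =
        ⁅(x ^ p ^ (n - 1)) * u * (x ^ p ^ (n - 1))⁻¹ * (u : (Module.End K U)ˣ)⁻¹, q⁆ := by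
      intro t
      show Additive.ofMul (QuotientGroup.mk t : Q ⧸ C) ∈ LinearMap.range (π (g ^ p ^ (n - 1)) - 1) ↔ _
      constructor
      · rintro ⟨s, hs⟩
        obtain ⟨u, hu⟩ := QuotientGroup.mk_surjective (Additive.toMul s)
        refine ⟨u, ?_⟩
        have h1 : (QuotientGroup.mk t : Q ⧸ C) = QuotientGroup.mk (φ (xL ^ p ^ (n - 1)) u * u⁻¹) := by
          apply Additive.ofMul.injective
          rw [← hπapp, hu, ofMul_toMul, hs]
        have h2 := (hmkeq _ _).mp h1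
        intro q hq
        rw [h2 q hq, Subgroup.coe_mul, Subgroup.coe_inv, hφcoe, SubgroupClass.coe_pow]
      · rintro ⟨u, hu⟩
        refine ⟨Additive.ofMul (QuotientGroup.mk u), ?_⟩
        rw [hπapp]
        congr 1
        refine (hmkeq _ _).mpr fun q hq => ?_
        rw [hu q hq, Subgroup.coe_mul, Subgroup.coe_inv, hφcoe, SubgroupClass.coe_pow]
    have hmoved : ∃ t ∈ R0, ∃ q ∈ Q, ⁅(t : (Module.End K U)ˣ), q⁆ ≠ 1 := by
      by_contra hno
      push Not at hno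
      apply htriv
      apply hπinj
      rw [map_one]
      refine LinearMap.ext fun s => ?_
      obtain ⟨u, hu⟩ := QuotientGroup.mk_surjective (Additive.toMul s)
      have hs : s = Additive.ofMul (QuotientGroup.mk u) := by rw [hu, ofMul_toMul]
      rw [← sub_eq_zero, ← LinearMap.sub_apply, hs, hπapp, ← ofMul_one]
      congr 1
      rw [QuotientGroup.eq_one_iff, Subgroup.mem_center_iff]
      intro q
      apply Subtype.ext
      refine (commutatorElement_eq_one_iff_mul_comm.mp (hno _ ?_ q q.2)).symm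
      exact ⟨Additive.ofMul (QuotientGroup.mk u), hπapp u⟩
    obtain ⟨hcard, e, he1, he⟩ := natCard_range_eq hp2 hn Q hQ hcls hscal x
      (fun q hq => (Subgroup.mem_normalizer_iff.mp (hLQ hx) q).mp hq) hxn hnil R0 hR0 hmoved
    have hr : Module.finrank (ZMod 2) (LinearMap.range (π (g ^ p ^ (n - 1)) - 1)) ≤ 2 * e := by
      have h1 : Nat.card (LinearMap.range (π (g ^ p ^ (n - 1)) - 1)) * Nat.card C = Nat.card R0 := by
        have h2 := Subgroup.card_eq_card_quotient_mul_card_subgroup (C.subgroupOf R0)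
        rw [h2]
        have hCR : C ≤ R0 := fun z hz => by
          show Additive.ofMul (QuotientGroup.mk z : Q ⧸ C) ∈ LinearMap.range (π (g ^ p ^ (n - 1)) - 1)
          rw [(QuotientGroup.eq_one_iff z).mpr hz, ofMul_one]
          exact zero_mem _
        rw [Nat.card_congr (Subgroup.subgroupOfEquivOfLe hCR).toEquiv]
        congr 1
        let f : R0 →* Q ⧸ C := (QuotientGroup.mk' C).comp R0.subtype
        have hk : f.ker = C.subgroupOf R0 := by
          rw [← MonoidHom.comap_ker, QuotientGroup.ker_mk']; rfl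
        rw [Nat.card_congr ((QuotientGroup.quotientMulEquivOfEq hk.symm).trans
          (QuotientGroup.quotientKerEquivRange f)).toEquiv]
        refine (Nat.card_congr (Equiv.subtypeEquiv (p := fun s => s ∈ f.range)
          (q := fun s => s ∈ LinearMap.range (π (g ^ p ^ (n - 1)) - 1)) Additive.ofMul fun s => ?_).symm)
        constructor
        · rintro ⟨t, rfl⟩; exact t.2
        · intro hs
          obtain ⟨t, rfl⟩ := QuotientGroup.mk_surjective s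
          exact ⟨⟨t, hs⟩, rfl⟩
      rw [hcard, hZcard] at h1
      have h3 := Nat.eq_of_mul_eq_mul_right (by
        exact Nat.pos_of_ne_zero fun h => by
          have : Nonempty {z : Q // ∀ q ∈ Q, (z : (Module.End K U)ˣ) * q = q * z} := ⟨⟨1, by simp⟩⟩
          exact Nat.card_pos.ne' h) h1
      rw [Module.natCard_eq_pow_finrank (K := ZMod 2), he, ← pow_mul, Nat.card_zmod] at h3
      exact le_of_eq ((Nat.pow_right_injective le_rfl h3).trans (mul_comm e 2))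
    have h := conj_eq_of_small (π := π) (A := A) hp2 hn he1 he (hLb.to_subgroup A) hcomm' g hgn hr ⟨a, ha⟩
    exact (mul_inv_eq_iff_eq_mul.mp (hπinj h)).symm
  obtain ⟨x₁, hx₁, n₁, hn₁, hxn₁, hnil₁, hy₁⟩ := h₁
  obtain ⟨x₂, hx₂, n₂, hn₂, hxn₂, hnil₂, hy₂⟩ := h₂
  have m₁ := hmem y₁ x₁ hx₁ n₁ hn₁ hxn₁ hnil₁ hy₁
  have m₂ := hmem y₂ x₂ hx₂ n₂ hn₂ hxn₂ hnil₂ hy₂
  set l₁ : L := ⟨x₁, hx₁⟩ ^ p ^ (n₁ - 1) with hl₁
  set l₂ : L := ⟨x₂, hx₂⟩ ^ p ^ (n₂ - 1) with hl₂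
  have hl : ψ ⁅l₁, l₂⁆ = 1 := by
    have hc : Commute (ψ.rangeRestrict l₁) (ψ.rangeRestrict l₂) :=
      congrArg Subtype.val (hAc.is_comm.comm ⟨_, m₁⟩ ⟨_, m₂⟩)
    have h1 : Commute (ψ l₁) (ψ l₂) := congrArg Subtype.val hc.eq
    rw [map_commutatorElement]
    exact commutatorElement_eq_one_iff_commute.mpr h1
  intro q hq r hr
  have h1 : (QuotientGroup.mk (φ ⁅l₁, l₂⁆ ⟨q, hq⟩) : Q ⧸ C) = QuotientGroup.mk (⟨q, hq⟩ : Q) := by
    rw [← hψmk, hl]; rfl
  rw [QuotientGroup.eq, Subgroup.mem_center_iff] at h1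
  have hc0 : (((⁅l₁, l₂⁆ : L)) : (Module.End K U)ˣ) = ⁅y₁, y₂⁆ := by
    simp [commutatorElement_def, hl₁, hl₂, hy₁, hy₂]
  obtain ⟨w, hw⟩ : ∃ w : Q, w = φ ⁅l₁, l₂⁆ ⟨q, hq⟩ := ⟨_, rfl⟩
  rw [← hw] at h1
  have hwcoe : (w : (Module.End K U)ˣ) = ⁅y₁, y₂⁆ * q * ⁅y₁, y₂⁆⁻¹ := by
    rw [hw, hφcoe, hc0]
  rw [← hwcoe]
  have hc1 : ⁅((w⁻¹ * ⟨q, hq⟩ : Q) : (Module.End K U)ˣ), r⁆ = 1 :=
    commutatorElement_eq_one_iff_mul_comm.mpr (congrArg Subtype.val (h1 ⟨r, hr⟩)).symm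
  rw [Subgroup.coe_mul, Subgroup.coe_inv] at hc1
  exact comm_div_eq_one Q hcls w.2 hq hr hc1

end Cfsg.Agent.H29.HHExp
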