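import Cfsg.Agent.H29.HHExpModule
import Cfsg.Agent.H32.HHSection
import Cfsg.Agent.H32.PSeries
import Cfsg.Agent.H11.PLengthClass
import Cfsg.Agent.H84.Invariant
import Cfsg.Agent.H10.StableNormal

/-!
The exponent drops along the upper `p`-series: Hall–Higman's bound for the `p`-length, `p` odd.
-/

set_option autoImplicit false
set_option linter.all false
set_option maxHeartbeats 1600000

open Cfsg
open scoped commutatorElement

namespace Cfsg.Agent.H29.HHExp

universe u

variable {p : ℕ} [Fact p.Prime]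

/-- As `H32.HHS.exists_rep_sum`, for commuting powers. -/
theorem exists_rep_comm {G : Type*} [Group G] [Finite G] (V : Subgroup G) [V.Normal]
    (hV : IsElementaryAbelian p V) :
    ∃ (n : ℕ) (ρ : (G ⧸ Subgroup.centralizer (V : Set G)) →*
        Module.End (AlgebraicClosure (ZMod p)) (Fin n → AlgebraicClosure (ZMod p))),
      Function.Injective ρ ∧ (∀ (a : G) (k : ℕ), (∀ v ∈ V, Commute ((v * a) ^ k) (a ^ k)) →
        (ρ (a : G ⧸ Subgroup.centralizer (V : Set G)) ^ k - 1) *
          (∑ i ∈ Finset.range k, ρ (a : G ⧸ Subgroup.centralizer (V : Set G)) ^ i) = 0) ∧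
      ∀ (a : G) (k : ℕ), (∀ v ∈ V, (v * a) ^ k = a ^ k) →
        (∑ i ∈ Finset.range k, ρ (a : G ⧸ Subgroup.centralizer (V : Set G)) ^ i) = 0 := by
  letI : CommGroup V := { (inferInstance : Group V) with mul_comm := hV.1.is_comm.comm }
  haveI : Module (ZMod p) (Additive V) :=
    AddCommGroup.zmodModule (fun x => by
      apply Additive.toMul.injective
      exact Subtype.ext (by simpa using hV.2 _ (Additive.toMul x).2))
  let f : G → Additive V →+ Additive V := fun g =>
    MonoidHom.toAdditive (MulAut.conjNormal g : MulAut V).toMonoidHom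
  have hf : ∀ (g : G) (x : Additive V), ((Additive.toMul (f g x) : V) : G) =
      g * (Additive.toMul x : V) * g⁻¹ := fun g x => rfl
  let lin : G →* Module.End (ZMod p) (Additive V) :=
    { toFun := fun g => (f g).toZModLinearMap p
      map_one' := LinearMap.ext fun x => Additive.toMul.injective (Subtype.ext (by
        show ((Additive.toMul (f 1 x) : V) : G) = _
        rw [hf]; simp))
      map_mul' := fun g h => LinearMap.ext fun x => Additive.toMul.injective (Subtype.ext (by
        show ((Additive.toMul (f (g * h) x) : V) : G) = ((Additive.toMul (f g (f h x)) : V) : G)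
        rw [hf, hf, hf]; group)) }
  obtain ⟨n, e, he⟩ := H10.exists_end_embedding (p := p) (Additive V)
  have key : ∀ (a : G) (x : Additive V) (j : ℕ), ((Additive.toMul x : V) * a) ^ j =
      ((Additive.toMul ((∑ i ∈ Finset.range j, lin a ^ i) x) : V) : G) * a ^ j := by
    intro a x j
    induction j with
    | zero => simp
    | succ j ih =>
      rw [pow_succ, ih, Finset.sum_range_succ, LinearMap.add_apply, toMul_add, Subgroup.coe_mul,
        ← map_pow lin]
      show _ = ((Additive.toMul ((∑ i ∈ Finset.range j, lin a ^ i) x) : V) : G) *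
        ((Additive.toMul (f (a ^ j) x) : V) : G) * a ^ (j + 1)
      rw [hf, pow_succ]
      group
  have hker : ∀ g, lin g = 1 ↔ g ∈ Subgroup.centralizer (V : Set G) := by
    intro g
    rw [Subgroup.mem_centralizer_iff]
    refine ⟨fun h v hv => ?_, fun h => LinearMap.ext fun x => Additive.toMul.injective (Subtype.ext ?_)⟩
    · have h1 := congrArg (fun L : Module.End (ZMod p) (Additive V) =>
        ((Additive.toMul (L (Additive.ofMul ⟨v, hv⟩)) : V) : G)) h
      have h2 : g * v * g⁻¹ = v := h1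
      exact (mul_inv_eq_iff_eq_mul.mp h2).symm
    · show g * _ * g⁻¹ = _
      rw [← h _ (Additive.toMul x).2, mul_inv_cancel_right]
      rfl
  refine ⟨n, ((e : _ →* _).comp (QuotientGroup.lift _ lin fun g hg =>
    MonoidHom.mem_ker.mpr ((hker g).mpr hg))), ?_, ?_⟩
  swap
  · refine ⟨?_, fun a k h => ?_⟩
    swap
    · change (∑ i ∈ Finset.range k, e (lin a) ^ i) = 0
      rw [← Finset.sum_congr rfl (fun i _ => map_pow e (lin a) i), ← map_sum]
      convert map_zero e
      refine LinearMap.ext fun x => ?_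
      have h1 := key a x k
      rw [h _ (Additive.toMul x).2] at h1
      apply Additive.toMul.injective
      apply Subtype.ext
      exact mul_eq_right.mp h1.symm
    intro a k h
    change (e (lin a) ^ k - 1) * (∑ i ∈ Finset.range k, e (lin a) ^ i) = 0
    rw [← map_pow e, ← Finset.sum_congr rfl (fun i _ => map_pow e (lin a) i), ← map_sum, ← map_one e,
      ← map_sub, ← map_mul]
    convert map_zero e
    refine LinearMap.ext fun x => ?_
    set w := (∑ i ∈ Finset.range k, lin a ^ i) x with hw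
    have h1 := (h _ (Additive.toMul x).2).eq
    rw [key a x k, ← hw] at h1
    have h2 : lin (a ^ k) w = w := by
      apply Additive.toMul.injective
      apply Subtype.ext
      show ((Additive.toMul (f (a ^ k) w) : V) : G) = _
      rw [hf, mul_inv_eq_iff_eq_mul]
      exact mul_right_cancel ((mul_assoc _ _ _).trans h1.symm)
    rw [Module.End.mul_apply, ← hw, ← map_pow lin, LinearMap.sub_apply, Module.End.one_apply, h2,
      LinearMap.zero_apply, sub_self]
  · refine he.comp ?_
    rw [← MonoidHom.ker_eq_bot_iff, eq_bot_iff]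
    intro x hx
    obtain ⟨g, rfl⟩ := QuotientGroup.mk'_surjective _ x
    exact Subgroup.mem_bot.mpr ((QuotientGroup.eq_one_iff g).mpr ((hker g).mp hx))

theorem exp_all {G : Type*} [Group G] [Finite G] {k : ℕ} (S : Sylow p G)
    (h : ∀ x ∈ (S : Subgroup G), x ^ k = 1) : ∀ (P : Sylow p G), ∀ x ∈ (P : Subgroup G), x ^ k = 1 := by
  intro P x hx
  obtain ⟨g, hg⟩ := MulAction.exists_smul_eq G S P
  rw [← hg] at hx
  obtain ⟨y, hy, rfl⟩ := hx
  show (MulAut.conj g y) ^ k = 1
  rw [← map_pow, h y hy, map_one]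

/-- Non-exceptional drop of the exponent. -/
theorem drop_one {G : Type*} [Group G] [Finite G] (hp : p ≠ 2) (hs : IsPSolvable p G)
    (hO : pPrimeCore p G = ⊥)
    (hnf : (¬ ∃ k : ℕ, p = 2 ^ k + 1) ∨ ∀ S : Sylow 2 G, IsMulCommutative (S : Subgroup G))
    {e : ℕ} (S : Sylow p G) (hexp : ∀ x ∈ (S : Subgroup G), x ^ p ^ (e + 1) = 1) :
    ∀ x ∈ (S : Subgroup G), x ^ p ^ e ∈ pCore p G := by
  intro x hx
  by_contra hne
  haveI hΦn : ((frattini ↥(pCore p G)).map (pCore p G).subtype).Normal :=
    H10.map_frattini_subtype_normal H10.pCore_normal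
  obtain ⟨v, ⟨v₀, hv₀, rfl⟩, h⟩ := H32.HHS.exists_pow_ne hp hs hO hnf x (e + 1) (by omega)
    (by rw [hexp x hx]; exact one_mem _) (by rwa [Nat.add_sub_cancel])
  apply h
  rw [← map_mul, ← map_pow, ← map_pow, hexp x hx, hexp _ (mul_mem (H10.pCore_le_sylow S hv₀) hx)]

section Core

variable {G : Type u} [Group G] [Finite G]

/-- The quotient by the centraliser of the Frattini section of `O_p(G)`. -/
theorem exists_section_rep (hs : IsPSolvable p G) (hO : pPrimeCore p G = ⊥) :
    ∃ (H : Type u) (_ : Group H) (_ : Finite H) (θ : G →* H) (n : ℕ)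
      (ρ : H →* Module.End (AlgebraicClosure (ZMod p)) (Fin n → AlgebraicClosure (ZMod p))),
      Function.Surjective θ ∧ θ.ker = pCore p G ∧ pCore p H = ⊥ ∧ IsPSolvable p H ∧ Function.Injective ρ ∧
        (∀ (a : G) (k : ℕ), (∀ v ∈ pCore p G, Commute ((v * a) ^ k) (a ^ k)) →
          (ρ (θ a) ^ k - 1) * (∑ i ∈ Finset.range k, ρ (θ a) ^ i) = 0) ∧
        ∀ (a : G) (k : ℕ), (∀ v ∈ pCore p G, (v * a) ^ k = a ^ k) →
          (∑ i ∈ Finset.range k, ρ (θ a) ^ i) = 0 := by
  haveI hΦn : ((frattini ↥(pCore p G)).map (pCore p G).subtype).Normal :=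
    H10.map_frattini_subtype_normal H10.pCore_normal
  have hcU := H10.centralizer_pCore_le hs hO
  set U := pCore p G with hU
  set Φ := (frattini U).map U.subtype with hΦ
  set π := QuotientGroup.mk' Φ
  set V := U.map π with hV
  haveI : V.Normal := (inferInstance : U.Normal).map π (QuotientGroup.mk'_surjective _)
  have hVe : IsElementaryAbelian p V := H10.elementaryAbelian_pCore_section
  obtain ⟨d, ρ, hinj, hsum, hsum'⟩ := exists_rep_comm V hVe
  set C := Subgroup.centralizer (V : Set (G ⧸ Φ))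
  set θ : G →* (G ⧸ Φ) ⧸ C := (QuotientGroup.mk' C).comp π with hθdef
  have hθ : Function.Surjective θ :=
    (QuotientGroup.mk'_surjective C).comp (QuotientGroup.mk'_surjective _)
  have hkerp : IsPGroup p θ.ker := by
    have : θ.ker = sectionKernel U Φ := by
      rw [hθdef, ← MonoidHom.comap_ker, QuotientGroup.ker_mk']; rfl
    rw [this]
    exact H10.isPGroup_sectionKernel_frattini hcU
  have hker : θ.ker = U := by
    refine le_antisymm (H10.le_pCore inferInstance hkerp) fun y hy => ?_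
    rw [MonoidHom.mem_ker]
    refine (QuotientGroup.eq_one_iff _).mpr ?_
    rw [Subgroup.mem_centralizer_iff]
    intro v hv
    exact congrArg Subtype.val (hVe.1.is_comm.comm ⟨v, hv⟩ ⟨π y, Subgroup.mem_map_of_mem π hy⟩)
  refine ⟨_, inferInstance, inferInstance, θ, d, ρ, hθ, hker, ?_, H10.isPSolvable_of_surjective hs θ hθ,
    hinj, fun a k h => ?_, fun a k h => ?_⟩
  · rw [eq_bot_iff]
    intro h hh
    obtain ⟨y, rfl⟩ := hθ h
    set Y := (pCore p ((G ⧸ Φ) ⧸ C)).comap θ
    haveI : Y.Normal := Subgroup.Normal.comap inferInstance θ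
    have hYp : IsPGroup p Y := H10.pCore_isPGroup.comap_of_ker_isPGroup θ hkerp
    exact Subgroup.mem_bot.mpr (MonoidHom.mem_ker.mp (hker ▸ H10.le_pCore inferInstance hYp hh))
  · refine hsum (π a) k ?_
    rintro _ ⟨v, hv, rfl⟩
    rw [← map_mul, ← map_pow, ← map_pow]
    exact (h v hv).map π
  · refine hsum' (π a) k ?_
    rintro _ ⟨v, hv, rfl⟩
    rw [← map_mul, ← map_pow, ← map_pow, h v hv]

/-- In `G / O_p(G)` the powers `x ^ (p ^ e)` of the elements of a Sylow group commute. -/
theorem commutator_mem_pCore (hp : p ≠ 2) (hs : IsPSolvable p G) (hO : pPrimeCore p G = ⊥) {e : ℕ}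
    (S : Sylow p G) (hexp : ∀ x ∈ (S : Subgroup G), x ^ p ^ (e + 1) = 1) :
    ∀ a ∈ (S : Subgroup G), ∀ b ∈ (S : Subgroup G), ⁅a ^ p ^ e, b ^ p ^ e⁆ ∈ pCore p G := by
  classical
  obtain ⟨H, _, _, θ, d, ρ, hθ, hker, hOH, hsH, hinj, hsum, hsum'⟩ := exists_section_rep hs hO
  intro a ha b hb
  rw [← hker, MonoidHom.mem_ker, map_commutatorElement, map_pow, map_pow]
  set P : Subgroup H := (S : Subgroup G).map θ with hP
  have hPp : IsPGroup p P := S.isPGroup'.map θ
  have hPe : ∀ x ∈ P, x ^ p ^ (e + 1) = 1 := by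
    rintro _ ⟨x, hx, rfl⟩
    rw [← map_pow, hexp x hx, map_one]
  have hnil : ∀ x ∈ P, (ρ x - 1) ^ (p ^ (e + 1) - 1) = 0 := by
    rintro _ ⟨x, hx, rfl⟩
    have h0 : ∀ v ∈ pCore p G, (v * x) ^ p ^ (e + 1) = 1 := fun v hv =>
      hexp _ (mul_mem (H10.pCore_le_sylow S hv) hx)
    rw [← H11.HB.geom_sum_eq_sub_one_pow (K := AlgebraicClosure (ZMod p))]
    exact hsum' x _ fun v hv => (h0 v hv).trans (hexp x hx).symm
  set R := pPrimeCore p H with hR
  haveI hRn : R.Normal := H1.pPrimeCore_normal' p H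
  have hco := H10.pPrimeCore_coprime (G := H) (p := p)
  have hRp : ¬ p ∣ Nat.card R := fun h =>
    (Fact.out : p.Prime).ne_one (Nat.Coprime.eq_one_of_dvd hco.symm h)
  set c := ⁅θ a ^ p ^ e, θ b ^ p ^ e⁆ with hc
  have hθa : θ a ∈ P := Subgroup.mem_map_of_mem θ ha
  have hθb : θ b ∈ P := Subgroup.mem_map_of_mem θ hb
  have hcP : c ∈ P := by
    rw [hc, commutatorElement_def]
    exact mul_mem (mul_mem (mul_mem (pow_mem hθa _) (pow_mem hθb _)) (inv_mem (pow_mem hθa _)))
      (inv_mem (pow_mem hθb _))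
  have hsylow : ∀ (q : ℕ), q.Prime → q ∣ Nat.card R → ∀ (T : Subgroup H), IsPGroup q T →
      P ≤ Subgroup.normalizer (T : Set H) → ∀ t ∈ T, c * t = t * c := by
    intro q hq hqR T hT hPT t ht
    haveI := Fact.mk hq
    have hqp : q ≠ p := fun h => hRp (h ▸ hqR)
    by_cases hq2 : q = 2
    · subst hq2
      have := commute_on_two_group (e := e + 1) hp (by omega) ρ hinj P T hPp hT hPT hPe hnil
        (θ a) hθa (θ b) hθb t ht
      rwa [Nat.add_sub_cancel] at this
    · have key : ∀ x ∈ P, x ^ p ^ e * t = t * x ^ p ^ e := by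
        intro x hx
        by_contra hne
        have hd : H11.HB.Data p q (e + 1) ρ T x := by
          refine ⟨hT, fun g hg => (Subgroup.mem_normalizer_iff.mp (hPT hx) g).mp hg, by omega, hPe x hx,
            t, ht, ?_⟩
          rw [Nat.add_sub_cancel]
          exact fun h => hne (hinj h)
        rcases H11.HB.hall_higman_b p q hq hqp _ (Fin d → AlgebraicClosure (ZMod p)) H ρ T x (e + 1)
          (Nat.lt_succ_self _) hd with h | ⟨n₀, m, h1, -, -, h4, -, -⟩
        · exact h (hnil x hx)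
        · have e1 : Odd (q ^ m) := (hq.odd_of_ne_two hq2).pow
          rw [← h4] at e1
          have e2 : Odd (p ^ n₀) := ((Fact.out : p.Prime).odd_of_ne_two hp).pow
          obtain ⟨u, hu⟩ := e1
          obtain ⟨w, hw⟩ := e2
          omega
      have k1 : Commute (θ a ^ p ^ e) t := key _ hθa
      have k2 : Commute (θ b ^ p ^ e) t := key _ hθb
      exact (((k1.mul_left k2).mul_left k1.inv_left).mul_left k2.inv_left).eq
  -- `c` centralises `R`
  have hRC : R ≤ Subgroup.centralizer {c} := by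
    have hcard : Nat.card R ∣ Nat.card ↥(R ⊓ Subgroup.centralizer {c}) := by
      refine (Nat.factorization_prime_le_iff_dvd Nat.card_pos.ne' Nat.card_pos.ne').mp fun q hq => ?_
      by_cases hqR : q ∣ Nat.card R
      swap
      · simp [Nat.factorization_eq_zero_of_not_dvd hqR]
      haveI := Fact.mk hq
      obtain ⟨T, ⟨hTR, hTq, hTi⟩, hPT⟩ := H84.exists_inv_sylow (q := q) hPp hRp
        (fun x _ => by rw [Subgroup.normalizer_eq_top]; trivial)
      have hle : T ≤ R ⊓ Subgroup.centralizer {c} := le_inf hTR fun t ht =>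
        Subgroup.mem_centralizer_singleton_iff.mpr (hsylow q hq hqR T hTq hPT t ht).symm
      have h1 : (Nat.card T).factorization q = (Nat.card R).factorization q := by
        have e : Nat.card R = T.relIndex R * Nat.card T := by
          rw [← Subgroup.relIndex_bot_left, ← Subgroup.relIndex_mul_relIndex ⊥ T R bot_le hTR,
            Subgroup.relIndex_bot_left, mul_comm]
        rw [e, Nat.factorization_mul (fun h => hTi (by rw [h]; exact dvd_zero q)) Nat.card_pos.ne',
          Finsupp.add_apply, Nat.factorization_eq_zero_of_not_dvd hTi, zero_add]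
      exact h1 ▸ (Nat.factorization_le_iff_dvd Nat.card_pos.ne' Nat.card_pos.ne').mpr
        (Subgroup.card_dvd_of_le hle) q
    exact (Subgroup.eq_of_le_of_card_ge inf_le_left
      (Nat.le_of_dvd Nat.card_pos hcard)).ge.trans inf_le_right
  have hcR : c ∈ R := H10.centralizer_pPrimeCore_le hsH hOH (Subgroup.mem_centralizer_iff.mpr
    fun r hr => (Subgroup.mem_centralizer_singleton_iff.mp (hRC hr)))
  obtain ⟨k, hk⟩ := hPp ⟨c, hcP⟩
  have h1 : (⟨c, hcR⟩ : R) = 1 := by
    rw [← orderOf_eq_one_iff]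
    exact Nat.eq_one_of_dvd_coprimes (hco.pow_right k) (orderOf_dvd_natCard _)
      (orderOf_dvd_of_pow_eq_one (Subtype.ext (congrArg Subtype.val hk :)))
  exact congrArg Subtype.val h1

/-- The second drop. -/
theorem drop_two (hp : p ≠ 2) (hs : IsPSolvable p G) (hO : pPrimeCore p G = ⊥) {e : ℕ} (S : Sylow p G)
    (hexp : ∀ x ∈ (S : Subgroup G), x ^ p ^ (e + 1) = 1)
    (hcomm : ∀ a ∈ (S : Subgroup G), ∀ b ∈ (S : Subgroup G), Commute (a ^ p ^ e) (b ^ p ^ e)) :
    ∀ x ∈ (S : Subgroup G), x ^ p ^ e ∈ pCore p G := by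
  classical
  have hpp : p.Prime := Fact.out
  obtain ⟨H, _, _, θ, d, ρ, hθ, hker, hOH, hsH, hinj, hsum, -⟩ := exists_section_rep hs hO
  intro x hx
  by_contra hne
  have h1 := hsum x (p ^ e) fun v hv => hcomm _ (mul_mem (H10.pCore_le_sylow S hv) hx) _ hx
  rw [H11.HB.geom_sum_eq_sub_one_pow (K := AlgebraicClosure (ZMod p)),
    ← H11.HB.sub_one_pow_eq (K := AlgebraicClosure (ZMod p)) p (ρ (θ x)) e, ← pow_add] at h1
  have hlow : ∀ D : ℕ, p ^ e + (p ^ e - 1) ≤ D → (ρ (θ x) - 1) ^ D = 0 := fun D hD => by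
    obtain ⟨r, rfl⟩ := Nat.exists_eq_add_of_le hD
    rw [pow_add, h1, zero_mul]
  set b := θ x ^ p ^ e with hb
  have hb1 : b ≠ 1 := fun h => hne (by
    rw [← hker, MonoidHom.mem_ker, map_pow]; exact h)
  set R := pPrimeCore p H with hR
  haveI hRn : R.Normal := H1.pPrimeCore_normal' p H
  have hco := H10.pPrimeCore_coprime (G := H) (p := p)
  have hx1 : θ x ^ p ^ (e + 1) = 1 := by rw [← map_pow, hexp x hx, map_one]
  have hnb : b ∉ Subgroup.centralizer (R : Set H) := by
    intro h
    have hbR := H10.centralizer_pPrimeCore_le hsH hOH h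
    have hbp : b ^ p = 1 := by rw [hb, ← pow_mul, ← pow_succ, hx1]
    have h2 : (⟨b, hbR⟩ : R) = 1 := by
      rw [← orderOf_eq_one_iff]
      exact Nat.eq_one_of_dvd_coprimes hco (orderOf_dvd_natCard _)
        (orderOf_dvd_of_pow_eq_one (Subtype.ext hbp))
    exact hb1 (congrArg Subtype.val h2)
  obtain ⟨q, hq, hqp, Q, -, hQq, hxQ, hbQ⟩ := H11.exists_invariant_qgroup_of R hco hx1
    (by rw [Subgroup.normalizer_eq_top]; trivial) hnb
  haveI := Fact.mk hq
  have hd : H11.HB.Data p q (e + 1) ρ Q (θ x) := by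
    refine ⟨hQq, fun g hg => (Subgroup.mem_normalizer_iff.mp hxQ g).mp hg, by omega, hx1, ?_⟩
    by_contra hcon
    push Not at hcon
    apply hbQ
    rw [Subgroup.mem_centralizer_iff]
    intro g hg
    have := hcon g hg
    rw [Nat.add_sub_cancel] at this
    exact (hinj this).symm
  have hp3 : 3 ≤ p := by have := hpp.two_le; omega
  have hpe : 1 ≤ p ^ e := Nat.one_le_pow _ _ hpp.pos
  rcases H11.HB.hall_higman_b p q hq hqp _ (Fin d → AlgebraicClosure (ZMod p)) H ρ Q (θ x) (e + 1)
    (Nat.lt_succ_self _) hd with h | ⟨n₀, m, hn₀, hn₀', -, -, -, h⟩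
  · refine h (hlow _ ?_)
    rw [pow_succ]
    have : p ^ e * 3 ≤ p ^ e * p := Nat.mul_le_mul_left _ hp3
    omega
  · refine h (hlow _ ?_)
    rw [Nat.mul_sub, ← pow_add, show e + 1 - n₀ + n₀ = e + 1 by omega, mul_one, pow_succ]
    have : p ^ e * 3 ≤ p ^ e * p := Nat.mul_le_mul_left _ hp3
    have : p ^ (e + 1 - n₀) ≤ p ^ e := Nat.pow_le_pow_right hpp.pos (by omega)
    omega

end Core

end Cfsg.Agent.H29.HHExp
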