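import Cfsg.Agent.H29.HHExpCommute
import Cfsg.Agent.H1.Shult.KeyLemma

/-!
A `p`-group acting on a `2`-group inside a faithful module in characteristic `p`, `p` odd, without regular
orbit sums: the powers `x ^ (p ^ (e - 1))` commute in their action on the `2`-group.
-/

set_option autoImplicit false
set_option linter.all false
set_option maxHeartbeats 1600000

open scoped commutatorElement

namespace Cfsg.Agent.H29.HHExp

open Subgroup Module
open H28.SG (Eig tw eigSpace mem_eigSpace)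

theorem mem_normalizer_of_forall {G : Type*} [Group G] [Finite G] {K : Subgroup G} {g : G}
    (h : ∀ x ∈ K, g * x * g⁻¹ ∈ K) : g ∈ Subgroup.normalizer (K : Set G) := by
  have key : K.map (MulAut.conj g).toMonoidHom = K := by
    refine Subgroup.eq_of_le_of_card_ge ?_ ?_
    · rintro _ ⟨x, hx, rfl⟩; exact h x hx
    · rw [Subgroup.card_map_of_injective (MulAut.conj g).injective]
  rw [Subgroup.mem_normalizer_iff]
  intro x
  refine ⟨h x, fun hx => ?_⟩
  have h1 : g * x * g⁻¹ ∈ K.map (MulAut.conj g).toMonoidHom := key.symm ▸ hx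
  obtain ⟨y, hy, hyx⟩ := h1
  exact (MulAut.conj g).injective hyx ▸ hy

theorem eq_one_of_shift {G : Type*} [Group G] {p : ℕ} [Fact p.Prime] (hp2 : p ≠ 2) {c t z : G}
    (hc : ∃ k : ℕ, c ^ p ^ k = 1) (hz : ∃ k : ℕ, z ^ 2 ^ k = 1) (hcz : c * z = z * c)
    (h : c * t * c⁻¹ = z * t) : z = 1 := by
  have key : ∀ i : ℕ, c ^ i * t * (c ^ i)⁻¹ = z ^ i * t := by
    intro i
    induction i with
    | zero => simp
    | succ i ih =>
      rw [pow_succ', show c * c ^ i * t * (c * c ^ i)⁻¹ = c * (c ^ i * t * (c ^ i)⁻¹) * c⁻¹ by group, ih,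
        show c * (z ^ i * t) * c⁻¹ = c * z ^ i * c⁻¹ * (c * t * c⁻¹) by group, h,
        ((show Commute c z from hcz).pow_right i).eq, mul_inv_cancel_right, pow_succ, mul_assoc]
  obtain ⟨k, hk⟩ := hc
  obtain ⟨j, hj⟩ := hz
  have h1 := key (p ^ k)
  rw [hk, one_mul, inv_one, mul_one] at h1
  have h2 : z ^ p ^ k = 1 := right_eq_mul.mp h1
  have hcop : Nat.Coprime (p ^ k) (2 ^ j) :=
    Nat.Coprime.pow k j ((Nat.Prime.coprime_iff_not_dvd Fact.out).mpr fun hd =>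
      hp2 ((Nat.prime_dvd_prime_iff_eq Fact.out Nat.prime_two).mp hd))
  have := pow_gcd_eq_one.mpr ⟨h2, hj⟩
  rwa [hcop.gcd_eq_one, pow_one] at this

/-- Characteristic abelian subgroups central: class two with central squares. -/
theorem class_two_of_char {Γ : Type*} [Group Γ] [Finite Γ] (hP : IsPGroup 2 Γ)
    (h : ∀ A : Subgroup Γ, A.Characteristic → (∀ a ∈ A, ∀ b ∈ A, a * b = b * a) → A ≤ center Γ) :
    (∀ a b : Γ, ⁅a, b⁆ ∈ center Γ) ∧ ∀ a : Γ, a ^ 2 ∈ center Γ := by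
  haveI : Fact (Nat.Prime 2) := ⟨Nat.prime_two⟩
  set Z := center Γ with hZ
  set Z₂ := (center (Γ ⧸ Z)).comap (QuotientGroup.mk' Z) with hZ₂
  have hmem : ∀ x, x ∈ Z₂ ↔ ∀ y, ⁅x, y⁆ ∈ Z := by
    intro x
    rw [hZ₂, Subgroup.mem_comap, Subgroup.mem_center_iff]
    constructor
    · intro hx y
      rw [← QuotientGroup.eq_one_iff, ← QuotientGroup.mk'_apply, map_commutatorElement,
        commutatorElement_eq_one_iff_mul_comm]
      exact (hx _).symm
    · intro hx s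
      obtain ⟨y, rfl⟩ := QuotientGroup.mk'_surjective Z s
      have := hx y
      rw [← QuotientGroup.eq_one_iff, ← QuotientGroup.mk'_apply, map_commutatorElement,
        commutatorElement_eq_one_iff_mul_comm] at this
      exact this.symm
  set D := commutator Γ with hD
  have hchar : (D ⊓ Z₂).Characteristic := by
    rw [Subgroup.characteristic_iff_map_le]
    intro φ
    rintro _ ⟨x, ⟨hxD, hxZ⟩, rfl⟩
    refine ⟨?_, (hmem _).mpr fun y => ?_⟩
    · have : D.map φ.toMonoidHom = D := Subgroup.characteristic_iff_map_eq.mp inferInstance φ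
      exact this ▸ Subgroup.mem_map_of_mem _ hxD
    · obtain ⟨y, rfl⟩ := φ.surjective y
      have h1 := Subgroup.mem_map_of_mem φ.toMonoidHom ((hmem x).mp hxZ y)
      rw [Subgroup.characteristic_iff_map_eq.mp (inferInstance : Z.Characteristic) φ] at h1
      have e : φ.toMonoidHom ⁅x, y⁆ = ⁅φ x, φ y⁆ := map_commutatorElement φ.toMonoidHom x y
      exact e ▸ h1
  have hDZ₂ : ⁅D, Z₂⁆ = ⊥ := by
    rw [hD, commutator_def]
    refine Subgroup.commutator_commutator_eq_bot_of_rotate ?_ ?_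
    · rw [eq_bot_iff]
      refine le_trans (Subgroup.commutator_mono (K₁ := Z) (Subgroup.commutator_le.mpr fun a _ b hb => ?_) le_rfl) ?_
      · rw [← commutatorElement_inv]; exact inv_mem ((hmem b).mp hb a)
      · rw [Subgroup.commutator_le]
        intro a ha b _
        rw [Subgroup.mem_bot, commutatorElement_eq_one_iff_mul_comm]
        exact ((Subgroup.mem_center_iff.mp ha) b).symm
    · rw [eq_bot_iff]
      refine le_trans (Subgroup.commutator_mono (K₁ := Z) (Subgroup.commutator_le.mpr fun a ha b _ => ?_) le_rfl) ?_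
      · exact (hmem a).mp ha b
      · rw [Subgroup.commutator_le]
        intro a ha b _
        rw [Subgroup.mem_bot, commutatorElement_eq_one_iff_mul_comm]
        exact ((Subgroup.mem_center_iff.mp ha) b).symm
  have hAZ : D ⊓ Z₂ ≤ Z := h _ hchar fun a ha b hb =>
    commutatorElement_eq_one_iff_mul_comm.mp (Subgroup.mem_bot.mp (hDZ₂ ▸ Subgroup.commutator_mem_commutator ha.1 hb.2))
  have hDZ : D ≤ Z := by
    by_contra hne
    haveI hN : (D.map (QuotientGroup.mk' Z)).Normal :=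
      (inferInstance : D.Normal).map _ (QuotientGroup.mk'_surjective Z)
    have hne' : D.map (QuotientGroup.mk' Z) ≠ ⊥ := fun hb => hne (by
      rw [← QuotientGroup.ker_mk' Z]; exact (Subgroup.map_eq_bot_iff _).mp hb)
    have := H30.inf_center_ne_bot (hP.to_quotient Z) hN hne'
    apply this
    rw [eq_bot_iff]
    rintro s ⟨⟨d, hd, rfl⟩, hs⟩
    rw [Subgroup.mem_bot, QuotientGroup.mk'_apply, QuotientGroup.eq_one_iff]
    exact hAZ ⟨hd, hs⟩
  have hcls : ∀ a b : Γ, ⁅a, b⁆ ∈ Z := fun a b =>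
    hDZ (by rw [hD, commutator_def]; exact Subgroup.commutator_mem_commutator (Subgroup.mem_top a) (Subgroup.mem_top b))
  refine ⟨hcls, ?_⟩
  have hcls' : ∀ a ∈ (⊤ : Subgroup Γ), ∀ b ∈ (⊤ : Subgroup Γ), ∀ q ∈ (⊤ : Subgroup Γ), ⁅a, b⁆ * q = q * ⁅a, b⁆ :=
    fun a _ b _ q _ => (Subgroup.mem_center_iff.mp (hcls a b) q).symm
  have hml : ∀ a b c : Γ, ⁅a * b, c⁆ = ⁅a, c⁆ * ⁅b, c⁆ := fun a b c =>
    comm_mul_left ⊤ hcls' trivial trivial trivial
  have hpl : ∀ (m : ℕ) (a b : Γ), ⁅a ^ m, b⁆ = ⁅a, b⁆ ^ m := by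
    intro m a b
    induction m with
    | zero => simp
    | succ m ih => rw [pow_succ, hml, ih, pow_succ]
  have hpr : ∀ (m : ℕ) (a b : Γ), ⁅a, b ^ m⁆ = ⁅a, b⁆ ^ m := by
    intro m a b
    rw [← commutatorElement_inv, hpl, ← commutatorElement_inv a b, inv_pow, inv_inv]
  -- exponent two
  have hstep : ∀ k : ℕ, 1 ≤ k → (∀ a b : Γ, ⁅a, b⁆ ^ 2 ^ (k + 1) = 1) → ∀ a b : Γ, ⁅a, b⁆ ^ 2 ^ k = 1 := by
    intro k hk hall a b
    set r := 2 ^ k with hr
    set S : Set Γ := {x | ∃ a, x = a ^ r} with hS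
    have hchar : (Subgroup.closure S).Characteristic := by
      rw [Subgroup.characteristic_iff_map_le]
      intro φ
      rw [MonoidHom.map_closure]
      refine Subgroup.closure_mono ?_
      rintro _ ⟨_, ⟨a, rfl⟩, rfl⟩
      exact ⟨φ a, map_pow φ a r⟩
    have hab : ∀ x ∈ Subgroup.closure S, ∀ y ∈ Subgroup.closure S, x * y = y * x := by
      have hgen : ∀ x ∈ S, ∀ y ∈ S, x * y = y * x := by
        rintro _ ⟨a, rfl⟩ _ ⟨b, rfl⟩
        rw [← commutatorElement_eq_one_iff_mul_comm, hpl, hpr, ← pow_mul]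
        obtain ⟨c, hc⟩ : 2 ^ (k + 1) ∣ r * r := by
          rw [hr, ← pow_add]; exact pow_dvd_pow 2 (by omega)
        rw [hc, pow_mul, hall, one_pow]
      intro x hx y hy
      have h1 : Subgroup.closure S ≤ Subgroup.centralizer S := by
        rw [Subgroup.closure_le]
        intro u hu
        rw [SetLike.mem_coe, Subgroup.mem_centralizer_iff]
        exact fun w hw => hgen w hw u hu
      have h2 : Subgroup.closure S ≤ Subgroup.centralizer (Subgroup.closure S : Set Γ) := by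
        rw [Subgroup.closure_le]
        intro u hu
        rw [SetLike.mem_coe, Subgroup.mem_centralizer_iff]
        intro w hw
        exact (Subgroup.mem_centralizer_iff.mp (h1 hw) u hu).symm
      exact Subgroup.mem_centralizer_iff.mp (h2 hy) x hx
    have h3 := h _ hchar hab (Subgroup.subset_closure ⟨a, rfl⟩)
    rw [← hpl, commutatorElement_eq_one_iff_mul_comm]
    exact (Subgroup.mem_center_iff.mp h3 b).symm
  obtain ⟨n, hn⟩ := IsPGroup.iff_card.mp hP
  have htwo : ∀ k : ℕ, k ≤ n → ∀ a b : Γ, ⁅a, b⁆ ^ 2 ^ (n + 1 - k) = 1 := by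
    intro k
    induction k with
    | zero =>
      intro _ a b
      rw [Nat.sub_zero, pow_succ, pow_mul, ← hn, pow_card_eq_one', one_pow]
    | succ k ih =>
      intro hk a b
      refine hstep _ (by omega) ?_ a b
      rw [show n + 1 - (k + 1) + 1 = n + 1 - k by omega]
      exact ih (by omega)
  intro a
  rw [hZ, Subgroup.mem_center_iff]
  intro b
  refine ((commutatorElement_eq_one_iff_mul_comm).mp ?_).symm
  rw [hpl]
  have := htwo n le_rfl a b
  rwa [Nat.add_sub_cancel_left, pow_one] at this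

section Stab

variable {K : Type*} [Field K] {W : Type*} [AddCommGroup W] [Module K W]

/-- Inside the stabiliser of a character, a vanishing norm descends. -/
theorem nil_stab {A : Type*} {p n : ℕ} (hp : p.Prime) (F : A → Module.End K W) (θ : A ≃ A)
    (s : Module.End K W) (hs : ∀ a, s * F a = F (θ a) * s) (hθ : ∀ a, (⇑θ)^[p ^ n] a = a)
    (μ : A → K) (U : Set W) {v : W} (hvU : v ∈ U) (hv : v ≠ 0) (hE : Eig F μ v)
    (hsum : ∀ w ∈ U, Eig F μ w → ∑ i ∈ Finset.range (p ^ n), (s ^ i) w = 0) :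
    ∃ m, 1 ≤ m ∧ m ≤ n ∧ (tw θ)^[p ^ (n - m)] μ = μ ∧
      ∀ w ∈ U, Eig F μ w → ∑ i ∈ Finset.range (p ^ m), ((s ^ p ^ (n - m)) ^ i) w = 0 := by
  have hP : Function.IsPeriodicPt (tw θ) (p ^ n) μ := H28.SG.tw_iterate_of_period hθ μ
  obtain ⟨j, hj, hjL⟩ := (Nat.dvd_prime_pow hp).mp hP.minimalPeriod_dvd
  have hinj : Set.InjOn (fun i => (tw θ)^[i] μ) ↑(Finset.range (p ^ j)) := by
    rw [Finset.coe_range, ← hjL]; exact Function.iterate_injOn_Iio_minimalPeriod
  have hjn : j < n := by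
    rcases lt_or_eq_of_le hj with h | h
    · exact h
    exfalso
    subst h
    have := H28.SG.eig_indep F (fun i => (tw θ)^[i] μ) (Finset.range (p ^ j)) hinj
      (fun i => (s ^ i) v) (fun i _ => hE.twist_pow hs i) (hsum v hvU hE) 0
      (Finset.mem_range.mpr (pow_pos hp.pos _))
    exact hv (by simpa using this)
  have hper : (tw θ)^[p ^ j] μ = μ := by
    rw [← hjL]; exact Function.isPeriodicPt_minimalPeriod (tw θ) μ
  refine ⟨n - j, by omega, by omega, by rwa [show n - (n - j) = j by omega], fun w hwU hw => ?_⟩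
  rw [show n - (n - j) = j by omega]
  have hperl : ∀ l : ℕ, (tw θ)^[p ^ j * l] μ = μ := fun l =>
    (Function.IsPeriodicPt.mul_const (show Function.IsPeriodicPt (tw θ) (p ^ j) μ from hper) l)
  let G : ℕ → W := fun a => ∑ l ∈ Finset.range (p ^ (n - j)), (s ^ (p ^ j * l + a)) w
  have hG : ∀ a ∈ Finset.range (p ^ j), Eig F ((tw θ)^[a] μ) (G a) := by
    intro a _ b
    simp only [G, map_sum, Finset.smul_sum]
    refine Finset.sum_congr rfl fun l _ => ?_
    rw [hw.twist_pow hs (p ^ j * l + a) b, add_comm (p ^ j * l) a, Function.iterate_add_apply, hperl]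
  have h0 : ∑ a ∈ Finset.range (p ^ j), G a = 0 := by
    rw [Finset.sum_comm, ← H1.Shult.sum_range_mul' (fun i => (s ^ i) w), ← pow_add,
      Nat.add_sub_cancel' hj]
    exact hsum w hwU hw
  have := H28.SG.eig_indep F _ (Finset.range (p ^ j)) hinj G hG h0 0
    (Finset.mem_range.mpr (pow_pos hp.pos _))
  simpa [G, pow_mul] using this

end Stab

variable {K : Type*} [Field K] [IsAlgClosed K] {W : Type*} [AddCommGroup W] [Module K W]
  [FiniteDimensional K W] {H : Type*} [Group H] [Finite H]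

/-- The powers `x ^ (p ^ (e - 1))` commute in their action on the `2`-group. -/
theorem commute_on_two_group {p e : ℕ} [Fact p.Prime] [CharP K p] (hp2 : p ≠ 2) (he : 1 ≤ e)
    (ρ : H →* Module.End K W) (hρ : Function.Injective ρ) (P T : Subgroup H) (hP : IsPGroup p P)
    (hT : IsPGroup 2 T) (hPT : P ≤ Subgroup.normalizer (T : Set H)) (hxe : ∀ x ∈ P, x ^ p ^ e = 1)
    (hnil : ∀ x ∈ P, (ρ x - 1) ^ (p ^ e - 1) = 0) :
    ∀ x₁ ∈ P, ∀ x₂ ∈ P, ∀ t ∈ T,
      ⁅x₁ ^ p ^ (e - 1), x₂ ^ p ^ (e - 1)⁆ * t = t * ⁅x₁ ^ p ^ (e - 1), x₂ ^ p ^ (e - 1)⁆ := by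
  classical
  have hp : p.Prime := Fact.out
  haveI : Fact (Nat.Prime 2) := ⟨Nat.prime_two⟩
  have hsum : ∀ x ∈ P, ∑ i ∈ Finset.range (p ^ e), ρ x ^ i = 0 := fun x hx => by
    rw [H11.HB.geom_sum_eq_sub_one_pow (K := K)]; exact hnil x hx
  -- abelian invariant subgroups of `T`
  have habel : ∀ A : Subgroup H, A ≤ T → (∀ a ∈ A, ∀ b ∈ A, a * b = b * a) →
      P ≤ Subgroup.normalizer (A : Set H) → ∀ x ∈ P, ∀ a ∈ A,
        x ^ p ^ (e - 1) * a = a * x ^ p ^ (e - 1) := by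
    intro A hAT hAc hPA x hx a ha
    set θ : MulAut A := A.normalizerMonoidHom ⟨x, hPA hx⟩ with hθ
    have hcoe : ∀ b : A, ((θ b : A) : H) = x * b * x⁻¹ := fun b => rfl
    have hit : ∀ (k : ℕ) (b : A), (((⇑θ)^[k] b : A) : H) = x ^ k * b * (x ^ k)⁻¹ := by
      intro k
      induction k with
      | zero => intro b; simp
      | succ k ih => intro b; rw [Function.iterate_succ_apply', hcoe, ih, pow_succ']; group
    have hord : ∀ b : A, (orderOf b : K) ≠ 0 := by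
      intro b h0
      rw [CharP.cast_eq_zero_iff K p] at h0
      obtain ⟨k, hk⟩ := (hT.to_le hAT) b
      exact hp2 ((Nat.prime_dvd_prime_iff_eq hp Nat.prime_two).mp
        (hp.dvd_of_dvd_pow (h0.trans (orderOf_dvd_of_pow_eq_one hk))))
    have he' : e - 1 + 1 = e := by omega
    have h1 := map_iterate_eq (k := e - 1) hp (ρ.comp A.subtype)
      (fun b c => by
        show ρ (b : H) * ρ (c : H) = ρ (c : H) * ρ (b : H)
        rw [← map_mul, ← map_mul, hAc b b.2 c c.2]) hord θ (s := ρ x)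
      (fun b => by
        show ρ x * ρ (b : H) = ρ ((θ b : A) : H) * ρ x
        rw [← map_mul, ← map_mul, hcoe, inv_mul_cancel_right])
      (fun b => Subtype.ext (by rw [hit, he', hxe x hx, one_mul, inv_one, mul_one]))
      (by rw [he']; exact hsum x hx) ⟨a, ha⟩
    have h2 := hρ (show ρ (((⇑θ)^[p ^ (e - 1)] ⟨a, ha⟩ : A) : H) = ρ a from h1)
    rw [hit] at h2
    exact mul_inv_eq_iff_eq_mul.mp h2
  -- the moved part of `T`
  set Y : Subgroup H := Subgroup.closure {y | ∃ x ∈ P, x ^ p ^ (e - 1) = y} with hY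
  have hYP : Y ≤ P := (Subgroup.closure_le _).mpr fun y ⟨x, hx, hxy⟩ => hxy ▸ pow_mem hx _
  set T₁ : Subgroup H := ⁅T, Y⁆ with hT₁
  have hT₁T : T₁ ≤ T := Subgroup.commutator_le.mpr fun t ht y hy => by
    rw [commutatorElement_def, mul_assoc t y, mul_assoc t]
    exact mul_mem ht ((Subgroup.mem_normalizer_iff.mp (hPT (hYP hy)) _).mp (inv_mem ht))
  have hYn : ∀ g ∈ P, Y.map (MulAut.conj g).toMonoidHom ≤ Y := by
    intro g hg
    rw [hY, MonoidHom.map_closure]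
    refine Subgroup.closure_mono ?_
    rintro _ ⟨_, ⟨x, hx, rfl⟩, rfl⟩
    exact ⟨g * x * g⁻¹, mul_mem (mul_mem hg hx) (inv_mem hg), by simp [conj_pow]⟩
  have hPT₁ : P ≤ Subgroup.normalizer (T₁ : Set H) := by
    intro g hg
    refine mem_normalizer_of_forall fun t ht => ?_
    have hTg : T.map (MulAut.conj g).toMonoidHom ≤ T := by
      rintro _ ⟨u, hu, rfl⟩
      exact (Subgroup.mem_normalizer_iff.mp (hPT hg) u).mp hu
    have h1 : T₁.map (MulAut.conj g).toMonoidHom ≤ T₁ := by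
      rw [hT₁, Subgroup.map_commutator]
      exact Subgroup.commutator_mono hTg (hYn g hg)
    exact h1 (Subgroup.mem_map_of_mem _ ht)
  have hTT₁ : T ≤ Subgroup.normalizer (T₁ : Set H) := by
    intro g hg
    refine mem_normalizer_of_forall fun t ht => ?_
    have h1 : T₁ ≤ T₁.comap (MulAut.conj g).toMonoidHom := by
      refine Subgroup.commutator_le.mpr fun u hu y hy => ?_
      show g * ⁅u, y⁆ * g⁻¹ ∈ T₁
      rw [show g * ⁅u, y⁆ * g⁻¹ = ⁅g * u, y⁆ * ⁅g, y⁆⁻¹ by simp only [commutatorElement_def]; group]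
      exact mul_mem (Subgroup.commutator_mem_commutator (mul_mem hg hu) hy)
        (inv_mem (Subgroup.commutator_mem_commutator hg hy))
    exact h1 ht
  have hchar : ∀ A : Subgroup T₁, A.Characteristic → ∀ g ∈ Subgroup.normalizer (T₁ : Set H),
      g ∈ Subgroup.normalizer ((A.map T₁.subtype : Subgroup H) : Set H) := by
    intro A hA g hg
    refine mem_normalizer_of_forall ?_
    rintro _ ⟨a, ha, rfl⟩
    refine ⟨T₁.normalizerMonoidHom ⟨g, hg⟩ a, ?_, rfl⟩
    have h1 := Subgroup.characteristic_iff_map_eq.mp hA (T₁.normalizerMonoidHom ⟨g, hg⟩)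
    exact h1 ▸ Subgroup.mem_map_of_mem _ ha
  have hYcen : ∀ A : Subgroup H, A ≤ T → (∀ a ∈ A, ∀ b ∈ A, a * b = b * a) →
      P ≤ Subgroup.normalizer (A : Set H) → ∀ y ∈ Y, ∀ a ∈ A, y * a = a * y := by
    intro A hAT hAc hPA y hy a ha
    have h1 : Y ≤ Subgroup.centralizer (A : Set H) := by
      rw [hY, Subgroup.closure_le]
      rintro _ ⟨x, hx, rfl⟩
      rw [SetLike.mem_coe, Subgroup.mem_centralizer_iff]
      exact fun b hb => (habel A hAT hAc hPA x hx b hb).symm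
    exact (Subgroup.mem_centralizer_iff.mp (h1 hy) a ha).symm
  have hT₁2 : IsPGroup 2 T₁ := hT.to_le hT₁T
  obtain ⟨hcl, hsq⟩ := class_two_of_char hT₁2 (by
    intro A hA hAc
    set AH := A.map T₁.subtype with hAH
    have hAHT : AH ≤ T := (Subgroup.map_subtype_le A).trans hT₁T
    have hAHc : ∀ a ∈ AH, ∀ b ∈ AH, a * b = b * a := by
      rintro _ ⟨a, ha, rfl⟩ _ ⟨b, hb, rfl⟩
      exact congrArg Subtype.val (hAc a ha b hb)
    have hy := hYcen AH hAHT hAHc fun g hg => hchar A hA g (hPT₁ hg)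
    have h0 : ⁅T₁, AH⁆ = ⊥ := by
      rw [hT₁]
      refine Subgroup.commutator_commutator_eq_bot_of_rotate ?_ ?_
      · have : ⁅Y, AH⁆ = ⊥ := by
          rw [eq_bot_iff, Subgroup.commutator_le]
          intro y hy' a ha
          rw [Subgroup.mem_bot, commutatorElement_eq_one_iff_mul_comm]
          exact hy y hy' a ha
        rw [this, eq_bot_iff, Subgroup.commutator_le]
        intro a ha b _
        rw [Subgroup.mem_bot.mp ha, Subgroup.mem_bot, commutatorElement_one_left]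
      · rw [eq_bot_iff, Subgroup.commutator_le]
        intro a ha y hy'
        have haA : a ∈ AH := by
          refine (Subgroup.commutator_le.mpr fun u hu w hw => ?_) ha
          have h1 := (Subgroup.mem_normalizer_iff.mp (hchar A hA w (hTT₁ hw)) u⁻¹).mp (inv_mem hu)
          rw [commutatorElement_def, mul_assoc u w, mul_assoc u]
          exact mul_mem hu h1
        rw [Subgroup.mem_bot, commutatorElement_eq_one_iff_mul_comm]
        exact (hy y hy' a haA).symm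
    intro a ha
    rw [Subgroup.mem_center_iff]
    intro b
    apply Subtype.ext
    refine commutatorElement_eq_one_iff_mul_comm.mp (Subgroup.mem_bot.mp (h0 ▸ ?_))
    exact Subgroup.commutator_mem_commutator b.2 (Subgroup.mem_map_of_mem T₁.subtype ha))
  set Zt : Subgroup H := (center T₁).map T₁.subtype with hZt
  have hZtT₁ : Zt ≤ T₁ := Subgroup.map_subtype_le _
  have hZtmem : ∀ z, z ∈ Zt ↔ z ∈ T₁ ∧ ∀ b ∈ T₁, z * b = b * z := by
    intro z
    constructor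
    · rintro ⟨w, hw, rfl⟩
      exact ⟨w.2, fun b hb => (congrArg Subtype.val (Subgroup.mem_center_iff.mp hw ⟨b, hb⟩)).symm⟩
    · rintro ⟨h1, h2⟩
      exact ⟨⟨z, h1⟩, Subgroup.mem_center_iff.mpr fun b => Subtype.ext (h2 b b.2).symm, rfl⟩
  have hcls : ∀ a ∈ T₁, ∀ b ∈ T₁, ⁅a, b⁆ ∈ Zt := fun a ha b hb =>
    ⟨⁅(⟨a, ha⟩ : T₁), ⟨b, hb⟩⁆, hcl _ _, by simp [commutatorElement_def]⟩
  have hcls' : ∀ a ∈ T₁, ∀ b ∈ T₁, ∀ q ∈ T₁, ⁅a, b⁆ * q = q * ⁅a, b⁆ := fun a ha b hb q hq =>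
    ((hZtmem _).mp (hcls a ha b hb)).2 q hq
  have hsq' : ∀ a ∈ T₁, a ^ 2 ∈ Zt := fun a ha => ⟨(⟨a, ha⟩ : T₁) ^ 2, hsq _, rfl⟩
  have hZtc : ∀ a ∈ Zt, ∀ b ∈ Zt, a * b = b * a := fun a ha b hb =>
    ((hZtmem a).mp ha).2 b (hZtT₁ hb)
  have hPZ : P ≤ Subgroup.normalizer (Zt : Set H) := fun g hg => hchar _ inferInstance g (hPT₁ hg)
  have hYZ := hYcen Zt (hZtT₁.trans hT₁T) hZtc hPZ
  intro x₁ hx₁ x₂ hx₂
  set c := ⁅x₁ ^ p ^ (e - 1), x₂ ^ p ^ (e - 1)⁆ with hc
  have hy₁ : x₁ ^ p ^ (e - 1) ∈ Y := Subgroup.subset_closure ⟨x₁, hx₁, rfl⟩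
  have hy₂ : x₂ ^ p ^ (e - 1) ∈ Y := Subgroup.subset_closure ⟨x₂, hx₂, rfl⟩
  have hcY : c ∈ Y := mul_mem (mul_mem (mul_mem hy₁ hy₂) (inv_mem hy₁)) (inv_mem hy₂)
  have hcP : c ∈ P := hYP hcY
  have hcord : ∃ k : ℕ, c ^ p ^ k = 1 := by
    obtain ⟨k, hk⟩ := hP ⟨c, hcP⟩
    exact ⟨k, congrArg Subtype.val hk⟩
  have hTord : ∀ t ∈ T, ∃ k : ℕ, t ^ 2 ^ k = 1 := fun t ht => by
    obtain ⟨k, hk⟩ := hT ⟨t, ht⟩
    exact ⟨k, congrArg Subtype.val hk⟩
  have hkey : ∀ t ∈ T₁, ∀ b ∈ T₁, ⁅c * t * c⁻¹ * t⁻¹, b⁆ = 1 := by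
    intro t ht b hb
    set z := c * t * c⁻¹ * t⁻¹ with hz
    have hzT₁ : z ∈ T₁ := mul_mem ((Subgroup.mem_normalizer_iff.mp (hPT₁ hcP) t).mp ht) (inv_mem ht)
    set d := ⁅z, b⁆ with hd
    have hdZ : d ∈ Zt := hcls z hzT₁ b hb
    apply hρ
    rw [map_one]
    have hordZ : (orderOf (⟨d, hdZ⟩ : Zt) : K) ≠ 0 := by
      intro h0
      rw [CharP.cast_eq_zero_iff K p] at h0
      obtain ⟨k, hk⟩ := (hT₁2.to_le hZtT₁) ⟨d, hdZ⟩
      exact hp2 ((Nat.prime_dvd_prime_iff_eq hp Nat.prime_two).mp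
        (hp.dvd_of_dvd_pow (h0.trans (orderOf_dvd_of_pow_eq_one hk))))
    have hmain := H1.Shult.eq_smul_of_eigen (ρ.comp Zt.subtype)
      (fun a b => by
        show ρ (a : H) * ρ (b : H) = ρ (b : H) * ρ (a : H)
        rw [← map_mul, ← map_mul, hZtc a a.2 b b.2]) ⟨d, hdZ⟩ hordZ 1 ?_
    · simpa using hmain
    intro v hv χ hχ
    -- the block of `χ`
    set Wl : Submodule K W := eigSpace (⇑(ρ.comp Zt.subtype)) χ with hWl
    have hvW : v ∈ Wl := mem_eigSpace.mpr hχ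
    have hWlmem : ∀ {w}, w ∈ Wl → ∀ z (hz : z ∈ Zt), ρ z w = χ ⟨z, hz⟩ • w := fun {w} hw z hz =>
      mem_eigSpace.mp hw ⟨z, hz⟩
    have hT₁W : ∀ u ∈ T₁, ∀ w ∈ Wl, ρ u w ∈ Wl := by
      intro u hu w hw
      refine mem_eigSpace.mpr fun z => ?_
      show ρ (z : H) (ρ u w) = χ z • ρ u w
      rw [← Module.End.mul_apply, ← map_mul, ((hZtmem _).mp z.2).2 u hu, map_mul, Module.End.mul_apply,
        hWlmem hw z z.2, map_smul]
    let R : Subgroup H :=
      { carrier := {u | ∃ hu : u ∈ T₁, ∀ (b : H) (hb : b ∈ T₁), χ ⟨⁅u, b⁆, hcls u hu b hb⟩ = 1}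
        one_mem' := ⟨one_mem _, fun b hb => by
          rw [show (⟨⁅(1 : H), b⁆, hcls 1 (one_mem _) b hb⟩ : Zt) = 1 from Subtype.ext (commutatorElement_one_left b)]
          exact H28.SG.eig_one hχ hv⟩
        mul_mem' := fun {u w} ⟨hu, hu'⟩ ⟨hw, hw'⟩ => ⟨mul_mem hu hw, fun b hb => by
          rw [show (⟨⁅u * w, b⁆, hcls _ (mul_mem hu hw) b hb⟩ : Zt) = ⟨⁅u, b⁆, hcls u hu b hb⟩ * ⟨⁅w, b⁆, hcls w hw b hb⟩ from
            Subtype.ext (comm_mul_left T₁ hcls' hu hw hb), H28.SG.eig_mul hχ hv, hu' b hb, hw' b hb, one_mul]⟩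
        inv_mem' := fun {u} ⟨hu, hu'⟩ => ⟨inv_mem hu, fun b hb => by
          have h1 : (⟨⁅u⁻¹, b⁆, hcls _ (inv_mem hu) b hb⟩ : Zt) * ⟨⁅u, b⁆, hcls u hu b hb⟩ = 1 :=
            Subtype.ext (by
              show ⁅u⁻¹, b⁆ * ⁅u, b⁆ = 1
              rw [← comm_mul_left T₁ hcls' (inv_mem hu) hu hb, inv_mul_cancel, commutatorElement_one_left])
          have h2 := congrArg χ h1
          rwa [H28.SG.eig_mul hχ hv, hu' b hb, mul_one, H28.SG.eig_one hχ hv] at h2⟩ }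
    have hRT : ∀ u ∈ R, u ∈ T₁ := fun u hu => hu.1
    let Fr : R → Module.End K Wl := fun r => (ρ (r : H)).restrict (hT₁W r (hRT r r.2))
    have hFc : ∀ r r' : R, Commute (Fr r) (Fr r') := by
      intro r r'
      refine LinearMap.ext fun w => Subtype.ext ?_
      show ρ (r : H) (ρ (r' : H) w) = ρ (r' : H) (ρ (r : H) w)
      have hd' := hcls r (hRT r r.2) r' (hRT r' r'.2)
      have e : ρ ⁅(r : H), (r' : H)⁆ (ρ (r' : H) (ρ (r : H) w)) = ρ (r' : H) (ρ (r : H) w) := by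
        rw [hWlmem (hT₁W _ (hRT r' r'.2) _ (hT₁W _ (hRT r r.2) _ w.2)) _ hd', (r.2).2 _ (hRT r' r'.2), one_smul]
      rw [← e, ← Module.End.mul_apply, ← Module.End.mul_apply, ← Module.End.mul_apply, ← map_mul, ← map_mul, ← map_mul]
      congr 2
      simp only [commutatorElement_def]
      group
    have hWl0 : (⊤ : Submodule K Wl) ≠ ⊥ := by
      rw [Submodule.ne_bot_iff]
      exact ⟨⟨v, hvW⟩, trivial, fun h => hv (congrArg Subtype.val h)⟩
    obtain ⟨μ, w₀, -, hw0, hμ⟩ := H28.SG.exists_eig_mem Fr hFc ⊤ hWl0 (fun _ _ _ => trivial)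
    let FR : R → Module.End K W := fun r => ρ (r : H)
    set U : Submodule K W := Wl ⊓ eigSpace FR μ with hU
    set v' : W := (w₀ : W) with hv'
    have hv'0 : v' ≠ 0 := fun h => hw0 (Subtype.ext h)
    have hv'U : v' ∈ U := ⟨w₀.2, mem_eigSpace.mpr fun r => congrArg Subtype.val (hμ r)⟩
    have hT₁U : ∀ u ∈ T₁, ∀ w ∈ U, ρ u w ∈ U := by
      intro u hu w hw
      refine ⟨hT₁W u hu w hw.1, mem_eigSpace.mpr fun r => ?_⟩
      show ρ (r : H) (ρ u w) = μ r • ρ u w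
      have hr' := hRT r r.2
      have hd' := hcls _ (inv_mem hr') _ (inv_mem hu)
      have e : (r : H) * u = u * ((r : H) * ⁅(r : H)⁻¹, u⁻¹⁆) := by
        simp only [commutatorElement_def]; group
      have hone : χ ⟨_, hd'⟩ = 1 := (R.inv_mem r.2).2 u⁻¹ (inv_mem hu)
      rw [← Module.End.mul_apply, ← map_mul, e, map_mul, map_mul, Module.End.mul_apply, Module.End.mul_apply,
        hWlmem hw.1 _ hd', hone, one_smul,
        show ρ (r : H) w = μ r • w from mem_eigSpace.mp hw.2 r, map_smul]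
    -- elements of `P` descend to `U`
    have hdesc : ∀ x ∈ P, ∃ x' ∈ P, x' ∈ H11.HB.stab ρ U ∧ ∃ m, 1 ≤ m ∧ x' ^ p ^ m = 1 ∧
        (∀ w ∈ U, ∑ i ∈ Finset.range (p ^ m), (ρ x' ^ i) w = 0) ∧ x' ^ p ^ (m - 1) = x ^ p ^ (e - 1) := by
      intro x hx
      set θ₁ : MulAut Zt := Zt.normalizerMonoidHom ⟨x, hPZ hx⟩ with hθ₁
      have hit₁ : ∀ (k : ℕ) (b : Zt), (((⇑θ₁)^[k] b : Zt) : H) = x ^ k * b * (x ^ k)⁻¹ := by
        intro k
        induction k with
        | zero => intro b; simp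
        | succ k ih =>
          intro b
          rw [Function.iterate_succ_apply']
          show x * (((⇑θ₁)^[k] b : Zt) : H) * x⁻¹ = _
          rw [ih, pow_succ']; group
      obtain ⟨m₁, hm₁, hm₁e, hper₁, hsum₁⟩ := nil_stab (n := e) hp (⇑(ρ.comp Zt.subtype)) θ₁.toEquiv (ρ x)
        (fun b => by
          show ρ x * ρ (b : H) = ρ (x * (b : H) * x⁻¹) * ρ x
          rw [← map_mul, ← map_mul, inv_mul_cancel_right])
        (fun b => Subtype.ext (by
          show (((⇑θ₁)^[p ^ e] b : Zt) : H) = b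
          rw [hit₁, hxe x hx, one_mul, inv_one, mul_one]))
        χ Set.univ (Set.mem_univ v) hv hχ (fun w _ _ => by rw [← LinearMap.sum_apply, hsum x hx, LinearMap.zero_apply])
      set x₀ := x ^ p ^ (e - m₁) with hx₀
      have hx₀P : x₀ ∈ P := pow_mem hx _
      have hχfix : ∀ (z : H) (hz : z ∈ Zt) (hz' : x₀ * z * x₀⁻¹ ∈ Zt), χ ⟨_, hz'⟩ = χ ⟨z, hz⟩ := by
        intro z hz hz'
        have h1 := H28.SG.tw_iterate_apply θ₁.toEquiv (p ^ (e - m₁)) χ ⟨z, hz⟩
        rw [hper₁] at h1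
        rw [← h1]
        congr 1
        exact Subtype.ext (hit₁ _ ⟨z, hz⟩).symm
      have hx₀W : ∀ w ∈ Wl, ρ x₀ w ∈ Wl := by
        intro w hw
        refine mem_eigSpace.mpr fun z => ?_
        show ρ (z : H) (ρ x₀ w) = χ z • ρ x₀ w
        have hz' : x₀⁻¹ * (z : H) * x₀ ∈ Zt := by
          have := (Subgroup.mem_normalizer_iff.mp (hPZ (inv_mem hx₀P)) z).mp z.2
          rwa [inv_inv] at this
        have e0 : x₀ * (x₀⁻¹ * (z : H) * x₀) * x₀⁻¹ = z := by group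
        have e1 := hχfix _ hz' (by rw [e0]; exact z.2)
        have e2 : (⟨x₀ * (x₀⁻¹ * (z : H) * x₀) * x₀⁻¹, by rw [e0]; exact z.2⟩ : Zt) = z := Subtype.ext e0
        rw [e2] at e1
        rw [← Module.End.mul_apply, ← map_mul, show (z : H) * x₀ = x₀ * (x₀⁻¹ * z * x₀) by group, map_mul,
          Module.End.mul_apply, hWlmem hw _ hz', ← e1, map_smul]
      have hRn : x₀ ∈ Subgroup.normalizer (R : Set H) := by
        refine mem_normalizer_of_forall fun u hu => ?_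
        refine ⟨(Subgroup.mem_normalizer_iff.mp (hPT₁ hx₀P) u).mp hu.1, fun b hb => ?_⟩
        have hb' : x₀⁻¹ * b * x₀ ∈ T₁ := by
          have := (Subgroup.mem_normalizer_iff.mp (hPT₁ (inv_mem hx₀P)) b).mp hb
          rwa [inv_inv] at this
        have h1 := hu.2 _ hb'
        rw [← hχfix _ (hcls u hu.1 _ hb') ((Subgroup.mem_normalizer_iff.mp (hPZ hx₀P) _).mp (hcls u hu.1 _ hb'))] at h1
        rw [← h1]
        congr 1
        apply Subtype.ext
        simp only [commutatorElement_def]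
        group
      set θ₂ : MulAut R := R.normalizerMonoidHom ⟨x₀, hRn⟩ with hθ₂
      have hit₂ : ∀ (k : ℕ) (b : R), (((⇑θ₂)^[k] b : R) : H) = x₀ ^ k * b * (x₀ ^ k)⁻¹ := by
        intro k
        induction k with
        | zero => intro b; simp
        | succ k ih =>
          intro b
          rw [Function.iterate_succ_apply']
          show x₀ * (((⇑θ₂)^[k] b : R) : H) * x₀⁻¹ = _
          rw [ih, pow_succ']; group
      have hx₀e : x₀ ^ p ^ m₁ = 1 := by
        rw [hx₀, ← pow_mul, ← pow_add, Nat.sub_add_cancel hm₁e, hxe x hx]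
      obtain ⟨m₂, hm₂, hm₂e, hper₂, hsum₂⟩ := nil_stab (n := m₁) hp FR θ₂.toEquiv (ρ x₀)
        (fun b => by
          show ρ x₀ * ρ (b : H) = ρ (x₀ * (b : H) * x₀⁻¹) * ρ x₀
          rw [← map_mul, ← map_mul, inv_mul_cancel_right])
        (fun b => Subtype.ext (by
          show (((⇑θ₂)^[p ^ m₁] b : R) : H) = b
          rw [hit₂, hx₀e, one_mul, inv_one, mul_one]))
        μ (Wl : Set W) hv'U.1 hv'0 (mem_eigSpace.mp hv'U.2)
        (fun w hw _ => by
          have := hsum₁ w (Set.mem_univ w) (mem_eigSpace.mp hw)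
          rwa [← map_pow ρ x] at this)
      set x' := x₀ ^ p ^ (m₁ - m₂) with hx'
      refine ⟨x', pow_mem hx₀P _, ?_, m₂, hm₂, ?_, ?_, ?_⟩
      · intro w hw
        refine ⟨?_, mem_eigSpace.mpr fun r => ?_⟩
        · have hpow : ∀ i : ℕ, ρ (x₀ ^ i) w ∈ Wl := by
            intro i
            induction i with
            | zero => simpa using hw.1
            | succ i ih => rw [pow_succ', map_mul, Module.End.mul_apply]; exact hx₀W _ ih
          exact hpow _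
        · show ρ (r : H) (ρ x' w) = μ r • ρ x' w
          have hr' : x'⁻¹ * (r : H) * x' ∈ R := by
            have := (Subgroup.mem_normalizer_iff.mp (inv_mem (pow_mem hRn (p ^ (m₁ - m₂)))) r).mp r.2
            rwa [inv_inv] at this
          have h1 := H28.SG.tw_iterate_apply θ₂.toEquiv (p ^ (m₁ - m₂)) μ ⟨_, hr'⟩
          rw [hper₂] at h1
          have e2 : (⇑θ₂.toEquiv)^[p ^ (m₁ - m₂)] ⟨_, hr'⟩ = r := Subtype.ext (by
            show (((⇑θ₂)^[p ^ (m₁ - m₂)] ⟨_, hr'⟩ : R) : H) = r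
            rw [hit₂, ← hx']
            show x' * (x'⁻¹ * (r : H) * x') * x'⁻¹ = r
            group)
          rw [e2] at h1
          rw [← Module.End.mul_apply, ← map_mul, show (r : H) * x' = x' * (x'⁻¹ * r * x') by group, map_mul,
            Module.End.mul_apply, show ρ (x'⁻¹ * r * x') w = μ ⟨_, hr'⟩ • w from mem_eigSpace.mp hw.2 ⟨_, hr'⟩,
            ← h1, map_smul]
      · rw [hx', ← pow_mul, ← pow_add, Nat.sub_add_cancel hm₂e, hx₀e]
      · intro w hw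
        have := hsum₂ w hw.1 (mem_eigSpace.mp hw.2)
        rwa [← map_pow ρ x₀] at this
      · rw [hx', hx₀, ← pow_mul, ← pow_mul, ← pow_add, ← pow_add]
        congr 2
        omega
    -- inside the units of `U`
    set S := H11.HB.stab ρ U with hS
    have hT₁S : T₁ ≤ S := fun u hu => hT₁U u hu
    let ψ : S →* (Module.End K U)ˣ := (H11.HB.restrictRep ρ U).toHomUnits
    have hψ : ∀ (g : S) (w : U), (((ψ g : (Module.End K U)ˣ) : Module.End K U) w : W) = ρ (g : H) w := fun g w => rfl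
    haveI : Nontrivial U := ⟨⟨⟨v', hv'U⟩, 0, fun h => hv'0 (congrArg Subtype.val h)⟩⟩
    set Q := (T₁.subgroupOf S).map ψ with hQ
    set L := (P.subgroupOf S).map ψ with hL
    haveI : Finite Q := Finite.of_surjective _ (ψ.subgroupMap_surjective (T₁.subgroupOf S))
    haveI : Finite L := Finite.of_surjective _ (ψ.subgroupMap_surjective (P.subgroupOf S))
    have hQ2 : IsPGroup 2 Q := (hT₁2.comap_subtype).map ψ
    have hLp : IsPGroup p L := (hP.comap_subtype).map ψ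
    have hone : ∀ (g : S) (hg : (g : H) ∈ Zt), χ ⟨g, hg⟩ = 1 → ψ g = 1 := by
      intro g hg hχg
      apply Units.ext
      refine LinearMap.ext fun w => Subtype.ext ?_
      rw [hψ, hWlmem w.2.1 _ hg, hχg, one_smul]
      rfl
    have hchi : ∀ (g : S) (hg : (g : H) ∈ Zt), ψ g = 1 → χ ⟨g, hg⟩ = 1 := by
      intro g hg h1
      have h2 := hψ g ⟨v', hv'U⟩
      rw [h1, hWlmem hv'U.1 _ hg] at h2
      exact smul_left_injective K hv'0 (h2.symm.trans (one_smul K v').symm)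
    have hsc : ∀ (g : S), (g : H) ∈ T₁ → (∀ q ∈ Q, ψ g * q = q * ψ g) → (g : H) ∈ R := by
      intro g hg hcomm
      refine ⟨hg, fun b hb => ?_⟩
      have h1 := hcomm (ψ ⟨b, hT₁S hb⟩) ⟨⟨b, hT₁S hb⟩, hb, rfl⟩
      have h2 : ψ ⁅g, ⟨b, hT₁S hb⟩⁆ = 1 := by
        rw [map_commutatorElement, commutatorElement_eq_one_iff_mul_comm]; exact h1
      exact hchi ⁅g, ⟨b, hT₁S hb⟩⁆ (hcls _ hg b hb) h2
    obtain ⟨x₁', hx₁'P, hx₁'S, m₁, hm₁, hx₁'e, hx₁'s, hx₁'y⟩ := hdesc x₁ hx₁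
    obtain ⟨x₂', hx₂'P, hx₂'S, m₂, hm₂, hx₂'e, hx₂'s, hx₂'y⟩ := hdesc x₂ hx₂
    have hnil' : ∀ (x : S) (m : ℕ), (∀ w ∈ U, ∑ i ∈ Finset.range (p ^ m), (ρ (x : H) ^ i) w = 0) →
        ((ψ x : Module.End K U) - 1) ^ (p ^ m - 1) = 0 := by
      intro x m hx
      rw [← H11.HB.geom_sum_eq_sub_one_pow (K := K)]
      refine LinearMap.ext fun w => Subtype.ext ?_
      rw [LinearMap.sum_apply, LinearMap.zero_apply, Submodule.coe_sum, Submodule.coe_zero]
      refine Eq.trans (Finset.sum_congr rfl fun i _ => ?_) (hx w w.2)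
      rw [← Units.val_pow_eq_pow_val, ← map_pow, hψ, SubmonoidClass.coe_pow, map_pow]
    have hres := commute_mod_center hp2 Q L hQ2 hLp
      (by
        rintro _ ⟨a, ha, rfl⟩ _ ⟨b, hb, rfl⟩ _ ⟨q, hq, rfl⟩
        rw [← map_commutatorElement, ← map_mul, ← map_mul]
        exact congrArg ψ (Subtype.ext (hcls' _ ha _ hb _ hq)))
      (by
        rintro _ ⟨a, ha, rfl⟩ _ ⟨q, hq, rfl⟩
        rw [← map_pow, ← map_mul, ← map_mul]
        exact congrArg ψ (Subtype.ext (((hZtmem _).mp (hsq' _ ha)).2 _ hq)))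
      (by
        rintro _ ⟨a, ha, rfl⟩ hcomm
        refine ⟨μ ⟨a, hsc a ha hcomm⟩, LinearMap.ext fun w => Subtype.ext ?_⟩
        rw [hψ]
        exact mem_eigSpace.mp w.2.2 ⟨a, hsc a ha hcomm⟩)
      (by
        rintro _ ⟨g, hg, rfl⟩
        rw [Subgroup.mem_normalizer_iff]
        intro q
        constructor
        · rintro ⟨a, ha, rfl⟩
          exact ⟨g * a * g⁻¹, (Subgroup.mem_normalizer_iff.mp (hPT₁ hg) _).mp ha, by simp⟩
        · rintro ⟨a, ha, hae⟩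
          refine ⟨g⁻¹ * a * g, ?_, by rw [map_mul, map_mul, map_inv, hae]; group⟩
          have := (Subgroup.mem_normalizer_iff.mp (hPT₁ (inv_mem hg)) (a : H)).mp ha
          rw [inv_inv] at this
          exact this)
      ((ψ ⟨x₁', hx₁'S⟩) ^ p ^ (m₁ - 1)) ((ψ ⟨x₂', hx₂'S⟩) ^ p ^ (m₂ - 1))
      ⟨ψ ⟨x₁', hx₁'S⟩, ⟨⟨x₁', hx₁'S⟩, hx₁'P, rfl⟩, m₁, hm₁, by
        rw [← map_pow, show (⟨x₁', hx₁'S⟩ : S) ^ p ^ m₁ = 1 from Subtype.ext hx₁'e, map_one],
        hnil' ⟨x₁', hx₁'S⟩ m₁ hx₁'s, rfl⟩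
      ⟨ψ ⟨x₂', hx₂'S⟩, ⟨⟨x₂', hx₂'S⟩, hx₂'P, rfl⟩, m₂, hm₂, by
        rw [← map_pow, show (⟨x₂', hx₂'S⟩ : S) ^ p ^ m₂ = 1 from Subtype.ext hx₂'e, map_one],
        hnil' ⟨x₂', hx₂'S⟩ m₂ hx₂'s, rfl⟩
    have hS₁ : x₁ ^ p ^ (e - 1) ∈ S := hx₁'y ▸ pow_mem hx₁'S _
    have hS₂ : x₂ ^ p ^ (e - 1) ∈ S := hx₂'y ▸ pow_mem hx₂'S _
    have e₁ : (ψ ⟨x₁', hx₁'S⟩) ^ p ^ (m₁ - 1) = ψ ⟨_, hS₁⟩ := by
      rw [← map_pow]; exact congrArg ψ (Subtype.ext hx₁'y)
    have e₂ : (ψ ⟨x₂', hx₂'S⟩) ^ p ^ (m₂ - 1) = ψ ⟨_, hS₂⟩ := by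
      rw [← map_pow]; exact congrArg ψ (Subtype.ext hx₂'y)
    have hfin := hres (ψ ⟨t, hT₁S ht⟩) ⟨_, ht, rfl⟩ (ψ ⟨b, hT₁S hb⟩) ⟨_, hb, rfl⟩
    rw [e₁, e₂, ← map_commutatorElement, ← map_mul, ← map_inv, ← map_mul, ← map_inv, ← map_mul,
      ← map_commutatorElement] at hfin
    have hdS : d ∈ S := hT₁S (hZtT₁ hdZ)
    have h3 : ψ ⟨d, hdS⟩ = 1 := by
      rw [← hfin]
      congr 1
    exact hchi ⟨d, hdS⟩ hdZ h3
  have hzero : ∀ t ∈ T₁, c * t = t * c := by
    intro t ht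
    set z := c * t * c⁻¹ * t⁻¹ with hz
    have hzT₁ : z ∈ T₁ := mul_mem ((Subgroup.mem_normalizer_iff.mp (hPT₁ hcP) t).mp ht) (inv_mem ht)
    have hzZ : z ∈ Zt := (hZtmem z).mpr ⟨hzT₁, fun b hb =>
      commutatorElement_eq_one_iff_mul_comm.mp (hkey t ht b hb)⟩
    have h1 : z = 1 := eq_one_of_shift hp2 hcord (hTord z (hT₁T hzT₁)) (hYZ c hcY z hzZ)
      (show c * t * c⁻¹ = z * t by rw [hz]; group)
    rw [hz, mul_inv_eq_one, mul_inv_eq_iff_eq_mul] at h1
    exact h1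
  intro t ht
  have hzT₁ : c * t * c⁻¹ * t⁻¹ ∈ T₁ := by
    rw [show c * t * c⁻¹ * t⁻¹ = ⁅t, c⁆⁻¹ by simp only [commutatorElement_def]; group]
    exact inv_mem (Subgroup.commutator_mem_commutator ht hcY)
  have h1 := eq_one_of_shift hp2 hcord (hTord _ (hT₁T hzT₁)) (hzero _ hzT₁)
    (show c * t * c⁻¹ = c * t * c⁻¹ * t⁻¹ * t by group)
  rw [mul_inv_eq_one, mul_inv_eq_iff_eq_mul] at h1
  exact h1

end Cfsg.Agent.H29.HHExp
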