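import Mathlib

/-!
Symmetric operators of an abelian coprime group normalized by an automorphism of `p`-power order
(helper29): some element moved as much as possible lies on an isotropic orbit.
-/

set_option autoImplicit false

namespace Cfsg.Agent.H29.JAlg

variable {R : Type*} [CommRing R]

/-- In a domain quotient, an automorphism of odd order fixing all `k + k⁻¹` fixes all `k`. -/
theorem fixed_mod_prime {p : ℕ} (hp : Odd p) (τ : R →+* R) (s : Submonoid R) (inv : R → R)
    (hinv : ∀ k ∈ s, k * inv k = 1) (hτs : ∀ k ∈ s, τ k ∈ s)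
    (hfix : ∀ k ∈ s, τ (k + inv k) = k + inv k) (hord : ∀ k ∈ s, τ^[p] k = k)
    (J : Ideal R) [J.IsPrime] {k : R} (hk : k ∈ s) : τ k - k ∈ J := by
  have hdom : ∀ l ∈ s, τ l - l ∈ J ∨ τ l * l - 1 ∈ J := by
    intro l hl
    refine Ideal.IsPrime.mem_or_mem inferInstance ?_
    have h1 : τ l * τ (l + inv l) = τ l * τ l + 1 := by
      rw [map_add, mul_add, ← map_mul τ l (inv l), hinv l hl, map_one]
    rw [hfix l hl] at h1
    have h2 := hinv l hl
    have : (τ l - l) * (τ l * l - 1) = 0 := by
      linear_combination (-l) * h1 + τ l * h2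
    rw [this]
    exact J.zero_mem
  by_contra hne
  have hall : ∀ l ∈ s, τ l * l - 1 ∈ J := by
    intro l hl
    rcases hdom l hl with e | e
    swap
    · exact e
    rcases hdom k hk with e' | e'
    · exact absurd e' hne
    rcases hdom (k * l) (s.mul_mem hk hl) with e2 | e2
    · exfalso
      refine hne ?_
      have h3 : l * (τ k - k) ∈ J := by
        have : l * (τ k - k) = (τ (k * l) - k * l) - τ k * (τ l - l) := by rw [map_mul]; ring
        rw [this]
        exact J.sub_mem e2 (J.mul_mem_left _ e)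
      have h4 := J.mul_mem_left (inv l) h3
      rwa [← mul_assoc, mul_comm (inv l) l, hinv l hl, one_mul] at h4
    · -- `l² ≡ 1`
      have h3 : l * l - 1 ∈ J := by
        have : l * l - 1 = (τ (k * l) * (k * l) - 1) - (τ k * k) * l * (τ l - l) -
            (τ k * k - 1) * (l * l) := by rw [map_mul]; ring
        rw [this]
        exact J.sub_mem (J.sub_mem e2 (J.mul_mem_left _ e)) (J.mul_mem_right _ e')
      have : τ l * l - 1 = l * (τ l - l) + (l * l - 1) := by ring
      rw [this]
      exact J.add_mem (J.mul_mem_left _ e) h3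
  have hs : ∀ j : ℕ, ∀ l ∈ s, τ^[j] l ∈ s := by
    intro j
    induction j with
    | zero => exact fun l hl => hl
    | succ j ih => exact fun l hl => by rw [Function.iterate_succ_apply']; exact hτs _ (ih l hl)
  have h2 : ∀ l ∈ s, τ (τ l) - l ∈ J := by
    intro l hl
    have a := hall l hl
    have b := hall (τ l) (hτs l hl)
    have : τ (τ l) - l = l * (τ (τ l) * τ l - 1) - τ (τ l) * (τ l * l - 1) := by ring
    rw [this]
    exact J.sub_mem (J.mul_mem_left _ b) (J.mul_mem_left _ a)
  have hev : ∀ j : ℕ, ∀ l ∈ s, τ^[2 * j] l - l ∈ J := by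
    intro j
    induction j with
    | zero => intro l _; simp
    | succ j ih =>
      intro l hl
      have a := h2 _ (hs (2 * j) l hl)
      have b := ih l hl
      rw [show 2 * (j + 1) = (2 * j).succ.succ from rfl, Function.iterate_succ_apply',
        Function.iterate_succ_apply']
      have := J.add_mem a b
      rwa [sub_add_sub_cancel] at this
  obtain ⟨j, hj⟩ := hp
  have h := hev j (τ k) (hτs k hk)
  rw [← Function.iterate_succ_apply, show (2 * j).succ = p by omega, hord k hk] at h
  exact hne (by simpa using J.neg_mem h)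

omit [CommRing R] in
/-- The Frobenius fixes a ring generated by elements of order prime to `p`, so it is reduced. -/
theorem eq_zero_of_isNilpotent [CommRing R] {p f : ℕ} (hf : ∀ x : R, x ^ p ^ f = x) (hpf : 2 ≤ p ^ f)
    {x : R} (hx : IsNilpotent x) : x = 0 := by
  have h : ∀ i, x ^ (p ^ f) ^ i = x := by
    intro i
    induction i with
    | zero => simp
    | succ i ih => rw [pow_succ, pow_mul, ih, hf]
  obtain ⟨n, hn⟩ := hx
  rw [← h n]
  exact pow_eq_zero_of_le (Nat.lt_pow_self (by omega : 1 < p ^ f)).le hn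

section Ring

variable {A : Type*} [Ring A]

/-- Conjugation by a unit, given with its inverse. -/
def conjHom (g g' : A) (h1 : g * g' = 1) (h2 : g' * g = 1) : A →+* A where
  toFun x := g * x * g'
  map_one' := by rw [mul_one, h1]
  map_mul' x y := by
    have : g * (x * y) * g' = g * x * (g' * g) * y * g' := by rw [h2, mul_one, ← mul_assoc]
    rw [this]
    simp only [mul_assoc]
  map_zero' := by simp
  map_add' x y := by rw [mul_add, add_mul]

theorem iterate_conjHom (g g' : A) (h1 : g * g' = 1) (h2 : g' * g = 1) (x : A) (n : ℕ) :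
    (conjHom g g' h1 h2)^[n] x = g ^ n * x * g' ^ n := by
  induction n with
  | zero => simp
  | succ n ih =>
    rw [Function.iterate_succ_apply', ih, pow_succ' g, pow_succ g']
    show g * (g ^ n * x * g' ^ n) * g' = _
    simp only [mul_assoc]

theorem diff_pow_of_fixed (T : A →+* A) {b c : A} (hb : T b = b + c) (hc : T c = c) (hbc : Commute c b)
    (n : ℕ) :
    (∀ m < n, (T.toAddMonoidHom - AddMonoidHom.id A)^[n] (b ^ m) = 0) ∧
      (T.toAddMonoidHom - AddMonoidHom.id A)^[n] (b ^ n) = n.factorial • c ^ n := by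
  set D := T.toAddMonoidHom - AddMonoidHom.id A with hD
  have hDx : ∀ x, D x = T x - x := fun x => rfl
  have hlin : ∀ (j i : ℕ) (x : A), D^[i] (c ^ j * x) = c ^ j * D^[i] x := by
    intro j i x
    induction i with
    | zero => rfl
    | succ i ih =>
      rw [Function.iterate_succ_apply', ih, Function.iterate_succ_apply', hDx, hDx, map_mul, map_pow, hc,
        mul_sub]
  induction n with
  | zero => exact ⟨fun m hm => absurd hm (Nat.not_lt_zero m), by simp⟩
  | succ n ih =>
    refine ⟨fun m hm => ?_, ?_⟩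
    · rw [Function.iterate_succ_apply']
      rcases Nat.lt_succ_iff_lt_or_eq.mp hm with h | rfl
      · rw [ih.1 m h, map_zero]
      · rw [ih.2, map_nsmul, hDx, map_pow, hc, sub_self, nsmul_zero]
    · rw [Function.iterate_succ_apply]
      have e : D (b ^ (n + 1)) =
          ∑ j ∈ Finset.range (n + 1), (n + 1).choose (j + 1) • (c ^ (j + 1) * b ^ (n - j)) := by
        rw [hDx, map_pow, hb, add_comm b c, hbc.add_pow, Finset.sum_range_succ', sub_eq_iff_eq_add]
        simp [nsmul_eq_mul, Nat.cast_comm]
      have hsum : ∀ i (F : ℕ → A) (s : Finset ℕ), D^[i] (∑ j ∈ s, F j) = ∑ j ∈ s, D^[i] (F j) := by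
        intro i
        induction i with
        | zero => simp
        | succ i ih => intro F s; rw [Function.iterate_succ_apply, map_sum, ih]; rfl
      rw [e, hsum, Finset.sum_range_succ']
      rw [Finset.sum_eq_zero fun j hj => by
        rw [iterate_map_nsmul, hlin, ih.1 _ (by have := Finset.mem_range.mp hj; omega), mul_zero,
          nsmul_zero]]
      rw [zero_add, iterate_map_nsmul, hlin, Nat.sub_zero, ih.2, Nat.choose_one_right, pow_one,
        mul_smul_comm, smul_smul, ← pow_succ', Nat.factorial_succ]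

end Ring

section Main

variable {U : Type*} [AddCommGroup U] [Finite U]

/-- Some product of symmetric operators moves a fixed element along the longest orbit. -/
theorem exists_moved {p k m : ℕ} [Fact p.Prime] (hp : p ≠ 2) (hk : 0 < k) (hU : ∀ u : U, p • u = 0)
    (G G' : AddMonoid.End U) (hG1 : G * G' = 1) (hG2 : G' * G = 1) (hGp : G ^ p ^ k = 1)
    (K : Submonoid (AddMonoid.End U)) (hcomm : ∀ x ∈ K, ∀ y ∈ K, x * y = y * x) (hm0 : 0 < m)
    (hm : m.Coprime p) (hKm : ∀ x ∈ K, x ^ m = 1) (hnorm : ∀ x ∈ K, G * x * G' ∈ K)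
    (hmove : ∃ x ∈ K, G ^ p ^ (k - 1) * x ≠ x * G ^ p ^ (k - 1)) :
    ∃ u : U, ∃ a ∈ Subring.closure {y : AddMonoid.End U | ∃ x ∈ K, y = x + x ^ (m - 1)},
      G u = u ∧ ((G - 1) ^ ((p - 1) * p ^ (k - 1))) (a u) ≠ 0 := by
  classical
  have hpp : p.Prime := Fact.out
  obtain ⟨x₀, hx₀, hx₀m⟩ := hmove
  haveI : Nontrivial (AddMonoid.End U) := ⟨⟨_, _, hx₀m⟩⟩
  have hpE : (p : (AddMonoid.End U)) = 0 := by
    refine AddMonoidHom.ext fun u => ?_
    exact (AddMonoid.End.natCast_apply p u).trans (hU u)
  haveI : CharP (AddMonoid.End U) p := (CharP.charP_iff_prime_eq_zero hpp).mpr hpE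
  have hmulp : ∀ y : (AddMonoid.End U), p • y = 0 := fun y => by rw [nsmul_eq_mul, hpE, zero_mul]
  set q := p ^ (k - 1) with hq
  have hqp : q * p = p ^ k := by rw [hq, ← pow_succ, Nat.sub_add_cancel hk]
  set σ := conjHom G G' hG1 hG2 with hσ
  have hcG : Commute G G' := hG1.trans hG2.symm
  have h1 : G ^ q * G' ^ q = 1 := by rw [← hcG.mul_pow, hG1, one_pow]
  have h2 : G' ^ q * G ^ q = 1 := by rw [← hcG.symm.mul_pow, hG2, one_pow]
  set τ := conjHom (G ^ q) (G' ^ q) h1 h2 with hτ
  have hGp' : G' ^ p ^ k = 1 := by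
    have : G ^ p ^ k * G' ^ p ^ k = 1 := by rw [← hcG.mul_pow, hG1, one_pow]
    rwa [hGp, one_mul] at this
  have hσN : ∀ x, σ^[p ^ k] x = x := fun x => by
    rw [iterate_conjHom, hGp, hGp', one_mul, mul_one]
  have hτσ : ∀ x, τ x = σ^[q] x := fun x => (iterate_conjHom ..).symm
  have hστ : ∀ x ∈ K, σ^[q] x ∈ K := fun x hx => by
    refine Function.Iterate.rec (fun y => y ∈ K) hx (fun y hy => hnorm y hy) q
  -- the commutative ring generated by the group
  set S := Subring.closure (K : Set (AddMonoid.End U)) with hS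
  letI : CommRing S := Subring.closureCommRingOfComm hcomm
  have hScomm : ∀ x ∈ S, ∀ y ∈ S, Commute x y := fun x hx y hy =>
    congrArg Subtype.val (mul_comm (⟨x, hx⟩ : S) ⟨y, hy⟩)
  have hσS : ∀ x ∈ S, σ x ∈ S := fun x hx => by
    induction hx using Subring.closure_induction with
    | mem x hx => exact Subring.subset_closure (show σ x ∈ K from hnorm x hx)
    | zero => rw [map_zero]; exact S.zero_mem
    | one => rw [map_one]; exact S.one_mem
    | add x y _ _ hx hy => rw [map_add]; exact S.add_mem hx hy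
    | neg x _ hx => rw [map_neg]; exact S.neg_mem hx
    | mul x y _ _ hx hy => rw [map_mul]; exact S.mul_mem hx hy
  have hσSn : ∀ (n : ℕ), ∀ x ∈ S, σ^[n] x ∈ S := fun n x hx =>
    Function.Iterate.rec (fun y => y ∈ S) hx (fun y hy => hσS y hy) n
  set f := m.totient with hf
  have hpf : 2 ≤ p ^ f := le_trans hpp.two_le (Nat.le_self_pow (Nat.totient_pos.mpr hm0).ne' p)
  have hfix : ∀ x ∈ S, x ^ p ^ f = x := fun x hx => by
    induction hx using Subring.closure_induction with
    | mem x hx =>
      rw [pow_eq_pow_mod _ (hKm x hx), Nat.ModEq.pow_totient hm.symm, ← pow_eq_pow_mod _ (hKm x hx), pow_one]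
    | zero => exact zero_pow (by omega)
    | one => exact one_pow _
    | add x y hx hy hx' hy' => rw [add_pow_char_pow_of_commute p f (hScomm x hx y hy), hx', hy']
    | neg x hx hx' =>
      rw [neg_pow, hx', Odd.neg_one_pow ((hpp.odd_of_ne_two hp).pow), neg_one_mul]
    | mul x y hx hy hx' hy' => rw [(hScomm x hx y hy).mul_pow, hx', hy']
  have hfixS : ∀ x : S, x ^ p ^ f = x := fun x => Subtype.ext (by simpa using hfix x x.2)
  -- some symmetric generator moves
  set Gen := {y : (AddMonoid.End U) | ∃ x ∈ K, y = x + x ^ (m - 1)} with hGen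
  have hmoved : ∃ a ∈ Subring.closure Gen, τ a ≠ a := by
    by_contra! hall
    let τS : S →+* S := (τ.comp S.subtype).codRestrict S fun x => by
      rw [RingHom.comp_apply, hτσ]
      exact hσSn q _ x.2
    apply hx₀m
    have hin : x₀ ∈ S := Subring.subset_closure hx₀
    have hzero : τS ⟨x₀, hin⟩ - ⟨x₀, hin⟩ = 0 := by
      refine eq_zero_of_isNilpotent (f := f) hfixS hpf (nilpotent_iff_mem_prime.mpr fun J hJ => ?_)
      haveI := hJ
      refine fixed_mod_prime (p := p) (hpp.odd_of_ne_two hp) τS
        (K.comap (S.subtype : S →* (AddMonoid.End U))) (fun x => x ^ (m - 1)) (fun x hx => ?_) (fun x hx => ?_)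
        (fun x hx => ?_) (fun x hx => ?_) J hx₀
      · refine Subtype.ext ?_
        simp only [Subring.coe_mul, Subring.coe_pow, Subring.coe_one]
        rw [← pow_succ', Nat.sub_add_cancel hm0]
        exact hKm _ hx
      · show τ (x : (AddMonoid.End U)) ∈ K
        rw [hτσ]
        exact hστ _ hx
      · refine Subtype.ext ?_
        show τ ((x : (AddMonoid.End U)) + (x : (AddMonoid.End U)) ^ (m - 1)) = (x : (AddMonoid.End U)) + (x : (AddMonoid.End U)) ^ (m - 1)
        exact hall _ (Subring.subset_closure ⟨_, hx, rfl⟩)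
      · refine Subtype.ext ?_
        have e : ∀ j, ((τS^[j] x : S) : (AddMonoid.End U)) = τ^[j] (x : (AddMonoid.End U)) := by
          intro j
          induction j with
          | zero => rfl
          | succ j ih =>
            rw [Function.iterate_succ_apply', Function.iterate_succ_apply', ← ih]
            rfl
        rw [e, iterate_conjHom, ← pow_mul, ← pow_mul, hqp, hGp, hGp', one_mul, mul_one]
    have he : G ^ q * x₀ * G' ^ q = x₀ := congrArg Subtype.val (sub_eq_zero.mp hzero)
    conv_rhs => rw [← he]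
    rw [mul_assoc _ (G' ^ q), h2, mul_one]
  obtain ⟨a₀, ha₀, ha₀m⟩ := hmoved
  set P := Subring.closure Gen with hP
  have hPS : P ≤ S := by
    rw [hP, Subring.closure_le]
    rintro y ⟨x, hx, rfl⟩
    exact S.add_mem (Subring.subset_closure hx) (S.pow_mem (Subring.subset_closure hx) _)
  have hσP : ∀ x ∈ P, σ x ∈ P := fun x hx => by
    induction hx using Subring.closure_induction with
    | mem x hx =>
      obtain ⟨y, hy, rfl⟩ := hx
      exact Subring.subset_closure ⟨σ y, hnorm y hy, by rw [map_add, map_pow]⟩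
    | zero => rw [map_zero]; exact P.zero_mem
    | one => rw [map_one]; exact P.one_mem
    | add x y _ _ hx hy => rw [map_add]; exact P.add_mem hx hy
    | neg x _ hx => rw [map_neg]; exact P.neg_mem hx
    | mul x y _ _ hx hy => rw [map_mul]; exact P.mul_mem hx hy
  set D := τ.toAddMonoidHom - AddMonoidHom.id (AddMonoid.End U) with hD
  have hDP : ∀ x ∈ P, D x ∈ P := fun x hx => by
    show τ x - x ∈ P
    rw [hτσ]
    exact P.sub_mem (Function.Iterate.rec (fun y => y ∈ P) hx (fun y hy => hσP y hy) q) hx
  have hDp : ∀ x, D^[p] x = 0 := by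
    let Top : AddMonoid.End (AddMonoid.End U) := τ.toAddMonoidHom
    have hp2 : (p : AddMonoid.End (AddMonoid.End U)) = 0 := by
      refine AddMonoidHom.ext fun y => ?_
      exact (AddMonoid.End.natCast_apply p y).trans (hmulp y)
    haveI : Nontrivial (AddMonoid.End (AddMonoid.End U)) := ⟨⟨1, 0, fun e => one_ne_zero (α := (AddMonoid.End U)) (by
      simpa using DFunLike.congr_fun e (1 : (AddMonoid.End U)))⟩⟩
    haveI : CharP (AddMonoid.End (AddMonoid.End U)) p := (CharP.charP_iff_prime_eq_zero hpp).mpr hp2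
    intro x
    have e : ∀ n, D^[n] x = ((Top - 1) ^ n) x := by
      intro n
      induction n with
      | zero => rfl
      | succ n ih =>
        rw [Function.iterate_succ_apply', ih, pow_succ']
        rfl
    have eT : Top ^ p = 1 := by
      refine AddMonoidHom.ext fun y => ?_
      have : ∀ n, (Top ^ n) y = τ^[n] y := by
        intro n
        induction n with
        | zero => rfl
        | succ n ih => rw [Function.iterate_succ_apply', ← ih, pow_succ']; rfl
      refine (this p).trans ?_
      rw [iterate_conjHom, ← pow_mul, ← pow_mul, hqp, hGp, hGp', one_mul, mul_one]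
      rfl
    rw [e, sub_pow_char_of_commute p (Commute.one_right Top), eT, one_pow, sub_self]
    rfl
  have hex : ∃ n, D^[n] a₀ = 0 := ⟨p, hDp a₀⟩
  set n := Nat.find hex with hn
  have hnspec : D^[n] a₀ = 0 := Nat.find_spec hex
  have hn2 : 2 ≤ n := by
    by_contra! hlt
    apply ha₀m
    interval_cases n
    · simp only [Function.iterate_zero, id_eq] at hnspec
      rw [hnspec, map_zero]
    · exact sub_eq_zero.mp hnspec
  set b := D^[n - 2] a₀ with hb
  set c := D b with hc
  have hbP : b ∈ P := Function.Iterate.rec (fun y => y ∈ P) ha₀ (fun y hy => hDP y hy) (n - 2)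
  have hcP : c ∈ P := hDP b hbP
  have hce : D^[n - 1] a₀ = c := by
    rw [show n - 1 = (n - 2) + 1 by omega, Function.iterate_succ_apply']
  have hc0 : c ≠ 0 := hce ▸ Nat.find_min hex (by omega)
  have hDc : D c = 0 := by
    rw [← hce, ← Function.iterate_succ_apply' D, show (n - 1).succ = n by omega, hnspec]
  have hd : D^[p - 1] (b ^ (p - 1)) = (p - 1).factorial • c ^ (p - 1) :=
    (diff_pow_of_fixed τ (show τ b = b + c from (add_sub_cancel b (τ b)).symm) (sub_eq_zero.mp hDc)
      (hScomm c (hPS hcP) b (hPS hbP)) (p - 1)).2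
  set d := D^[p - 1] (b ^ (p - 1)) with hddef
  have hdP : d ∈ P := Function.Iterate.rec (fun y => y ∈ P) (P.pow_mem hbP _) (fun y hy => hDP y hy) (p - 1)
  have hd0 : d ≠ 0 := by
    intro e
    rw [hd] at e
    have hcp : c ^ (p - 1) = 0 := by
      have hco : (p - 1).factorial.Coprime p := (hpp.coprime_factorial_of_lt (by
        have := hpp.two_le; omega)).symm
      have := (addOrderOf_dvd_iff_nsmul_eq_zero.mpr e)
      exact AddMonoid.addOrderOf_eq_one_iff.mp (Nat.eq_one_of_dvd_coprimes hco this
        (addOrderOf_dvd_iff_nsmul_eq_zero.mpr (hmulp _)))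
    refine hc0 (congrArg Subtype.val (eq_zero_of_isNilpotent (f := f) hfixS hpf
      (x := (⟨c, hPS hcP⟩ : S)) ⟨p - 1, Subtype.ext (by simpa using hcp)⟩))
  -- a fixed element not killed by `d`
  set δ : (AddMonoid.End U) := G - 1 with hδ
  have hδN : δ ^ p ^ k = 0 := by
    rw [hδ, sub_pow_char_pow_of_commute p _ (Commute.one_right G), hGp, one_pow, sub_self]
  have hu : ∃ u : U, G u = u ∧ d u ≠ 0 := by
    by_contra! hall
    let dj : ℕ → S := fun j => ⟨σ^[j] d, hσSn j d (hPS hdP)⟩
    let e' : S := ∏ j ∈ Finset.range (p ^ k), (1 - dj j ^ (p ^ f - 1))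
    have hker : ∀ j, (e' : (AddMonoid.End U)) * σ^[j] d = 0 := by
      intro j
      have hmod : σ^[j] d = (dj (j % p ^ k) : (AddMonoid.End U)) := by
        show σ^[j] d = σ^[j % p ^ k] d
        conv_lhs => rw [← Nat.mod_add_div j (p ^ k), Function.iterate_add_apply, Function.iterate_mul,
          Function.iterate_fixed (hσN d)]
      have hz : (1 - dj (j % p ^ k) ^ (p ^ f - 1)) * dj (j % p ^ k) = 0 := by
        rw [sub_mul, one_mul, ← pow_succ, Nat.sub_add_cancel (by omega), hfixS, sub_self]
      have hdvd : (1 - dj (j % p ^ k) ^ (p ^ f - 1)) ∣ e' :=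
        Finset.dvd_prod_of_mem _ (Finset.mem_range.mpr (Nat.mod_lt _ (pow_pos hpp.pos k)))
      obtain ⟨r, hr⟩ := hdvd
      have : e' * dj (j % p ^ k) = 0 := by rw [hr, mul_right_comm, hz, zero_mul]
      rw [hmod]
      exact congrArg Subtype.val this
    let W : AddSubgroup U := AddSubgroup.closure {v | ∃ j w, v = (σ^[j] d) w}
    have hWG : ∀ v ∈ W, G v ∈ W := fun v hv => by
      induction hv using AddSubgroup.closure_induction with
      | mem v hv =>
        obtain ⟨j, w, rfl⟩ := hv
        refine AddSubgroup.subset_closure ⟨j + 1, G w, ?_⟩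
        rw [Function.iterate_succ_apply']
        show G ((σ^[j] d) w) = G ((σ^[j] d) ((G' * G) w))
        rw [hG2]
        rfl
      | zero => rw [map_zero]; exact W.zero_mem
      | add x y _ _ hx hy => rw [map_add]; exact W.add_mem hx hy
      | neg x _ hx => rw [map_neg]; exact W.neg_mem hx
    have hWe : ∀ v ∈ W, (e' : (AddMonoid.End U)) v = 0 := fun v hv => by
      induction hv using AddSubgroup.closure_induction with
      | mem v hv =>
        obtain ⟨j, w, rfl⟩ := hv
        show ((e' : (AddMonoid.End U)) * σ^[j] d) w = 0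
        rw [hker]
        rfl
      | zero => rw [map_zero]
      | add x y _ _ hx hy => rw [map_add, hx, hy, add_zero]
      | neg x _ hx => rw [map_neg, hx, neg_zero]
    obtain ⟨w, hw⟩ : ∃ w, d w ≠ 0 := by
      by_contra! h
      exact hd0 (AddMonoidHom.ext h)
    have hδW : ∀ i, (δ ^ i) (d w) ∈ W := by
      intro i
      induction i with
      | zero => exact AddSubgroup.subset_closure ⟨0, w, rfl⟩
      | succ i ih =>
        rw [pow_succ']
        show G ((δ ^ i) (d w)) - (δ ^ i) (d w) ∈ W
        exact W.sub_mem (hWG _ ih) ih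
    have hexi : ∃ i, (δ ^ i) (d w) = 0 := ⟨p ^ k, by rw [hδN]; rfl⟩
    set i := Nat.find hexi with hi
    obtain ⟨i', hi'⟩ := Nat.exists_eq_succ_of_ne_zero (n := i) fun h0 => hw (by
      have := Nat.find_spec hexi
      rwa [← hi, h0, pow_zero] at this)
    set u := (δ ^ i') (d w) with hudef
    have hu0 : u ≠ 0 := Nat.find_min hexi (by omega)
    have hGu : G u = u := sub_eq_zero.mp (by
      have := Nat.find_spec hexi
      rw [← hi, hi', pow_succ'] at this
      exact this)
    have hdu : ∀ j, (σ^[j] d) u = 0 := by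
      intro j
      induction j with
      | zero => exact hall u hGu
      | succ j ih =>
        rw [Function.iterate_succ_apply']
        show G ((σ^[j] d) (G' u)) = 0
        have hG'u : G' u = u := by
          conv_lhs => rw [← hGu]
          show (G' * G) u = u
          rw [hG2]; rfl
        rw [hG'u, ih, map_zero]
    have heu : ∀ N, ((∏ j ∈ Finset.range N, (1 - dj j ^ (p ^ f - 1)) : S) : (AddMonoid.End U)) u = u := by
      intro N
      induction N with
      | zero => simp
      | succ N ih =>
        rw [Finset.prod_range_succ, Subring.coe_mul]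
        show ((∏ j ∈ Finset.range N, (1 - dj j ^ (p ^ f - 1)) : S) : (AddMonoid.End U)) (((1 - dj N ^ (p ^ f - 1) : S) : (AddMonoid.End U)) u) = u
        have h0 : ((dj N ^ (p ^ f - 1) : S) : (AddMonoid.End U)) u = 0 := by
          rw [← Nat.sub_add_cancel (show 1 ≤ p ^ f - 1 by omega), pow_succ, Subring.coe_mul]
          show ((dj N ^ (p ^ f - 1 - 1) : S) : AddMonoid.End U) ((σ^[N] d) u) = 0
          rw [hdu, map_zero]
        have h1' : ((1 - dj N ^ (p ^ f - 1) : S) : (AddMonoid.End U)) u = u := by
          show (1 : (AddMonoid.End U)) u - ((dj N ^ (p ^ f - 1) : S) : (AddMonoid.End U)) u = u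
          rw [h0, sub_zero]
          rfl
        rw [h1', ih]
    exact hu0 (by rw [← heu (p ^ k)]; exact hWe u (hδW i'))
  obtain ⟨u, hGu, hdu⟩ := hu
  refine ⟨u, b ^ (p - 1), P.pow_mem hbP _, hGu, ?_⟩
  have hG'u : (G' ^ q) u = u := by
    have hq' : (G ^ q) u = u := by
      rw [AddMonoid.End.coe_pow]
      exact Function.iterate_fixed hGu q
    conv_lhs => rw [← hq']
    show (G' ^ q * G ^ q) u = u
    rw [h2]; rfl
  have key : ∀ i, (((G ^ q - 1) ^ i) ((b ^ (p - 1)) u)) = (D^[i] (b ^ (p - 1))) u := by
    intro i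
    induction i with
    | zero => rfl
    | succ i ih =>
      rw [pow_succ', Function.iterate_succ_apply']
      show (G ^ q) (((G ^ q - 1) ^ i) ((b ^ (p - 1)) u)) - ((G ^ q - 1) ^ i) ((b ^ (p - 1)) u) =
        (G ^ q) ((D^[i] (b ^ (p - 1))) ((G' ^ q) u)) - (D^[i] (b ^ (p - 1))) u
      rw [hG'u, ih]
  rw [mul_comm (p - 1), pow_mul, hq, sub_pow_char_pow_of_commute p _ (Commute.one_right G), one_pow, key]
  exact hdu

end Main

end Cfsg.Agent.H29.JAlg
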