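import Cfsg.Agent.H29.JThompsonGroup
import Cfsg.Agent.H73.PComplementEngel
import Cfsg.Agent.H34.QuadChain

/-!
The abelian Thompson subgroup and normal p-complements for p at least 5 (helper29).
-/

set_option autoImplicit false

namespace Cfsg.Agent.H29.JCrit

open Subgroup H73
open scoped commutatorElement

universe u

variable {p : ℕ} [Fact p.Prime]

/-- An abelian `p`-group with irreducible faithful coprime image gives a larger abelian subgroup. -/
theorem exists_larger_of_action {G : Type u} [Group G] [Finite G] {k m : ℕ} (hp : 5 ≤ p) (hk : 0 < k)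
    {Q O A : Subgroup G} [Q.Normal] [O.Normal] [IsMulCommutative A] (hQp : IsPGroup p Q)
    (hC : centralizer (Q : Set G) ≤ Q) (hOgen : O ≤ closure {x | x ∈ O ∧ (orderOf x).Coprime p})
    (hO' : ⁅O, O⁆ ≤ Q) (hm0 : 0 < m) (hm : m.Coprime p) (hOm : ∀ o ∈ O, o ^ m ∈ Q)
    {g : G} (hg : g ∈ A) (hgk : g ^ p ^ k ∈ Q) (hcyc : ∀ a ∈ A, ∃ i : ℕ, (g ^ i)⁻¹ * a ∈ Q)
    (hmove : ∃ o ∈ O, ⁅g ^ p ^ (k - 1), o⁆ ∉ Q)
    (hirr : ∀ N : Subgroup G, N.Normal → N ≤ O → ¬ N ≤ Q → O ≤ N ⊔ Q) :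
    ∃ E : Subgroup G, E ≤ A ⊔ Q ∧ IsMulCommutative E ∧ Nat.card A < Nat.card E := by
  have hpp : p.Prime := Fact.out
  have hcop1 : ∀ N : Subgroup G, IsPGroup p N → ∀ o : G, (orderOf o).Coprime p →
      (Nat.card (zpowers o)).Coprime (Nat.card N) := by
    intro N hN o ho
    obtain ⟨e, he⟩ := IsPGroup.iff_card.mp hN
    rw [Nat.card_zpowers, he]
    exact ho.pow_right e
  -- coprime action
  have hcoprime : ∀ B N : Subgroup G, IsPGroup p B → B.Normal → ⁅B, O⁆ ≤ N → ⁅N, O⁆ = ⊥ → ⁅B, O⁆ = ⊥ := by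
    intro B N hB hBn h1 h2
    rw [Subgroup.commutator_comm, Subgroup.commutator_eq_bot_iff_le_centralizer]
    refine hOgen.trans ((closure_le _).mpr ?_)
    rintro o ⟨ho, hoc⟩
    have hz : zpowers o ≤ O := zpowers_le.mpr ho
    refine H1.le_centralizer_of_commutator_le (A := zpowers o) (K := B) (N := N)
      (by rw [Subgroup.normalizer_eq_top]; exact le_top) (hcop1 B hB o hoc)
      (Or.inr (H79.isSolvable_pGroup hB)) ((commutator_mono le_rfl hz).trans h1)
      (le_bot_iff.mp ((commutator_mono le_rfl hz).trans h2.le)) (mem_zpowers o)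
  have hQO : ⁅Q, O⁆ ≠ ⊥ := by
    intro e
    rw [Subgroup.commutator_comm, Subgroup.commutator_eq_bot_iff_le_centralizer] at e
    obtain ⟨o, ho, hno⟩ := hmove
    refine hno ?_
    rw [commutatorElement_def]
    exact Q.mul_mem (‹Q.Normal›.conj_mem o (hC (e ho)) _) (Q.inv_mem (hC (e ho)))
  obtain ⟨B, ⟨hBn, hBQ, hBO⟩, hmin⟩ := Set.exists_min_image
    {B : Subgroup G | B.Normal ∧ B ≤ Q ∧ ⁅B, O⁆ ≠ ⊥} (fun B => Nat.card B) (Set.toFinite _)
    ⟨Q, ‹Q.Normal›, le_rfl, hQO⟩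
  haveI := hBn
  have hBp : IsPGroup p B := hQp.to_le hBQ
  set V := B ⊓ centralizer (O : Set G) with hV
  have hsmall : ∀ N : Subgroup G, N.Normal → N < B → N ≤ V := by
    intro N hN hlt
    refine le_inf hlt.le ?_
    rw [← Subgroup.commutator_eq_bot_iff_le_centralizer]
    by_contra hne
    exact (hmin N ⟨hN, hlt.le.trans hBQ, hne⟩).not_gt
      (lt_of_le_of_ne (card_le_of_le hlt.le) fun e => hlt.ne (eq_of_le_of_card_ge hlt.le e.ge))
  have hVO : ⁅V, O⁆ = ⊥ := Subgroup.commutator_eq_bot_iff_le_centralizer.mpr inf_le_right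
  haveI : (centralizer (O : Set G)).Normal := Subgroup.normal_centralizer
  haveI : V.Normal := Subgroup.normal_inf_normal _ _
  have hBne : B ≠ ⊥ := fun e => hBO (by rw [e, Subgroup.commutator_bot_left])
  have hBall : ⁅B, O⁆ = B := by
    by_contra hne
    have hlt : ⁅B, O⁆ < B := lt_of_le_of_ne (Subgroup.commutator_le_left B O) hne
    exact hBO (hcoprime B _ hBp inferInstance le_rfl (Subgroup.commutator_eq_bot_iff_le_centralizer.mpr
      ((hsmall _ (Subgroup.commutator_normal B O) hlt).trans inf_le_right)))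
  have hVlt : ¬ B ≤ V := fun h => hBO (Subgroup.commutator_eq_bot_iff_le_centralizer.mpr (h.trans inf_le_right))
  have hBQV : ⁅B, Q⁆ ≤ V := hsmall _ (Subgroup.commutator_normal B Q)
    (H1.commutator_lt_of_isPGroup hQp hBp (by rw [Subgroup.normalizer_eq_top]; exact le_top) hBne)
  have hBV : ⁅B, B⁆ ≤ V := (commutator_mono le_rfl hBQ).trans hBQV
  have hpow : ∀ b ∈ B, b ^ p ∈ V := by
    set π := QuotientGroup.mk' V with hπ
    have hπ1 : ∀ {y : G}, π y = 1 ↔ y ∈ V := QuotientGroup.eq_one_iff _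
    let W : Subgroup G :=
      { carrier := {b | b ∈ B ∧ π b ^ p = 1}
        one_mem' := ⟨B.one_mem, by simp⟩
        mul_mem' := fun {b c} hb hc => ⟨B.mul_mem hb.1 hc.1, by
          have hcomm : Commute (π b) (π c) := commutatorElement_eq_one_iff_commute.mp (by
            rw [← map_commutatorElement, hπ1]
            exact hBV (Subgroup.commutator_mem_commutator hb.1 hc.1))
          rw [map_mul, hcomm.mul_pow, hb.2, hc.2, one_mul]⟩
        inv_mem' := fun {b} hb => ⟨B.inv_mem hb.1, by rw [map_inv, inv_pow, hb.2, inv_one]⟩ }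
    have hWn : W.Normal := ⟨fun b hb y => ⟨hBn.conj_mem b hb.1 y, by
      rw [map_mul, map_mul, map_inv, conj_pow, hb.2, mul_one, mul_inv_cancel]⟩⟩
    rcases (show W ≤ B from fun b hb => hb.1).eq_or_lt with e | e
    · intro b hb
      rw [← hπ1, map_pow]
      exact (e.ge hb).2
    · exfalso
      obtain ⟨b, hb, hbV⟩ := SetLike.not_le_iff_exists.mp hVlt
      classical
      obtain ⟨n, hn⟩ := hBp ⟨b, hb⟩
      have hex : ∃ j, b ^ p ^ j ∈ V := ⟨n, by
        rw [show b ^ p ^ n = 1 from congrArg Subtype.val hn]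
        exact V.one_mem⟩
      obtain ⟨j, hj⟩ := Nat.exists_eq_succ_of_ne_zero (n := Nat.find hex) fun h0 => hbV (by
        simpa [h0] using Nat.find_spec hex)
      have hs := Nat.find_spec hex
      rw [hj, pow_succ, pow_mul] at hs
      exact Nat.find_min hex (show j < Nat.find hex by omega) (hsmall W hWn e ⟨B.pow_mem hb _, by
        rw [← map_pow]
        exact hπ1.mpr hs⟩)
  have hVc : ⁅V, B⁆ = ⊥ := by
    have hlt : ⁅V, B⁆ < B := lt_of_le_of_lt ((commutator_mono inf_le_left le_rfl).trans le_rfl)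
      (H1.commutator_lt_of_isPGroup hBp hBp Subgroup.le_normalizer hBne)
    have h1 : ⁅⁅V, B⁆, O⁆ = ⊥ := Subgroup.commutator_eq_bot_iff_le_centralizer.mpr
      ((hsmall _ (Subgroup.commutator_normal V B) hlt).trans inf_le_right)
    have h2 : ⁅⁅O, V⁆, B⁆ = ⊥ := by
      rw [Subgroup.commutator_comm O V, hVO, Subgroup.commutator_bot_left]
    have h3 := Subgroup.commutator_commutator_eq_bot_of_rotate (H₁ := B) (H₂ := O) (H₃ := V) h2 h1
    rw [hBall, Subgroup.commutator_comm] at h3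
    exact h3
  have hQtriv : ∀ q ∈ Q, ∀ b ∈ B, ⁅q, b⁆ ∈ V := fun q hq b hb =>
    hBQV (Subgroup.commutator_comm B Q ▸ Subgroup.commutator_mem_commutator hq hb)
  obtain ⟨o₀, ho₀, hno⟩ := hmove
  let F : Subgroup G := H73.factorCentralizer B V
  haveI : F.Normal := H73.factorCentralizer_normal
  have hFmem : ∀ y, y ∈ F ↔ ∀ b ∈ B, ⁅y, b⁆ ∈ V := fun y => by
    show (∀ b ∈ B, _) ↔ _
    refine forall₂_congr fun b _ => ?_
    first
      | exact Iff.rfl
      | rw [← commutatorElement_inv b y]; exact inv_mem_iff.symm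
  have hnoF : ⁅g ^ p ^ (k - 1), o₀⁆ ∉ F := by
    intro hF
    have hcO : ⁅g ^ p ^ (k - 1), o₀⁆ ∈ O := by
      rw [commutatorElement_def]
      exact O.mul_mem (‹O.Normal›.conj_mem o₀ ho₀ _) (O.inv_mem ho₀)
    have hle := hirr (F ⊓ O) (Subgroup.normal_inf_normal _ _) inf_le_right fun h => hno (h ⟨hF, hcO⟩)
    have hOF : O ≤ F := hle.trans (sup_le inf_le_left fun q hq => (hFmem q).mpr (hQtriv q hq))
    refine hBO (hcoprime B V hBp inferInstance ?_ hVO)
    rw [Subgroup.commutator_comm, Subgroup.commutator_le]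
    exact fun o ho b hb => (hFmem o).mp (hOF ho) b hb
  obtain ⟨E, hE, hEc, hlt⟩ := JGroup.exists_larger_abelian (A := A) (O := O) (g := g) (m := m) hp hk
    inf_le_left hBp hBV hpow hVc hVO (by rw [Subgroup.normalizer_eq_top]; exact le_top)
    (fun o ho o' ho' b hb => hQtriv _ (hO' (Subgroup.commutator_mem_commutator ho ho')) b hb) hm0 hm
    (fun o ho b hb => hQtriv _ (hOm o ho) b hb) hg (fun b hb => hQtriv _ hgk b hb)
    (fun a ha => let ⟨i, hi⟩ := hcyc a ha; ⟨i, fun b hb => hQtriv _ hi b hb⟩)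
    ⟨o₀, ho₀, by
      by_contra! h
      exact hnoF ((hFmem _).mpr h)⟩
  exact ⟨E, hE.trans (sup_le_sup_left hBQ A), hEc, hlt⟩

variable {Y : Type u} [Group Y] [Finite Y]

set_option maxHeartbeats 1600000 in
/-- In a constrained group with maximal Sylow subgroup and a normal `p`-complement above the core, the
abelian Thompson subgroup is normal when `p ≥ 5`. -/
theorem thompsonA_normal (hp5 : 5 ≤ p)
    (hC : Subgroup.centralizer ((Cfsg.pCore p Y : Subgroup Y) : Set Y) ≤ Cfsg.pCore p Y)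
    (hq : haveI := H1.pCore_normal' p Y; Cfsg.HasNormalPComplement p (Y ⧸ Cfsg.pCore p Y))
    (T : Sylow p Y) (hmax : IsCoatom (T : Subgroup Y)) :
    (Cfsg.thompsonSubgroupAOf (T : Subgroup Y)).Normal := by
  have hp : p.Prime := Fact.out
  set Q := Cfsg.pCore p Y with hQdef
  haveI hQn : Q.Normal := H1.pCore_normal' p Y
  have hQp : IsPGroup p Q := H1.isPGroup_pCore p Y
  have hQT : Q ≤ (T : Subgroup Y) := H1.pCore_le_sylow T
  by_cases hJ : Cfsg.thompsonSubgroupAOf (T : Subgroup Y) ≤ Q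
  · rw [H34.JA_eq_of_le hQT hJ]
    exact Subgroup.normalizer_eq_top_iff.mp (top_le_iff.mp
      ((Subgroup.normalizer_eq_top (H := Q)).ge.trans (H74.JA.normalizer_le_normalizer_JA Q)))
  exfalso
  obtain ⟨A', hA', hA'Q⟩ : ∃ A' ∈ Cfsg.maxAbelianSubgroups (T : Subgroup Y),
      ¬ A'.map (T : Subgroup Y).subtype ≤ Q := by
    by_contra! h
    exact hJ (Subgroup.map_le_iff_le_comap.mpr (sSup_le fun A hA => Subgroup.map_le_iff_le_comap.mp (h A hA)))
  set A := A'.map (T : Subgroup Y).subtype with hAdef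
  haveI hAc : IsMulCommutative A := H11.isMulCommutative_map hA'.1 _
  have hAT : A ≤ (T : Subgroup Y) := Subgroup.map_subtype_le _
  have hAmax : ∀ E : Subgroup Y, E ≤ (T : Subgroup Y) → IsMulCommutative E → Nat.card E ≤ Nat.card A := by
    intro E hET hE
    rw [hAdef, Subgroup.card_map_of_injective (Subgroup.subtype_injective _)]
    refine le_trans ?_ (hA'.2 (E.subgroupOf (T : Subgroup Y)) ?_)
    · rw [Nat.card_congr (Subgroup.subgroupOfEquivOfLe hET).toEquiv]
    · exact H11.isMulCommutative_of_commute fun a ha b hb =>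
        Subtype.ext (congrArg (fun v : E => (v : Y)) (hE.is_comm.comm (⟨(a : Y), ha⟩ : E) ⟨(b : Y), hb⟩))
  set π := QuotientGroup.mk' Q with hπ
  have hπs : Function.Surjective π := QuotientGroup.mk'_surjective Q
  have hπ1 : ∀ {x : Y}, π x = 1 ↔ x ∈ Q := QuotientGroup.eq_one_iff _
  set P' := T.mapSurjective hπs with hP'
  have hP'coe : (P' : Subgroup (Y ⧸ Q)) = (T : Subgroup Y).map π := Sylow.coe_mapSurjective _ _
  set K' := Cfsg.pResidual p (Y ⧸ Q) with hK'
  have hK'c : (Nat.card K').Coprime p := by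
    rw [Nat.coprime_comm, hp.coprime_iff_not_dvd]
    exact H5.hasNormalPComplement_iff_not_dvd.mp hq
  have hmin : ∀ L : Subgroup (Y ⧸ Q), L ≤ K' →
      (P' : Subgroup (Y ⧸ Q)) ≤ Subgroup.normalizer (L : Set (Y ⧸ Q)) → L ≠ K' → L = ⊥ := by
    intro L hL hLN hLne
    set M := (L ⊔ (P' : Subgroup (Y ⧸ Q))).comap π with hM
    have hPM : (T : Subgroup Y) ≤ M := by
      rw [hM, ← Subgroup.map_le_iff_le_comap, ← hP'coe]
      exact le_sup_right
    rcases hPM.eq_or_lt with e | hlt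
    · have hLp : IsPGroup p L := (T.2.map π).to_le (by
        rw [e, hM, Subgroup.map_comap_eq_self_of_surjective hπs]
        exact le_sup_left)
      exact eq_bot_iff.mpr fun x hx =>
        Subgroup.mem_bot.mpr (H79.inf_eq_one_of_coprime hK'c hLp (hL hx) hx)
    · exfalso
      refine hLne (le_antisymm hL fun k hk => ?_)
      obtain ⟨x, rfl⟩ := hπs k
      have hx : π x ∈ L ⊔ (P' : Subgroup (Y ⧸ Q)) := by
        have : x ∈ M := by rw [hmax.2 M hlt]; exact Subgroup.mem_top x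
        exact this
      obtain ⟨l, hl, s, hs, e⟩ := H1.exists_mul_of_mem_sup hLN hx
      rw [e] at hk ⊢
      have hs1 : s = 1 := H79.inf_eq_one_of_coprime hK'c P'.isPGroup'
        ((mul_mem_cancel_left (hL hl)).mp hk) hs
      rwa [hs1, mul_one]
  have hK'ab : ⁅K', K'⁆ = ⊥ := by
    by_cases hK'1 : K' = ⊥
    · rw [hK'1]; exact eq_bot_iff.mpr (Subgroup.commutator_le_self ⊥)
    set q := (Nat.card K').minFac with hqdef
    have hcard : Nat.card K' ≠ 1 := fun e => hK'1 (Subgroup.eq_bot_of_card_eq _ e)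
    haveI : Fact q.Prime := ⟨Nat.minFac_prime hcard⟩
    obtain ⟨a, ha⟩ := IsPGroup.iff_card.mp P'.isPGroup'
    obtain ⟨R, hR⟩ := H1.exists_invariant_sylow (A := (P' : Subgroup (Y ⧸ Q))) (K := K')
      (H79.le_normalizer_of_conj_mem fun g _ x hx => Subgroup.Normal.conj_mem inferInstance x hx g)
      (ha ▸ hK'c.symm.pow_left a) (Or.inl (H79.isSolvable_pGroup P'.isPGroup')) q
    have hR' : (R : Subgroup K').map K'.subtype = K' := by
      by_contra hne'
      have h1 := hmin _ (Subgroup.map_subtype_le _) hR hne'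
      rw [Subgroup.map_eq_bot_iff_of_injective _ K'.subtype_injective] at h1
      refine R.not_dvd_index ?_
      rw [h1, Subgroup.index_bot]
      exact Nat.minFac_dvd _
    have hKq : IsPGroup q K' := hR' ▸ R.isPGroup'.map _
    have hnil : Group.IsNilpotent K' := hKq.isNilpotent
    haveI : Nontrivial K' := (Subgroup.nontrivial_iff_ne_bot K').mpr hK'1
    have hlt : commutator K' < ⊤ := Group.IsSolvable.commutator_lt_top_of_nontrivial (G := K')
    refine hmin _ (Subgroup.commutator_le_self K') ?_ ?_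
    · rw [Subgroup.normalizer_eq_top]; exact le_top
    · intro e
      rw [← Subgroup.map_subtype_commutator K'] at e
      refine hlt.ne (eq_top_iff.mpr fun x _ => ?_)
      obtain ⟨y, hy, hyx⟩ := e.ge x.2
      exact Subtype.ext hyx ▸ hy
  -- an element of the abelian subgroup acting nontrivially
  set Ab := A.map π with hAb
  haveI hAbc : IsMulCommutative Ab := H11.isMulCommutative_map hAc _
  have hAbp : IsPGroup p Ab := (T.2.to_le hAT).map π
  have hKn : Ab ≤ Subgroup.normalizer (K' : Set (Y ⧸ Q)) := by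
    rw [Subgroup.normalizer_eq_top]; exact le_top
  have hnc : ¬ Ab ≤ Subgroup.centralizer (K' : Set (Y ⧸ Q)) := by
    intro hcen
    apply hA'Q
    set Z' := (P' : Subgroup (Y ⧸ Q)) ⊓ Subgroup.centralizer (K' : Set (Y ⧸ Q)) with hZ'
    have hPZ : (P' : Subgroup (Y ⧸ Q)) ≤ Subgroup.normalizer (Z' : Set (Y ⧸ Q)) := by
      intro t ht
      rw [mem_normalizer_iff_cj, hZ', cj_inf, cj_of_mem ht, cj_centralizer,
        mem_normalizer_iff_cj.mp (show t ∈ Subgroup.normalizer (K' : Set (Y ⧸ Q)) by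
          rw [Subgroup.normalizer_eq_top]; trivial)]
    have hKZ : K' ≤ Subgroup.normalizer (Z' : Set (Y ⧸ Q)) := by
      refine le_trans ?_ (Subgroup.centralizer_le_normalizer _)
      intro k hk
      rw [Subgroup.mem_centralizer_iff]
      intro z hz
      exact (Subgroup.mem_centralizer_iff.mp hz.2 k hk).symm
    have htop : (P' : Subgroup (Y ⧸ Q)) ⊔ K' = ⊤ :=
      eq_top_of_sylow_le_of_pPrime_mem P' le_sup_left fun x hx =>
        le_sup_right (a := (P' : Subgroup (Y ⧸ Q))) ((H5.mem_pResidual_iff hq).mpr hx)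
    haveI : Z'.Normal := Subgroup.normalizer_eq_top_iff.mp (top_le_iff.mp
      (htop.ge.trans (sup_le hPZ hKZ)))
    have h1 : Z' ≤ ⊥ := by
      rw [← H1.pCore_quotient_pCore p Y]
      exact H1.le_pCore (P'.2.to_le inf_le_left)
    intro a ha
    exact hπ1.mp (Subgroup.mem_bot.mp (h1 ⟨hP'coe ▸ ⟨a, hAT ha, rfl⟩, hcen ⟨a, ha, rfl⟩⟩))
  obtain ⟨K₁, ⟨hK₁le, hK₁n, hK₁c⟩, hmin₁⟩ := Set.exists_min_image
    {L : Subgroup (Y ⧸ Q) | L ≤ K' ∧ Ab ≤ Subgroup.normalizer (L : Set (Y ⧸ Q)) ∧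
      ¬ Ab ≤ Subgroup.centralizer (L : Set (Y ⧸ Q))} (fun L => Nat.card L) (Set.toFinite _)
    ⟨K', le_rfl, hKn, hnc⟩
  have hK₁c' : (Nat.card K₁).Coprime p := hK'c.coprime_dvd_left (Subgroup.card_dvd_of_le hK₁le)
  have hK₁ab : ∀ a ∈ K₁, ∀ b ∈ K₁, a * b = b * a := fun a ha b hb =>
    commutatorElement_eq_one_iff_mul_comm.mp (Subgroup.mem_bot.mp
      (hK'ab.le (Subgroup.commutator_mem_commutator (hK₁le ha) (hK₁le hb))))
  haveI : IsMulCommutative K₁ := H11.isMulCommutative_of_commute hK₁ab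
  have hcopA : (Nat.card Ab).Coprime (Nat.card K₁) := by
    obtain ⟨e, he⟩ := IsPGroup.iff_card.mp hAbp
    rw [he]
    exact hK₁c'.symm.pow_left e
  have hD : ⁅K₁, Ab⁆ = K₁ := by
    refine Subgroup.eq_of_le_of_card_ge (H1.commutator_le_left_of_le_normalizer hK₁n)
      (hmin₁ _ ⟨(H1.commutator_le_left_of_le_normalizer hK₁n).trans hK₁le,
        H1.right_le_normalizer_commutator, fun h => hK₁c ?_⟩)
    refine H1.le_centralizer_of_commutator_le hK₁n hcopA (Or.inl (H79.isSolvable_pGroup hAbp)) le_rfl ?_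
    rw [Subgroup.commutator_comm, Subgroup.commutator_eq_bot_iff_le_centralizer]
    exact h
  have hirr : ∀ L : Subgroup (Y ⧸ Q), L ≤ K₁ → Ab ≤ Subgroup.normalizer (L : Set (Y ⧸ Q)) →
      L = ⊥ ∨ L = K₁ := by
    intro L hL hLn
    by_cases hcc : Ab ≤ Subgroup.centralizer (L : Set (Y ⧸ Q))
    · left
      have hL2 : L ≤ ⁅K₁, Ab⁆ ⊓ Subgroup.centralizer (Ab : Set (Y ⧸ Q)) :=
        le_inf (hL.trans hD.ge) (Subgroup.le_centralizer_iff.mp hcc)
      rw [H1.commutator_inf_centralizer_eq_bot inferInstance hK₁n hcopA] at hL2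
      exact le_bot_iff.mp hL2
    · exact Or.inr (Subgroup.eq_of_le_of_card_ge hL (hmin₁ L ⟨hL.trans hK₁le, hLn, hcc⟩))
  -- the image of the abelian subgroup on the minimal subgroup is cyclic
  letI : CommGroup K₁ := { (inferInstance : Group K₁) with mul_comm := mul_comm' }
  haveI : Nontrivial K₁ := (Subgroup.nontrivial_iff_ne_bot K₁).mpr fun e => hK₁c (by
    rw [e]; intro x _; rw [Subgroup.mem_centralizer_iff]; intro y hy
    rw [Subgroup.mem_bot.mp hy, one_mul, mul_one])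
  let cj : Ab →* AddMonoid.End (Additive K₁) :=
    { toFun := fun a => MonoidHom.toAdditive
        { toFun := fun x => ⟨(a : Y ⧸ Q) * x * (a : Y ⧸ Q)⁻¹, (Subgroup.mem_normalizer_iff.mp (hK₁n a.2) x).mp x.2⟩
          map_one' := Subtype.ext (by simp)
          map_mul' := fun x y => Subtype.ext (by simp [mul_assoc]) }
      map_one' := AddMonoidHom.ext fun x => Additive.toMul.injective (Subtype.ext (by
        show (1 : Y ⧸ Q) * _ * (1 : Y ⧸ Q)⁻¹ = _
        simp only [one_mul, inv_one, mul_one]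
        rfl))
      map_mul' := fun a b => AddMonoidHom.ext fun x => Additive.toMul.injective (Subtype.ext (by
        show ((a : Y ⧸ Q) * b) * ((x.toMul : K₁) : Y ⧸ Q) * ((a : Y ⧸ Q) * b)⁻¹ =
          (a : Y ⧸ Q) * ((b : Y ⧸ Q) * ((x.toMul : K₁) : Y ⧸ Q) * (b : Y ⧸ Q)⁻¹) * (a : Y ⧸ Q)⁻¹
        group)) }
  set R := Subring.closure (Set.range cj) with hR
  letI : CommRing R := Subring.closureCommRingOfComm (by
    rintro _ ⟨a, rfl⟩ _ ⟨b, rfl⟩
    rw [← map_mul, ← map_mul, show a * b = b * a from mul_comm' a b])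
  haveI : Nontrivial R := ⟨⟨1, 0, fun e => by
    obtain ⟨x, hx⟩ := exists_ne (0 : Additive K₁)
    exact hx (DFunLike.congr_fun (congrArg Subtype.val e) x)⟩⟩
  have hinjR : ∀ r : R, r ≠ 0 → ∀ x, (r : AddMonoid.End (Additive K₁)) x = 0 → x = 0 := by
    intro r hr x hx
    let L : Subgroup (Y ⧸ Q) := (AddSubgroup.toSubgroup' (AddMonoidHom.ker (r : AddMonoid.End (Additive K₁)))).map K₁.subtype
    have hLn : Ab ≤ Subgroup.normalizer (L : Set (Y ⧸ Q)) := by
      intro a ha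
      refine Subgroup.mem_normalizer_fintype ?_
      rintro _ ⟨y, hy, rfl⟩
      refine ⟨(cj ⟨a, ha⟩ (Additive.ofMul y)).toMul, ?_, rfl⟩
      show (r : AddMonoid.End (Additive K₁)) (cj ⟨a, ha⟩ (Additive.ofMul y)) = 0
      have e : (r : AddMonoid.End (Additive K₁)) * cj ⟨a, ha⟩ = cj ⟨a, ha⟩ * r :=
        congrArg Subtype.val (mul_comm r (⟨cj ⟨a, ha⟩, Subring.subset_closure ⟨_, rfl⟩⟩ : R))
      show ((r : AddMonoid.End (Additive K₁)) * cj ⟨a, ha⟩) (Additive.ofMul y) = 0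
      rw [e]
      show cj ⟨a, ha⟩ ((r : AddMonoid.End (Additive K₁)) (Additive.ofMul y)) = 0
      rw [show (r : AddMonoid.End (Additive K₁)) (Additive.ofMul y) = 0 from hy, map_zero]
    rcases hirr L (Subgroup.map_subtype_le _) hLn with e | e
    · have : ((x.toMul : K₁) : Y ⧸ Q) ∈ L := ⟨x.toMul, hx, rfl⟩
      rw [e, Subgroup.mem_bot] at this
      exact Additive.toMul.injective (Subtype.ext this)
    · exfalso
      refine hr (Subtype.ext (AddMonoidHom.ext fun y => ?_))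
      obtain ⟨z, hz, hzy⟩ := e.ge (y.toMul : K₁).2
      rw [show y = Additive.ofMul z from Additive.toMul.injective (Subtype.ext hzy.symm)]
      exact hz
  haveI : NoZeroDivisors R := ⟨fun {r s} h => or_iff_not_imp_left.mpr fun hr => Subtype.ext
    (AddMonoidHom.ext fun x => hinjR r hr _ (DFunLike.congr_fun (congrArg Subtype.val h) x))⟩
  haveI : IsDomain R := NoZeroDivisors.to_isDomain R
  let cjR : Ab →* R :=
    { toFun := fun a => ⟨cj a, Subring.subset_closure ⟨a, rfl⟩⟩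
      map_one' := Subtype.ext (map_one cj)
      map_mul' := fun a b => Subtype.ext (map_mul cj a b) }
  let ψ := cjR.toHomUnits
  haveI : Finite ψ.range := Finite.of_surjective _ ψ.rangeRestrict_surjective
  haveI : IsCyclic ψ.range := isCyclic_of_subgroup_isDomain ((Units.coeHom R).comp ψ.range.subtype)
    (Units.val_injective.comp Subtype.val_injective)
  obtain ⟨γ, hγ⟩ := IsCyclic.exists_monoid_generator (α := ψ.range)
  obtain ⟨⟨_, g, hgA, rfl⟩, hgγ⟩ := MonoidHom.rangeRestrict_surjective ψ γ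
  set gb : Ab := ⟨π g, g, hgA, rfl⟩ with hgb
  have hker : ∀ a : Ab, ψ a = 1 ↔ (a : Y ⧸ Q) ∈ Subgroup.centralizer (K₁ : Set (Y ⧸ Q)) := by
    intro a
    constructor
    · intro h
      rw [Subgroup.mem_centralizer_iff]
      intro x hx
      have h1 : cj a (Additive.ofMul ⟨x, hx⟩) = Additive.ofMul ⟨x, hx⟩ := by
        have := congrArg (fun w : Rˣ => ((w : R) : AddMonoid.End (Additive K₁))) h
        exact DFunLike.congr_fun this _
      have h2 : (a : Y ⧸ Q) * x * (a : Y ⧸ Q)⁻¹ = x :=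
        congrArg (fun w : Additive K₁ => ((w.toMul : K₁) : Y ⧸ Q)) h1
      exact (mul_inv_eq_iff_eq_mul.mp h2).symm
    · intro h
      refine Units.ext (Subtype.ext (AddMonoidHom.ext fun x => Additive.toMul.injective (Subtype.ext ?_)))
      show (a : Y ⧸ Q) * ((x.toMul : K₁) : Y ⧸ Q) * (a : Y ⧸ Q)⁻¹ = ((x.toMul : K₁) : Y ⧸ Q)
      exact mul_inv_eq_of_eq_mul (Subgroup.mem_centralizer_iff.mp h _ (x.toMul : K₁).2).symm
  have hgen : ∀ a : Ab, ∃ i : ℕ, ψ a = ψ gb ^ i := by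
    intro a
    obtain ⟨i, hi⟩ := Submonoid.mem_powers_iff _ _ |>.mp (hγ ⟨ψ a, a, rfl⟩)
    exact ⟨i, by rw [← hgγ] at hi; exact (congrArg Subtype.val hi).symm⟩
  obtain ⟨k, hk⟩ : ∃ k, orderOf (ψ gb) = p ^ k := by
    obtain ⟨e, he⟩ := hAbp gb
    obtain ⟨k, -, hk⟩ := (Nat.dvd_prime_pow hp).mp (orderOf_dvd_of_pow_eq_one
      (show ψ gb ^ p ^ e = 1 by rw [← map_pow, he, map_one]))
    exact ⟨k, hk⟩
  have hk0 : 0 < k := by
    rcases Nat.eq_zero_or_pos k with rfl | h
    · refine absurd (fun a ha => ?_) hK₁c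
      obtain ⟨i, hi⟩ := hgen ⟨a, ha⟩
      rw [pow_zero, orderOf_eq_one_iff] at hk
      rw [hk, one_pow] at hi
      exact (hker ⟨a, ha⟩).mp hi
    · exact h
  -- the subgroup `Z = π⁻¹(K₁) A`
  set Kh := K₁.comap π with hKh
  set Z := Kh ⊔ A with hZdef
  have hQKh : Q ≤ Kh := fun x hx => by
    show π x ∈ K₁
    rw [hπ1.mpr hx]
    exact K₁.one_mem
  have hAKh : A ≤ Subgroup.normalizer (Kh : Set Y) := fun a ha => by
    rw [Subgroup.mem_normalizer_iff]
    intro x
    show π x ∈ K₁ ↔ π (a * x * a⁻¹) ∈ K₁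
    rw [map_mul, map_mul, map_inv]
    exact Subgroup.mem_normalizer_iff.mp (hK₁n ⟨a, ha, rfl⟩) (π x)
  set f : Z →* Y ⧸ Q := π.comp Z.subtype with hf
  have hf1 : ∀ {z : Z}, f z = 1 ↔ (z : Y) ∈ Q := hπ1
  have hfrange : ∀ z : Z, ∃ c ∈ K₁, ∃ a ∈ Ab, f z = c * a := fun z => by
    obtain ⟨c, hc, a, ha, e⟩ := H1.exists_mul_of_mem_sup hAKh z.2
    exact ⟨π c, hc, π a, ⟨a, ha, rfl⟩, by rw [← map_mul, ← e]; rfl⟩
  set C₁ := Ab ⊓ Subgroup.centralizer (K₁ : Set (Y ⧸ Q)) with hC₁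
  have hRn : ((C₁).comap f).Normal := ⟨fun r hr z => by
    obtain ⟨c, hc, a, ha, e⟩ := hfrange z
    show f (z * r * z⁻¹) ∈ C₁
    obtain ⟨hr1, hr2⟩ := (hr : f r ∈ C₁)
    have e1 : a * f r = f r * a := congrArg Subtype.val (mul_comm' (⟨a, ha⟩ : Ab) ⟨_, hr1⟩)
    have e2 : c * f r = f r * c := Subgroup.mem_centralizer_iff.mp hr2 c hc
    rw [map_mul, map_mul, map_inv, e,
      show c * a * f r = f r * (c * a) by rw [mul_assoc, e1, ← mul_assoc, e2, mul_assoc], mul_inv_cancel_right]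
    exact ⟨hr1, hr2⟩⟩
  have hRp : IsPGroup p ((C₁).comap f) := by
    refine H11.isPGroup_of_forall_coprime fun z hz hzo => ?_
    have h1 : f z = 1 := H11.eq_one_of_mem_pGroup_coprime hAbp hz.1
      (hzo.coprime_dvd_left (orderOf_map_dvd f z))
    exact Subtype.ext (H11.eq_one_of_mem_pGroup_coprime hQp (hf1.mp h1) (by rwa [Subgroup.orderOf_coe]))
  haveI := hRn
  set QZ := Cfsg.pCore p Z with hQZdef
  haveI : QZ.Normal := H1.pCore_normal' p Z
  have hQZp : IsPGroup p QZ := H1.isPGroup_pCore p Z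
  have hker' : ∀ z : Z, f z ∈ C₁ → z ∈ QZ := fun z hz => H1.le_pCore hRp hz
  have hQQZ : ∀ z : Z, (z : Y) ∈ Q → z ∈ QZ := fun z hz => hker' z (by
    rw [hf1.mpr hz]; exact C₁.one_mem)
  have hQZK : ∀ z : Z, z ∈ QZ → f z ∈ K₁ → (z : Y) ∈ Q := fun z hz hzK => hf1.mp
    (H79.inf_eq_one_of_coprime hK₁c' (hQZp.map f) hzK ⟨z, hz, rfl⟩)
  set O : Subgroup Z := Subgroup.closure {z : Z | f z ∈ K₁ ∧ (orderOf z).Coprime p} with hO
  have hOK : ∀ z ∈ O, f z ∈ K₁ := fun z hz => by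
    have : O ≤ K₁.comap f := (Subgroup.closure_le _).mpr fun w hw => hw.1
    exact this hz
  have hOn : O.Normal := by
    refine Subgroup.normalizer_eq_top_iff.mp (top_le_iff.mp fun z _ => ?_)
    refine Subgroup.mem_normalizer_fintype fun w hw => ?_
    have : O ≤ O.comap (MulAut.conj z).toMonoidHom := (Subgroup.closure_le _).mpr fun v hv => by
      refine Subgroup.subset_closure ⟨?_, ?_⟩
      · obtain ⟨c, hc, a, ha, e⟩ := hfrange z
        show f (z * v * z⁻¹) ∈ K₁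
        rw [map_mul, map_mul, map_inv, e, show c * a * f v * (c * a)⁻¹ = c * (a * f v * a⁻¹) * c⁻¹ by group]
        exact K₁.mul_mem (K₁.mul_mem hc ((Subgroup.mem_normalizer_iff.mp (hK₁n ha) _).mp hv.1)) (K₁.inv_mem hc)
      · show (orderOf ((MulAut.conj z) v)).Coprime p
        rw [MulEquiv.orderOf_eq]
        exact hv.2
    exact this hw
  haveI := hOn
  have hOonto : ∀ c ∈ K₁, ∃ z ∈ O, f z = c := by
    intro c hc
    obtain ⟨y, rfl⟩ := hπs c
    set z : Z := ⟨y, Subgroup.mem_sup_left (show y ∈ Kh from hc)⟩ with hz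
    obtain ⟨e, he⟩ := H75.exists_pow_coprime (p := p) z
    obtain ⟨t, ht⟩ := exists_pow_eq_self_of_coprime (x := π y) (n := p ^ e)
      ((hK₁c'.symm.pow_left e).coprime_dvd_right (by
        rw [← Subgroup.orderOf_mk (π y) hc]; exact orderOf_dvd_natCard _))
    refine ⟨(z ^ p ^ e) ^ t, O.pow_mem (Subgroup.subset_closure ⟨?_, he⟩) t, ?_⟩
    · rw [map_pow]; exact K₁.pow_mem hc _
    · rw [map_pow, map_pow]; exact ht
  set AZ := A.subgroupOf Z with hAZ
  haveI : IsMulCommutative AZ := H11.isMulCommutative_of_commute fun a ha b hb =>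
    Subtype.ext (congrArg (fun v : A => (v : Y)) (hAc.is_comm.comm (⟨(a : Y), ha⟩ : A) ⟨(b : Y), hb⟩))
  set gz : Z := ⟨g, Subgroup.mem_sup_right hgA⟩ with hgz
  have hmap_comm : ∀ z w : Z, f z ∈ K₁ → f w ∈ K₁ → ⁅z, w⁆ ∈ QZ := fun z w hz hw => hQQZ _ (hf1.mp (by
    rw [map_commutatorElement, commutatorElement_eq_one_iff_mul_comm]
    exact hK₁ab _ hz _ hw))
  obtain ⟨o, ho, hno⟩ : ∃ o ∈ O, ⁅gz ^ p ^ (k - 1), o⁆ ∉ QZ := by
    by_contra! hall
    have h1 : ψ (gb ^ p ^ (k - 1)) = 1 := by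
      rw [hker, Subgroup.mem_centralizer_iff]
      intro c hc
      obtain ⟨o, ho, rfl⟩ := hOonto c hc
      have hin : f ⁅gz ^ p ^ (k - 1), o⁆ ∈ K₁ := by
        rw [map_commutatorElement, commutatorElement_def]
        exact K₁.mul_mem ((Subgroup.mem_normalizer_iff.mp (hK₁n (gb ^ p ^ (k - 1)).2) _).mp (hOK o ho))
          (K₁.inv_mem (hOK o ho))
      have h2 := hf1.mpr (hQZK _ (hall o ho) hin)
      rw [map_commutatorElement, commutatorElement_eq_one_iff_mul_comm] at h2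
      exact h2.symm
    rw [map_pow] at h1
    have h2 := orderOf_dvd_of_pow_eq_one h1
    rw [hk] at h2
    have := (Nat.pow_dvd_pow_iff_le_right hp.one_lt).mp h2
    omega
  obtain ⟨E, hE, hEc, hlt⟩ := exists_larger_of_action (G := Z) (Q := QZ) (O := O) (A := AZ) (g := gz)
    (m := Nat.card K₁) hp5 hk0 hQZp
    (fun z hz => hQQZ z (hC (by
      rw [Subgroup.mem_centralizer_iff]
      intro q hq
      exact congrArg Subtype.val (Subgroup.mem_centralizer_iff.mp hz ⟨q, Subgroup.mem_sup_left (hQKh hq)⟩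
        (hQQZ _ hq)))))
    ((Subgroup.closure_le _).mpr fun z hz =>
      Subgroup.subset_closure ⟨Subgroup.subset_closure hz, hz.2⟩)
    (Subgroup.commutator_le.mpr fun z hz w hw => hmap_comm z w (hOK z hz) (hOK w hw)) Nat.card_pos hK₁c'
    (fun z hz => hQQZ _ (hf1.mp (by
      rw [map_pow]
      exact congrArg Subtype.val (pow_card_eq_one' (G := K₁) (x := ⟨f z, hOK z hz⟩)))))
    (show (gz : Y) ∈ A from hgA)
    (hker' _ (by
      rw [show f (gz ^ p ^ k) = ((gb ^ p ^ k : Ab) : Y ⧸ Q) by rw [map_pow, Subgroup.coe_pow]; rfl]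
      refine ⟨(gb ^ p ^ k).2, (hker _).mp ?_⟩
      rw [map_pow, ← hk, pow_orderOf_eq_one]))
    (fun a ha => by
      let ab : Ab := ⟨π a, (a : Y), ha, rfl⟩
      obtain ⟨i, hi⟩ := hgen ab
      refine ⟨i, hker' _ ?_⟩
      rw [show f ((gz ^ i)⁻¹ * a) = (((gb ^ i)⁻¹ * ab : Ab) : Y ⧸ Q) by
        rw [map_mul, map_inv, map_pow, Subgroup.coe_mul, Subgroup.coe_inv, Subgroup.coe_pow]; rfl]
      refine ⟨((gb ^ i)⁻¹ * ab).2, (hker _).mp ?_⟩
      rw [map_mul, map_inv, map_pow, hi, inv_mul_cancel])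
    ⟨o, ho, hno⟩
    (fun N hN hNO hNQ => by
      have hn : Ab ≤ Subgroup.normalizer ((N.map f : Subgroup (Y ⧸ Q)) : Set (Y ⧸ Q)) := by
        rintro _ ⟨a, ha, rfl⟩
        refine Subgroup.mem_normalizer_fintype ?_
        rintro _ ⟨n, hn, rfl⟩
        exact ⟨⟨a, Subgroup.mem_sup_right ha⟩ * n * ⟨a, Subgroup.mem_sup_right ha⟩⁻¹, hN.conj_mem n hn _,
          by rw [map_mul, map_mul, map_inv]; rfl⟩
      rcases hirr (N.map f) (by rintro _ ⟨n, hn', rfl⟩; exact hOK n (hNO hn')) hn with e | e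
      · exact absurd (fun n hn' => hQQZ n (hf1.mp (Subgroup.mem_bot.mp (e.le ⟨n, hn', rfl⟩)))) hNQ
      · intro z hz
        obtain ⟨n, hn', hnz⟩ := e.ge (hOK z hz)
        rw [← mul_inv_cancel_left n z]
        refine Subgroup.mul_mem_sup hn' (hQQZ _ (hf1.mp ?_))
        rw [map_mul, map_inv, hnz, inv_mul_cancel])
  have hET : E.map Z.subtype ≤ (T : Subgroup Y) := by
    refine (Subgroup.map_mono hE).trans ?_
    rw [Subgroup.map_sup]
    refine sup_le ((Subgroup.map_subgroupOf_eq_of_le le_sup_right).le.trans hAT) ?_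
    rintro _ ⟨z, hz, rfl⟩
    obtain ⟨c, hc, a, ha, e⟩ := H1.exists_mul_of_mem_sup hAKh z.2
    set az : Z := ⟨a, Subgroup.mem_sup_right ha⟩
    have hp' : IsPGroup p ((QZ ⊔ AZ : Subgroup Z).map f) := (IsPGroup.to_sup_of_normal_left' hQZp
      ((T.2.to_le hAT).comap_of_injective _ Z.subtype_injective)
      (by rw [Subgroup.normalizer_eq_top]; exact le_top)).map f
    have h1 : f (z * az⁻¹) = π c := by
      show π ((z : Y) * a⁻¹) = π c
      rw [e, mul_inv_cancel_right]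
    have h2 : π c = 1 := H79.inf_eq_one_of_coprime hK₁c' hp' hc
      ⟨z * az⁻¹, Subgroup.mul_mem_sup hz (inv_mem (show (az : Y) ∈ A from ha)), h1⟩
    show (z : Y) ∈ (T : Subgroup Y)
    rw [e]
    exact mul_mem (hQT (hπ1.mp h2)) (hAT ha)
  have h := hAmax _ hET (H11.isMulCommutative_map hEc _)
  rw [Subgroup.card_map_of_injective Z.subtype_injective] at h
  rw [Nat.card_congr (Subgroup.subgroupOfEquivOfLe (show A ≤ Z from le_sup_right)).toEquiv] at hlt
  omega

theorem thompsonA_isCharPFunctor :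
    Cfsg.IsCharPFunctor.{u} p (fun (Q : Type u) [Group Q] => Cfsg.thompsonSubgroupA Q) := by
  refine ⟨fun Q _ _ _ hne h => ?_, fun Q R _ _ _ _ φ => H74.JA.map_thompsonSubgroupA φ⟩
  have h1 : Cfsg.thompsonSubgroupAOf (⊤ : Subgroup Q) ≠ ⊥ := H74.JA.JA_ne_bot (top_ne_bot (α := Subgroup Q))
  apply h1
  show (Cfsg.thompsonSubgroupA (⊤ : Subgroup Q)).map (⊤ : Subgroup Q).subtype = ⊥
  rw [← H74.JA.map_thompsonSubgroupA (Subgroup.topEquiv (G := Q)).symm]
  change Cfsg.thompsonSubgroupA Q = ⊥ at h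
  rw [h, Subgroup.map_bot, Subgroup.map_bot]

/-- Thompson's criterion for `p ≥ 5`: a normal `p`-complement in `N(J(S))` gives one in the group. -/
theorem pnil_of_thompsonA {G : Type u} [Group G] [Finite G] (hp : 5 ≤ p) (S : Sylow p G)
    (hN : Cfsg.HasNormalPComplement p
      ↥(Subgroup.normalizer ((Cfsg.thompsonSubgroupAOf (S : Subgroup G) : Subgroup G) : Set G))) :
    Cfsg.HasNormalPComplement p G :=
  H73.pnil_of_functor thompsonA_isCharPFunctor
    (fun X _ _ _ hc hq T hmax => thompsonA_normal hp hc hq T hmax) S hN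

end Cfsg.Agent.H29.JCrit
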