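import Cfsg.Agent.H29.JThompsonAlg
import Mathlib.GroupTheory.Index

/-!
A larger abelian subgroup from an isotropic orbit (helper29).
-/

set_option autoImplicit false

namespace Cfsg.Agent.H29.JGroup

open Subgroup
open scoped commutatorElement

variable {G : Type*} [Group G] [Finite G]

/-- Replacement is strict when the commutators with `x` miss some coset. -/
theorem strict_replacement {A : Subgroup G} [IsMulCommutative A] {x : G}
    (M : Subgroup G) (hM : M = closure {u : G | ∃ a ∈ A, ⁅x, a⁆ = u}) [IsMulCommutative M]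
    (hns : ∃ m ∈ M, ∀ a ∈ A, ⁅x, a⁆⁻¹ * m ∉ A) :
    IsMulCommutative (M ⊔ (A ⊓ centralizer (M : Set G)) : Subgroup G) ∧
      Nat.card A < Nat.card (M ⊔ (A ⊓ centralizer (M : Set G)) : Subgroup G) := by
  subst hM
  set M : Subgroup G := closure {u : G | ∃ a ∈ A, ⁅x, a⁆ = u}
  set C : Subgroup G := A ⊓ centralizer (M : Set G) with hC
  have hcomm : IsMulCommutative (M ⊔ C : Subgroup G) := by
    rw [← le_centralizer_iff_isMulCommutative]
    refine sup_le ?_ ?_
    · rw [le_centralizer_iff]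
      exact sup_le (le_centralizer M) inf_le_right
    · rw [le_centralizer_iff]
      exact sup_le (le_centralizer_iff.mp inf_le_right)
        (le_centralizer_iff.mp (inf_le_left.trans ((le_centralizer A).trans
          (centralizer_le (inf_le_left : C ≤ A)))))
  refine ⟨hcomm, ?_⟩
  haveI : IsMulCommutative M := inferInstance
  have hgen : ∀ a : A, ⁅x, (a : G)⁆ ∈ M := fun a => subset_closure ⟨a, a.2, rfl⟩
  have hcA : ∀ u v : G, u ∈ A → v ∈ A → u * v = v * u := fun u v hu hv =>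
    mem_centralizer_iff.mp (le_centralizer A hv) u hu
  have hcM : ∀ u v : G, u ∈ M → v ∈ M → u * v = v * u := fun u v hu hv =>
    mem_centralizer_iff.mp (le_centralizer M hv) u hu
  let ψ : A → M ⧸ A.subgroupOf M := fun a => QuotientGroup.mk ⟨⁅x, (a : G)⁆, hgen a⟩
  have hfib : ∀ a b : A, ψ a = ψ b → ((b⁻¹ * a : A) : G) ∈ C := by
    intro a b hab
    have hk : (⁅x, (b : G)⁆)⁻¹ * ⁅x, (a : G)⁆ ∈ A := by
      have h0 := QuotientGroup.eq.mp hab.symm
      exact h0
    refine ⟨(b⁻¹ * a).2, ?_⟩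
    change ((b⁻¹ * a : A) : G) ∈ centralizer (M : Set G)
    have hs : M ≤ centralizer ((zpowers ((b⁻¹ * a : A) : G) : Subgroup G) : Set G) := by
      rw [closure_le]
      rintro _ ⟨c, hc, rfl⟩
      refine mem_centralizer_iff.mpr ?_
      suffices h : ((b⁻¹ * a : A) : G) * ⁅x, c⁆ = ⁅x, c⁆ * ((b⁻¹ * a : A) : G) by
        intro z hz
        obtain ⟨n, rfl⟩ := hz
        exact (Commute.zpow_left h n)
      have key : ∀ d : A, c * ⁅x, (d : G)⁆ * c⁻¹ * (⁅x, (d : G)⁆)⁻¹ =
          (⁅x, c⁆)⁻¹ * ((d : G) * ⁅x, c⁆ * (d : G)⁻¹) := by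
        intro d
        have e1 : ⁅x, c * d⁆ = ⁅x, c⁆ * (c * ⁅x, (d : G)⁆ * c⁻¹) := by
          simp [commutatorElement_def, mul_assoc]
        have e2 : ⁅x, (d : G) * c⁆ = ⁅x, (d : G)⁆ * ((d : G) * ⁅x, c⁆ * (d : G)⁻¹) := by
          simp [commutatorElement_def, mul_assoc]
        rw [hcA c d hc d.2] at e1
        have mx : ⁅x, c⁆ ∈ M := hgen ⟨c, hc⟩
        have m1 : c * ⁅x, (d : G)⁆ * c⁻¹ ∈ M := by
          have e : c * ⁅x, (d : G)⁆ * c⁻¹ = (⁅x, c⁆)⁻¹ * ⁅x, (d : G) * c⁆ := by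
            rw [e1, inv_mul_cancel_left]
          rw [e]
          exact M.mul_mem (M.inv_mem mx) (subset_closure ⟨_, A.mul_mem d.2 hc, rfl⟩)
        have m2 : (d : G) * ⁅x, c⁆ * (d : G)⁻¹ ∈ M := by
          have e : (d : G) * ⁅x, c⁆ * (d : G)⁻¹ = (⁅x, (d : G)⁆)⁻¹ * ⁅x, (d : G) * c⁆ := by
            rw [e2, inv_mul_cancel_left]
          rw [e]
          exact M.mul_mem (M.inv_mem (hgen d)) (subset_closure ⟨_, A.mul_mem d.2 hc, rfl⟩)
        have e3 := e1.symm.trans e2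
        rw [hcM _ _ (hgen d) m2] at e3
        have e4 : c * ⁅x, (d : G)⁆ * c⁻¹ =
            (⁅x, c⁆)⁻¹ * ((d : G) * ⁅x, c⁆ * (d : G)⁻¹ * ⁅x, (d : G)⁆) := by
          rw [← e3, inv_mul_cancel_left]
        rw [e4]
        simp only [mul_assoc, mul_inv_cancel, mul_one]
      set k := (⁅x, (b : G)⁆)⁻¹ * ⁅x, (a : G)⁆ with hk'
      have ea : ⁅x, (a : G)⁆ = ⁅x, (b : G)⁆ * k := by rw [hk', mul_inv_cancel_left]
      have ck : c * k * c⁻¹ = k := by rw [hcA c k hc hk, mul_inv_cancel_right]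
      have e5 : c * ⁅x, (a : G)⁆ * c⁻¹ * (⁅x, (a : G)⁆)⁻¹ =
          c * ⁅x, (b : G)⁆ * c⁻¹ * (⁅x, (b : G)⁆)⁻¹ := by
        rw [ea]
        calc c * (⁅x, (b : G)⁆ * k) * c⁻¹ * (⁅x, (b : G)⁆ * k)⁻¹
            = (c * ⁅x, (b : G)⁆ * c⁻¹) * (c * k * c⁻¹) * (⁅x, (b : G)⁆ * k)⁻¹ := by
              simp [mul_assoc]
          _ = c * ⁅x, (b : G)⁆ * c⁻¹ * (⁅x, (b : G)⁆)⁻¹ := by
              rw [ck]; simp [mul_assoc]
      rw [key a, key b, mul_right_inj] at e5
      calc ((b⁻¹ * a : A) : G) * ⁅x, c⁆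
          = (b : G)⁻¹ * ((a : G) * ⁅x, c⁆ * (a : G)⁻¹) * (a : G) := by simp [mul_assoc]
        _ = ⁅x, c⁆ * ((b⁻¹ * a : A) : G) := by rw [e5]; simp [mul_assoc]
    exact (le_centralizer_iff.mp hs) (mem_zpowers _)
  obtain ⟨m, hm, hmiss⟩ := hns
  have hlt : Nat.card (Set.range ψ) < Nat.card (M ⧸ A.subgroupOf M) := by
    have h := Set.ncard_lt_ncard (s := Set.range ψ) (t := Set.univ)
      ⟨Set.subset_univ _, fun h => by
        obtain ⟨a, ha⟩ := h (Set.mem_univ (QuotientGroup.mk ⟨m, hm⟩))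
        exact hmiss a a.2 (Subgroup.mem_subgroupOf.mp (QuotientGroup.eq.mp (show (QuotientGroup.mk ⟨⁅x, (a : G)⁆, hgen a⟩ : M ⧸ A.subgroupOf M) = QuotientGroup.mk ⟨m, hm⟩ from ha)))⟩
    rwa [← Nat.card_coe_set_eq, Set.ncard_univ] at h
  let r : Set.range ψ → A := fun y => Classical.choose y.2
  have hr : ∀ y : Set.range ψ, ψ (r y) = y := fun y => Classical.choose_spec y.2
  have hinj : Nat.card A ≤ Nat.card (Set.range ψ) * Nat.card C := by
    rw [← Nat.card_prod]
    refine Nat.card_le_card_of_injective (fun a => ((⟨ψ a, a, rfl⟩ : Set.range ψ),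
      (⟨(((r ⟨ψ a, a, rfl⟩)⁻¹ * a : A) : G), hfib a _ (hr ⟨ψ a, a, rfl⟩).symm⟩ : C))) ?_
    intro a b hab
    simp only [Prod.mk.injEq, Subtype.mk.injEq] at hab
    obtain ⟨h1, h2⟩ := hab
    have e : (⟨ψ a, a, rfl⟩ : Set.range ψ) = ⟨ψ b, b, rfl⟩ := h1
    rw [e] at h2
    exact mul_left_cancel (Subtype.ext h2)
  have hMA : M ⊓ A = M ⊓ C := by
    apply le_antisymm
    · exact le_inf inf_le_left (le_inf inf_le_right (inf_le_left.trans (le_centralizer M)))
    · exact inf_le_inf_left _ inf_le_left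
  have h1 : A.relIndex M = C.relIndex M := by
    rw [← inf_relIndex_right A M, ← inf_relIndex_right C M, inf_comm, hMA, inf_comm]
  have h2 : C.relIndex M ≤ C.relIndex (M ⊔ C) :=
    relIndex_le_of_le_right le_sup_left Subgroup.index_ne_zero_of_finite
  calc Nat.card A ≤ Nat.card (Set.range ψ) * Nat.card C := hinj
    _ < A.relIndex M * Nat.card C := Nat.mul_lt_mul_of_pos_right hlt Nat.card_pos
    _ ≤ C.relIndex (M ⊔ C) * Nat.card C := Nat.mul_le_mul (h1 ▸ h2) le_rfl
    _ = Nat.card (M ⊔ C : Subgroup G) := by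
      rw [mul_comm, ← relIndex_bot_left, ← relIndex_bot_left (H := M ⊔ C)]
      exact relIndex_mul_relIndex _ _ _ bot_le le_sup_right

/-- Levels of a nilpotent operator along an orbit. -/
theorem pow_le_card_of_level {U : Type*} [AddCommGroup U] [Finite U] {p : ℕ} [Fact p.Prime]
    (hU : ∀ u : U, p • u = 0) (δ : AddMonoid.End U) (D : AddSubgroup U) (X : U) (n : ℕ)
    (hD : ∀ j, (δ ^ (j + 1)) X ∈ D) (hn : ∃ N, (δ ^ N) X = 0) (hX : (δ ^ n) X ≠ 0) :
    p ^ (n - 1) * Nat.card {v : D // δ (v : U) = 0} ≤ Nat.card D := by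
  classical
  have hp : p.Prime := Fact.out
  let N := Nat.find hn
  have hN : (δ ^ N) X = 0 := Nat.find_spec hn
  have hlt : n < N := by
    by_contra! h
    apply hX
    rw [← Nat.sub_add_cancel h, pow_add]
    show (δ ^ (n - N)) ((δ ^ N) X) = 0
    rw [hN, map_zero]
  let L : ℕ → AddSubgroup U := fun i => D ⊓ AddMonoidHom.ker (δ ^ i : AddMonoid.End U)
  have hpg : ∀ H : AddSubgroup U, ∃ e, Nat.card H = p ^ e := fun H => by
    have h : IsPGroup p (Multiplicative H) := fun x => ⟨1, by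
      rw [pow_one]
      exact congrArg Multiplicative.ofAdd (Subtype.ext (hU (x.toAdd : U)))⟩
    obtain ⟨e, he⟩ := IsPGroup.iff_card.mp h
    exact ⟨e, (Nat.card_congr Multiplicative.toAdd).symm.trans he⟩
  have hmono : ∀ i, L i ≤ L (i + 1) := fun i v hv => ⟨hv.1, by
    show (δ ^ (i + 1)) v = 0
    rw [pow_succ']
    show δ ((δ ^ i) v) = 0
    rw [show (δ ^ i) v = 0 from hv.2, map_zero]⟩
  have hstep : ∀ i, 1 ≤ i → i + 2 ≤ N → p * Nat.card (L i) ≤ Nat.card (L (i + 1)) := by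
    intro i hi hiN
    have hne : L i ≠ L (i + 1) := by
      intro e
      have hmem : (δ ^ (N - (i + 1))) X ∈ L (i + 1) := by
        refine ⟨?_, ?_⟩
        · rw [show N - (i + 1) = (N - (i + 1) - 1) + 1 by omega]
          exact hD _
        · show (δ ^ (i + 1) * δ ^ (N - (i + 1))) X = 0
          rw [← pow_add, Nat.add_sub_cancel' (by omega), hN]
      rw [← e] at hmem
      have h0 : (δ ^ i * δ ^ (N - (i + 1))) X = 0 := hmem.2
      rw [← pow_add] at h0
      exact Nat.find_min hn (show i + (N - (i + 1)) < N by omega) h0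
    have hsub := (hmono i).lt_of_ne hne
    obtain ⟨a, ha⟩ := hpg (L i)
    obtain ⟨b, hb⟩ := hpg (L (i + 1))
    have hc : Nat.card (L i) < Nat.card (L (i + 1)) := Set.ncard_lt_ncard hsub (Set.toFinite _)
    rw [ha, hb] at hc ⊢
    rw [← pow_succ']
    exact Nat.pow_le_pow_right hp.pos ((Nat.pow_lt_pow_iff_right hp.one_lt).mp hc)
  have hall : ∀ j, j + 2 ≤ N → p ^ j * Nat.card (L 1) ≤ Nat.card (L (1 + j)) := by
    intro j
    induction j with
    | zero => intro _; simp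
    | succ j ih =>
      intro hj
      calc p ^ (j + 1) * Nat.card (L 1) = p * (p ^ j * Nat.card (L 1)) := by rw [pow_succ']; ring
        _ ≤ p * Nat.card (L (1 + j)) := Nat.mul_le_mul_left p (ih (by omega))
        _ ≤ _ := hstep (1 + j) (by omega) (by omega)
  have e1 : Nat.card (L 1) = Nat.card {v : D // δ (v : U) = 0} :=
    Nat.card_congr
      { toFun := fun v => ⟨⟨v, v.2.1⟩, (pow_one δ ▸ v.2.2 : δ (v : U) = 0)⟩
        invFun := fun v => ⟨v.1, v.1.2, (pow_one δ).symm ▸ v.2⟩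
        left_inv := fun _ => rfl
        right_inv := fun _ => rfl }
  rw [← e1]
  rcases Nat.eq_zero_or_pos n with rfl | hn0
  · rw [Nat.zero_sub, pow_zero, one_mul]
    exact AddSubgroup.card_le_of_le inf_le_left
  · exact (hall (n - 1) (by omega)).trans (AddSubgroup.card_le_of_le inf_le_left)

/-- A coprime abelian action on a central class-two section normalized nontrivially by `A` gives a larger abelian
subgroup inside `A ⊔ B`. -/
theorem exists_larger_abelian {p k m : ℕ} [Fact p.Prime] (hp : 5 ≤ p) (hk : 0 < k)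
    {B V A O : Subgroup G} [B.Normal] [V.Normal] [IsMulCommutative A] (hVB : V ≤ B) (hBp : IsPGroup p B)
    (hBV : ⁅B, B⁆ ≤ V) (hpow : ∀ b ∈ B, b ^ p ∈ V) (hVc : ⁅V, B⁆ = ⊥) (hVO : ⁅V, O⁆ = ⊥)
    (hAO : A ≤ normalizer (O : Set G))
    (hOc : ∀ o ∈ O, ∀ o' ∈ O, ∀ b ∈ B, ⁅⁅o, o'⁆, b⁆ ∈ V) (hm0 : 0 < m) (hm : m.Coprime p)
    (hOm : ∀ o ∈ O, ∀ b ∈ B, ⁅o ^ m, b⁆ ∈ V) {g : G} (hg : g ∈ A)
    (hgk : ∀ b ∈ B, ⁅g ^ p ^ k, b⁆ ∈ V)
    (hcyc : ∀ a ∈ A, ∃ i : ℕ, ∀ b ∈ B, ⁅(g ^ i)⁻¹ * a, b⁆ ∈ V)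
    (hmove : ∃ o ∈ O, ∃ b ∈ B, ⁅⁅g ^ p ^ (k - 1), o⁆, b⁆ ∉ V) :
    ∃ E : Subgroup G, E ≤ A ⊔ B ∧ IsMulCommutative E ∧ Nat.card A < Nat.card E := by
  classical
  have hpp : p.Prime := Fact.out
  set ρ := QuotientGroup.mk' V with hρ
  have hρ1 : ∀ {y : G}, ρ y = 1 ↔ y ∈ V := QuotientGroup.eq_one_iff _
  set Bb := B.map ρ with hBb
  haveI : Bb.Normal := Subgroup.Normal.map inferInstance ρ (QuotientGroup.mk'_surjective _)
  haveI hBc : IsMulCommutative Bb := ⟨⟨fun a b => by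
    obtain ⟨u, hu, hu'⟩ := a.2
    obtain ⟨v, hv, hv'⟩ := b.2
    apply Subtype.ext
    show (a : G ⧸ V) * b = b * a
    rw [← hu', ← hv', ← commutatorElement_eq_one_iff_mul_comm, ← map_commutatorElement, hρ1]
    exact hBV (Subgroup.commutator_mem_commutator hu hv)⟩⟩
  letI : CommGroup Bb := { (inferInstance : Group Bb) with mul_comm := mul_comm' }
  let toEnd : MulAut Bb →* AddMonoid.End (Additive Bb) :=
    { toFun := fun e => MonoidHom.toAdditive e.toMonoidHom
      map_one' := rfl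
      map_mul' := fun _ _ => rfl }
  let φ : G →* AddMonoid.End (Additive Bb) := toEnd.comp ((MulAut.conjNormal).comp ρ)
  let val : Additive Bb → G ⧸ V := fun u => ((u.toMul : Bb) : G ⧸ V)
  have hval : ∀ u v, val u = val v → u = v := fun u v h =>
    Additive.toMul.injective (Subtype.ext h)
  have hφv : ∀ (y : G) (u), val (φ y u) = ρ y * val u * (ρ y)⁻¹ :=
    fun y u => MulAut.conjNormal_apply (ρ y) u.toMul
  have hadd : ∀ u v, val (u + v) = val u * val v := fun _ _ => rfl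
  have hsub : ∀ u v, val (u - v) = val u / val v := fun _ _ => rfl
  have hlift : ∀ u, ∃ b ∈ B, ρ b = val u := fun u => u.toMul.2
  have hfix : ∀ y : G, (∀ b ∈ B, ⁅y, b⁆ ∈ V) ↔ φ y = 1 := by
    intro y
    constructor
    · intro h
      refine AddMonoidHom.ext fun u => hval _ _ ?_
      obtain ⟨b, hb, hbu⟩ := hlift u
      refine (hφv y u).trans ?_
      show ρ y * val u * (ρ y)⁻¹ = val u
      rw [mul_inv_eq_iff_eq_mul, ← hbu, ← commutatorElement_eq_one_iff_mul_comm, ← map_commutatorElement,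
        hρ1]
      exact h b hb
    · intro h b hb
      have h1 := hφv y (Additive.ofMul ⟨ρ b, b, hb, rfl⟩)
      rw [h] at h1
      rw [← hρ1, map_commutatorElement, commutatorElement_eq_one_iff_mul_comm]
      exact (mul_inv_eq_iff_eq_mul.mp h1.symm)
  -- the ring-theoretic orbit
  have hU : ∀ u : Additive Bb, p • u = 0 := by
    intro u
    obtain ⟨b, hb, hbu⟩ := hlift u
    refine hval _ _ ?_
    show ((u.toMul ^ p : Bb) : G ⧸ V) = 1
    rw [Subgroup.coe_pow, show ((u.toMul : Bb) : G ⧸ V) = ρ b from hbu.symm, ← map_pow, hρ1]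
    exact hpow b hb
  have hinj : ∀ x y : G, φ x * φ y = φ (x * y) := fun x y => (map_mul φ x y).symm
  set G₁ := φ g with hG₁
  set K := O.toSubmonoid.map φ with hK
  have hKcomm : ∀ x ∈ K, ∀ y ∈ K, x * y = y * x := by
    rintro _ ⟨o, ho, rfl⟩ _ ⟨o', ho', rfl⟩
    rw [hinj, hinj, show o * o' = ⁅o, o'⁆ * (o' * o) by simp [commutatorElement_def, mul_assoc], map_mul,
      (hfix _).mp (hOc o ho o' ho'), one_mul]
  have hKm : ∀ x ∈ K, x ^ m = 1 := by
    rintro _ ⟨o, ho, rfl⟩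
    rw [← map_pow]
    exact (hfix _).mp (hOm o ho)
  have hKn : ∀ x ∈ K, G₁ * x * φ g⁻¹ ∈ K := by
    rintro _ ⟨o, ho, rfl⟩
    refine ⟨g * o * g⁻¹, (Subgroup.mem_normalizer_iff.mp (hAO hg) o).mp ho, ?_⟩
    rw [map_mul, map_mul]
  obtain ⟨u, a, ha, hGu, hau⟩ := JAlg.exists_moved (p := p) (k := k) (m := m) (by omega) hk hU G₁ (φ g⁻¹)
    (by rw [hinj, mul_inv_cancel, map_one]) (by rw [hinj, inv_mul_cancel, map_one])
    (by rw [← map_pow]; exact (hfix _).mp hgk) K hKcomm hm0 hm hKm hKn (by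
      obtain ⟨o, ho, b, hb, hnot⟩ := hmove
      refine ⟨φ o, ⟨o, ho, rfl⟩, fun e => hnot ((hfix _).mpr ?_ b hb)⟩
      rw [← map_pow, hinj, hinj] at e
      rw [commutatorElement_def, mul_assoc _ _ o⁻¹, ← hinj, e, hinj,
        show o * g ^ p ^ (k - 1) * ((g ^ p ^ (k - 1))⁻¹ * o⁻¹) = 1 by group, map_one])
  set P := Subring.closure {y : AddMonoid.End (Additive Bb) | ∃ x ∈ K, y = x + x ^ (m - 1)} with hP
  -- the commutator pairing
  let lift : Additive Bb → G := fun w => Classical.choose (hlift w)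
  have hliftB : ∀ w, lift w ∈ B := fun w => (Classical.choose_spec (hlift w)).1
  have hliftv : ∀ w, ρ (lift w) = val w := fun w => (Classical.choose_spec (hlift w)).2
  let β : Additive Bb → Additive Bb → G := fun v w => ⁅lift v, lift w⁆
  have hcen : ∀ z ∈ V, ∀ b ∈ B, z * b = b * z := fun z hz b hb =>
    commutatorElement_eq_one_iff_mul_comm.mp
      (Subgroup.mem_bot.mp (hVc.le (Subgroup.commutator_mem_commutator hz hb)))
  have hcomV : ∀ b ∈ B, ∀ c ∈ B, ⁅b, c⁆ ∈ V := fun b hb c hc => hBV (Subgroup.commutator_mem_commutator hb hc)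
  have hcl : ∀ b ∈ B, ∀ c ∈ B, ∀ z ∈ V, ⁅b * z, c⁆ = ⁅b, c⁆ := by
    intro b _ c hc z hz
    have e : ⁅b * z, c⁆ = b * (z * c * z⁻¹) * b⁻¹ * c⁻¹ := by simp [commutatorElement_def, mul_assoc]
    rw [e, hcen z hz c hc, mul_inv_cancel_right]
    rfl
  have hwd : ∀ b ∈ B, ∀ c ∈ B, ∀ v w, ρ b = val v → ρ c = val w → β v w = ⁅b, c⁆ := by
    intro b hb c hc v w hv hw
    have h1 : b⁻¹ * lift v ∈ V := by rw [← hρ1, map_mul, map_inv, hliftv, hv, inv_mul_cancel]
    have h2 : c⁻¹ * lift w ∈ V := by rw [← hρ1, map_mul, map_inv, hliftv, hw, inv_mul_cancel]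
    have e1 : β v w = ⁅b, lift w⁆ := by
      have := hcl b hb _ (hliftB w) _ h1
      rwa [mul_inv_cancel_left] at this
    rw [e1, ← commutatorElement_inv, ← commutatorElement_inv c b, inv_inj]
    have := hcl c hc b hb _ h2
    rwa [mul_inv_cancel_left] at this
  have hβl : ∀ v v' w, β (v + v') w = β v w * β v' w := by
    intro v v' w
    rw [hwd _ (mul_mem (hliftB v) (hliftB v')) _ (hliftB w) (v + v') w
      (by rw [map_mul, hliftv, hliftv, hadd]) (hliftv w)]
    have e : ⁅lift v * lift v', lift w⁆ = lift v * ⁅lift v', lift w⁆ * (lift v)⁻¹ * ⁅lift v, lift w⁆ := by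
      simp [commutatorElement_def, mul_assoc]
    rw [e, ← hcen _ (hcomV _ (hliftB v') _ (hliftB w)) _ (hliftB v), mul_inv_cancel_right]
    exact hcen _ (hcomV _ (hliftB v') _ (hliftB w)) _ (Subgroup.commutator_le_self B
      (Subgroup.commutator_mem_commutator (hliftB v) (hliftB w)))
  have hβswap : ∀ v w, β w v = (β v w)⁻¹ := fun v w => (commutatorElement_inv _ _).symm
  have hβr : ∀ v w w', β v (w + w') = β v w * β v w' := by
    intro v w w'
    rw [hβswap (w + w') v, hβl, mul_inv_rev, ← hβswap, ← hβswap]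
    exact hcen _ (hcomV _ (hliftB v) _ (hliftB w')) _ (Subgroup.commutator_le_self B
      (Subgroup.commutator_mem_commutator (hliftB v) (hliftB w)))
  have hβ0l : ∀ w, β 0 w = 1 := fun w => by
    have := hβl 0 0 w
    rwa [add_zero, left_eq_mul] at this
  have hβ0r : ∀ w, β w 0 = 1 := fun w => by rw [hβswap, hβ0l, inv_one]
  have hinvar : ∀ x ∈ K, ∀ v w, β (x v) (x w) = β v w := by
    rintro _ ⟨o, ho, rfl⟩ v w
    have hconj : ∀ w, ρ (o * lift w * o⁻¹) = val (φ o w) := fun w => by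
      rw [hφv, map_mul, map_mul, map_inv, hliftv]
    rw [hwd _ (‹B.Normal›.conj_mem _ (hliftB v) o) _ (‹B.Normal›.conj_mem _ (hliftB w) o) _ _
      (hconj v) (hconj w), show ⁅o * lift v * o⁻¹, o * lift w * o⁻¹⁆ = o * β v w * o⁻¹ by
        simp only [β, commutatorElement_def]; group]
    have e : β v w * o = o * β v w := commutatorElement_eq_one_iff_mul_comm.mp (Subgroup.mem_bot.mp
      (hVO.le (Subgroup.commutator_mem_commutator (hcomV _ (hliftB v) _ (hliftB w)) ho)))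
    rw [← e]
    exact mul_inv_cancel_right _ _
  have hgen : ∀ x ∈ K, ∀ v w, β (x v) w = β v ((x ^ (m - 1)) w) ∧ β ((x ^ (m - 1)) v) w = β v (x w) := by
    intro x hx v w
    have hxi : ∀ z, x ((x ^ (m - 1)) z) = z := fun z => by
      show (x * x ^ (m - 1)) z = z
      rw [← pow_succ', Nat.sub_add_cancel hm0, hKm x hx]
      rfl
    constructor
    · conv_lhs => rw [← hxi w]
      exact hinvar x hx _ _
    · conv_rhs => rw [← hxi v]
      exact (hinvar x hx _ _).symm.trans rfl |>.trans (by rw [hxi])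
  have hKS : ∀ x ∈ K, ∀ y ∈ K, (x + x ^ (m - 1)) * (y + y ^ (m - 1)) =
      (y + y ^ (m - 1)) * (x + x ^ (m - 1)) := by
    intro x hx y hy
    have e : ∀ s ∈ K, ∀ t ∈ K, Commute s t := fun s hs t ht => hKcomm s hs t ht
    exact ((Commute.add_left (e x hx y hy) (e _ (K.pow_mem hx _) y hy)).add_right
      (Commute.add_left (e x hx _ (K.pow_mem hy _)) (e _ (K.pow_mem hx _) _ (K.pow_mem hy _)))).eq
  letI : CommRing P := Subring.closureCommRingOfComm (by
    rintro _ ⟨x, hx, rfl⟩ _ ⟨y, hy, rfl⟩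
    exact hKS x hx y hy)
  have hadj : ∀ s ∈ P, ∀ v w, β (s v) w = β v (s w) := fun s hs => by
    induction hs using Subring.closure_induction with
    | mem s hs =>
      obtain ⟨x, hx, rfl⟩ := hs
      intro v w
      show β (x v + (x ^ (m - 1)) v) w = β v (x w + (x ^ (m - 1)) w)
      rw [hβl, hβr, (hgen x hx v w).1, (hgen x hx v w).2]
      exact hcen _ (hcomV _ (hliftB _) _ (hliftB _)) _ (Subgroup.commutator_le_self B
        (Subgroup.commutator_mem_commutator (hliftB _) (hliftB _)))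
    | zero => intro v w; exact (hβ0l w).trans (hβ0r v).symm
    | one => exact fun v w => rfl
    | add s t _ _ hs ht =>
      intro v w
      show β (s v + t v) w = β v (s w + t w)
      rw [hβl, hβr, hs, ht]
    | neg s _ hs =>
      intro v w
      show β (-(s v)) w = β v (-(s w))
      have e1 := hβl (s v) (-(s v)) w
      have e2 := hβr v (s w) (-(s w))
      rw [add_neg_cancel, hβ0l, hs] at e1
      rw [add_neg_cancel, hβ0r] at e2
      exact mul_left_cancel (e1.symm.trans e2)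
    | mul s t hs' ht' hs ht =>
      intro v w
      show β (s (t v)) w = β v ((s * t) w)
      rw [hs, ht, show s * t = t * s from congrArg Subtype.val (mul_comm (⟨s, hs'⟩ : P) ⟨t, ht'⟩)]
      rfl
  have hiso : ∀ s ∈ P, ∀ t ∈ P, β (s u) (t u) = 1 := by
    intro s hs t ht
    set z := β (s u) (t u) with hz
    have h1 : z = β u ((s * t) u) := hadj s hs _ _
    have h2 : z = z⁻¹ := by
      calc z = β u ((s * t) u) := h1
        _ = β ((s * t) u) u := (hadj _ (P.mul_mem hs ht) _ _).symm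
        _ = (β u ((s * t) u))⁻¹ := hβswap _ _
        _ = z⁻¹ := by rw [← h1]
    obtain ⟨e, he⟩ := hBp ⟨z, Subgroup.commutator_le_self B
      (Subgroup.commutator_mem_commutator (hliftB _) (hliftB _))⟩
    have he' : z ^ p ^ e = 1 := congrArg Subtype.val he
    have hz2 : z ^ 2 = 1 := by rw [pow_two]; exact mul_eq_one_iff_eq_inv.mpr h2
    refine orderOf_eq_one_iff.mp (Nat.eq_one_of_dvd_coprimes
      (Nat.Coprime.pow_right e ((Nat.coprime_primes Nat.prime_two hpp).mpr (by omega)))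
      (orderOf_dvd_of_pow_eq_one hz2) (orderOf_dvd_of_pow_eq_one he'))
  -- the abelian preimage
  let L : Subgroup G :=
    { carrier := {b | b ∈ B ∧ ∃ s ∈ P, ρ b = val (s u)}
      one_mem' := ⟨B.one_mem, 0, P.zero_mem, map_one ρ⟩
      mul_mem' := fun {b c} hb hc => by
        obtain ⟨s, hs, hs'⟩ := hb.2
        obtain ⟨t, ht, ht'⟩ := hc.2
        exact ⟨B.mul_mem hb.1 hc.1, s + t, P.add_mem hs ht, by rw [map_mul, hs', ht']; rfl⟩
      inv_mem' := fun {b} hb => by
        obtain ⟨s, hs, hs'⟩ := hb.2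
        exact ⟨B.inv_mem hb.1, -s, P.neg_mem hs, by rw [map_inv, hs']; rfl⟩ }
  haveI hLc : IsMulCommutative L := ⟨⟨fun b c => by
    obtain ⟨s, hs, hs'⟩ := b.2.2
    obtain ⟨t, ht, ht'⟩ := c.2.2
    refine Subtype.ext ?_
    refine commutatorElement_eq_one_iff_mul_comm.mp ?_
    rw [← hwd _ b.2.1 _ c.2.1 _ _ hs' ht']
    exact hiso s hs t ht⟩⟩
  set X := a u with hX
  set x := lift X with hx
  set σ := fun s : AddMonoid.End (Additive Bb) => G₁ * s * φ g⁻¹ with hσ
  have hσP : ∀ s ∈ P, σ s ∈ P := fun s hs => by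
    have e : σ = JAlg.conjHom G₁ (φ g⁻¹) (by rw [hinj, mul_inv_cancel, map_one])
      (by rw [hinj, inv_mul_cancel, map_one]) := rfl
    rw [e]
    induction hs using Subring.closure_induction with
    | mem s hs =>
      obtain ⟨y, hy, rfl⟩ := hs
      exact Subring.subset_closure ⟨_, hKn y hy, by rw [map_add, map_pow]; rfl⟩
    | zero => rw [map_zero]; exact P.zero_mem
    | one => rw [map_one]; exact P.one_mem
    | add s t _ _ hs ht => rw [map_add]; exact P.add_mem hs ht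
    | neg s _ hs => rw [map_neg]; exact P.neg_mem hs
    | mul s t _ _ hs ht => rw [map_mul]; exact P.mul_mem hs ht
  have hGX : ∀ i : ℕ, (G₁ ^ i) X = (σ^[i] a) u := by
    intro i
    induction i with
    | zero => rfl
    | succ i ih =>
      rw [pow_succ', Function.iterate_succ_apply']
      show G₁ ((G₁ ^ i) X) = G₁ ((σ^[i] a) (φ g⁻¹ u))
      rw [ih]
      congr 2
      conv_rhs => rw [← hGu]
      show u = (φ g⁻¹ * φ g) u
      rw [hinj, inv_mul_cancel, map_one]
      rfl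
  set M : Subgroup G := closure {z : G | ∃ c ∈ A, ⁅x, c⁆ = z} with hM
  have hgenimg : ∀ c ∈ A, ∃ i : ℕ, ρ ⁅x, c⁆ = val (X - (G₁ ^ i) X) := by
    intro c hc
    obtain ⟨i, hi⟩ := hcyc c hc
    refine ⟨i, ?_⟩
    have e : φ c = G₁ ^ i := by
      rw [← map_pow, show c = g ^ i * ((g ^ i)⁻¹ * c) by group, map_mul, (hfix _).mp hi, mul_one]
    rw [hsub, ← e, hφv, map_commutatorElement, hx, hliftv, commutatorElement_def, div_eq_mul_inv]
    group
  have hML : M ≤ L := by
    rw [hM, closure_le]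
    rintro _ ⟨c, hc, rfl⟩
    obtain ⟨i, hi⟩ := hgenimg c hc
    refine ⟨?_, a - σ^[i] a, P.sub_mem ha (Function.Iterate.rec (fun y => y ∈ P) ha hσP i), ?_⟩
    · rw [commutatorElement_def, mul_assoc, mul_assoc, ← mul_assoc c]
      exact B.mul_mem (hliftB X) (‹B.Normal›.conj_mem _ (B.inv_mem (hliftB X)) c)
    · rw [hi, hGX]
      rfl
  haveI : IsMulCommutative M := Subgroup.le_centralizer_iff_isMulCommutative.mp
    (hML.trans ((Subgroup.le_centralizer L).trans (Subgroup.centralizer_le hML)))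
  -- a missed coset
  have hns : ∃ z ∈ M, ∀ c ∈ A, ⁅x, c⁆⁻¹ * z ∉ A := by
    by_contra! hall
    let δ : AddMonoid.End (Additive Bb) := G₁ - 1
    let D : AddSubgroup (Additive Bb) :=
      AddSubgroup.closure (Set.range fun i : ℕ => (G₁ ^ i) X - X)
    have hDM : ∀ d ∈ D, ∃ z ∈ M, ρ z = val d := fun d hd => by
      induction hd using AddSubgroup.closure_induction with
      | mem d hd =>
        obtain ⟨i, rfl⟩ := hd
        refine ⟨⁅x, g ^ i⁆⁻¹, M.inv_mem (subset_closure ⟨g ^ i, A.pow_mem hg i, rfl⟩), ?_⟩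
        show _ = val ((G₁ ^ i) X - X)
        rw [hsub, ← map_pow φ g i, hφv, map_inv, map_commutatorElement, hx, hliftv, commutatorElement_def,
          div_eq_mul_inv]
        group
      | zero => exact ⟨1, M.one_mem, map_one ρ⟩
      | add d e _ _ hd he =>
        obtain ⟨z, hz, hz'⟩ := hd
        obtain ⟨w, hw, hw'⟩ := he
        exact ⟨z * w, M.mul_mem hz hw, by rw [map_mul, hz', hw', hadd]⟩
      | neg d _ hd =>
        obtain ⟨z, hz, hz'⟩ := hd
        exact ⟨z⁻¹, M.inv_mem hz, by rw [map_inv, hz']; rfl⟩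
    have hmod : ∀ i : ℕ, (G₁ ^ i) X = (G₁ ^ (i % p ^ k)) X := fun i => by
      rw [pow_eq_pow_mod i (show G₁ ^ p ^ k = 1 by rw [← map_pow]; exact (hfix _).mp hgk)]
    have hgenD : ∀ i : ℕ, X - (G₁ ^ i) X ∈ D := fun i => by
      rw [← neg_sub]
      exact D.neg_mem (AddSubgroup.subset_closure ⟨i, rfl⟩)
    have hsurj : Function.Surjective
        (fun ir : Fin (p ^ k) × {v : D // δ (v : Additive Bb) = 0} =>
          (⟨X - (G₁ ^ (ir.1 : ℕ)) X, hgenD _⟩ : D) + ir.2.1) := by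
      intro d
      obtain ⟨z, hz, hzd⟩ := hDM d d.2
      obtain ⟨c, hc, hcA⟩ := hall z hz
      obtain ⟨i, hi⟩ := hgenimg c hc
      let r : D := d - ⟨X - (G₁ ^ i) X, hgenD i⟩
      have hr : δ (r : Additive Bb) = 0 := by
        show G₁ (r : Additive Bb) - (r : Additive Bb) = 0
        refine sub_eq_zero.mpr (hval _ _ ?_)
        have hrz : val (r : Additive Bb) = ρ (⁅x, c⁆⁻¹ * z) := by
          rw [map_mul, map_inv, hi, hzd, show val (r : Additive Bb) = val (d : Additive Bb) /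
            val (X - (G₁ ^ i) X) from rfl, div_eq_mul_inv]
          exact congrArg Subtype.val (mul_comm' (d : Additive Bb).toMul ((X - (G₁ ^ i) X).toMul)⁻¹)
        rw [hφv, hrz, ← map_inv, ← map_mul, ← map_mul,
          (show g * (⁅x, c⁆⁻¹ * z) = (⁅x, c⁆⁻¹ * z) * g from
            congrArg Subtype.val (mul_comm' (⟨g, hg⟩ : A) ⟨_, hcA⟩)), mul_inv_cancel_right]
      refine ⟨(⟨i % p ^ k, Nat.mod_lt _ (pow_pos hpp.pos k)⟩, ⟨r, hr⟩), Subtype.ext ?_⟩
      show (X - (G₁ ^ (i % p ^ k)) X) + ((d : Additive Bb) - (X - (G₁ ^ i) X)) = d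
      rw [← hmod]
      abel
    have hcard := Nat.card_le_card_of_surjective _ hsurj
    rw [Nat.card_prod, Nat.card_fin] at hcard
    have hδD : ∀ j, (δ ^ (j + 1)) X ∈ D := by
      intro j
      induction j with
      | zero =>
        refine AddSubgroup.subset_closure ⟨1, ?_⟩
        show (G₁ ^ 1) X - X = (δ ^ 1) X
        rw [pow_one, pow_one]
        rfl
      | succ j ih =>
        have hGD : ∀ d ∈ D, G₁ d ∈ D := fun d hd => by
          induction hd using AddSubgroup.closure_induction with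
          | mem d hd =>
            obtain ⟨i, rfl⟩ := hd
            show G₁ ((G₁ ^ i) X - X) ∈ D
            rw [map_sub, show G₁ ((G₁ ^ i) X) - G₁ X = ((G₁ ^ (i + 1)) X - X) - ((G₁ ^ 1) X - X) by
              rw [pow_succ', pow_one, sub_sub_sub_cancel_right]; rfl]
            exact D.sub_mem (AddSubgroup.subset_closure ⟨_, rfl⟩) (AddSubgroup.subset_closure ⟨_, rfl⟩)
          | zero => rw [map_zero]; exact D.zero_mem
          | add d e _ _ hd he => rw [map_add]; exact D.add_mem hd he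
          | neg d _ hd => rw [map_neg]; exact D.neg_mem hd
        rw [pow_succ']
        exact D.sub_mem (hGD _ ih) ih
    have hlev := pow_le_card_of_level hU δ D X ((p - 1) * p ^ (k - 1)) hδD
      ⟨p ^ k, by
        haveI : Nontrivial (AddMonoid.End (Additive Bb)) := ⟨⟨_, 0, fun e => hau (DFunLike.congr_fun e X)⟩⟩
        haveI : CharP (AddMonoid.End (Additive Bb)) p := (CharP.charP_iff_prime_eq_zero hpp).mpr
          (AddMonoidHom.ext fun v => (AddMonoid.End.natCast_apply p v).trans (hU v))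
        show ((G₁ - 1) ^ p ^ k) X = 0
        rw [sub_pow_char_pow_of_commute p _ (Commute.one_right G₁), one_pow,
          show G₁ ^ p ^ k = 1 by rw [← map_pow]; exact (hfix _).mp hgk, sub_self]
        rfl⟩ hau
    haveI : Nonempty {v : D // δ (v : Additive Bb) = 0} := ⟨⟨0, map_zero δ⟩⟩
    have h1 := le_of_mul_le_mul_right (hlev.trans hcard) Nat.card_pos
    have h2 := (Nat.pow_le_pow_iff_right hpp.one_lt).mp h1
    have h3 : k - 1 < p ^ (k - 1) := Nat.lt_pow_self hpp.one_lt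
    have h4 : 4 * p ^ (k - 1) ≤ (p - 1) * p ^ (k - 1) := Nat.mul_le_mul_right _ (by omega)
    omega
  obtain ⟨hEc, hlt⟩ := strict_replacement (x := x) M hM hns
  exact ⟨_, sup_le ((hML.trans fun b hb => hb.1).trans le_sup_right) (inf_le_left.trans le_sup_left), hEc, hlt⟩

end Cfsg.Agent.H29.JGroup
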