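import Cfsg.Agent.H30.Metacyclic
import Cfsg.Agent.H11.RegularOmega
import Cfsg.Agent.H6.OmegaOdd
import Cfsg.Agent.H29.BaerSum

/-!
# Automorphisms of order `p` of metacyclic `p`-groups, `p` odd
-/

set_option autoImplicit false

namespace Cfsg.Agent.H29

open Subgroup
open scoped commutatorElement

variable {L : Type*} [Group L] [Finite L] {p : ℕ} [hp : Fact p.Prime]

/-- The two characteristic subgroups and the power map. -/
lemma metacyclic_omega (hp2 : p ≠ 2) (hL : IsPGroup p L) (hmc : Cfsg.IsMetacyclic L)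
    (hnc : ∀ C : Subgroup L, IsCyclic C → C.index ≠ p) (hnt : 1 < Nat.card L) :
    ∃ E S : Subgroup L, (∀ x, x ∈ E ↔ x ^ p = 1) ∧ (∀ x, x ∈ S ↔ x ^ (p * p) = 1) ∧
      Nat.card E = p ^ 2 ∧ (∀ e ∈ E, ∃ x, x ^ p = e) ∧ (∀ x : L, x ^ p = 1 → ∀ C : Subgroup L,
        IsCyclic C → E ≤ C → False) := by
  classical
  have hpP : p.Prime := hp.out
  have hcyc := H30.isCyclic_commutator_of_isMetacyclic hmc
  have hR : H11.RegCond p L := by
    intro a b
    obtain ⟨t, ht, he⟩ := H30.mul_pow_prime hp2 hL a b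
    refine ⟨t, ?_, he⟩
    obtain ⟨i, hi⟩ := mem_zpowers_iff.1 ht
    rw [← hi]
    refine zpow_mem ?_ i
    have hmem : b * a * b⁻¹ * a⁻¹ ∈
        ⁅Subgroup.closure ({a, b} : Set L), Subgroup.closure ({a, b} : Set L)⁆ :=
      commutator_mem_commutator (subset_closure (by simp)) (subset_closure (by simp))
    simpa using H11.pow_mem_powerClosure (p := p) (n := 1) hmem
  have hE : ∀ {x y : L}, x ^ p = 1 → y ^ p = 1 → (x * y) ^ p = 1 := fun {x y} hx hy => by
    have := H30.mul_pow_eq_one hp2 hL (k := 1) (x := x) (y := y) (by simpa using hx)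
      (by simpa using hy)
    simpa using this
  have hS : ∀ {x y : L}, x ^ (p * p) = 1 → y ^ (p * p) = 1 → (x * y) ^ (p * p) = 1 :=
    fun {x y} hx hy => by
    have := H30.mul_pow_eq_one hp2 hL (k := 2) (x := x) (y := y) (by simpa [pow_two] using hx)
      (by simpa [pow_two] using hy)
    simpa [pow_two] using this
  let E : Subgroup L :=
    { carrier := {x | x ^ p = 1}
      one_mem' := one_pow p
      mul_mem' := hE
      inv_mem' := fun {x} (hx : x ^ p = 1) => show x⁻¹ ^ p = 1 by rw [inv_pow, hx, inv_one] }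
  let S : Subgroup L :=
    { carrier := {x | x ^ (p * p) = 1}
      one_mem' := one_pow _
      mul_mem' := hS
      inv_mem' := fun {x} (hx : x ^ (p * p) = 1) =>
        show x⁻¹ ^ (p * p) = 1 by rw [inv_pow, hx, inv_one] }
  -- `L` is not cyclic
  have hLnc : ¬ IsCyclic L := by
    intro h
    obtain ⟨g, hg⟩ := IsCyclic.exists_ofOrder_eq_natCard (α := L)
    obtain ⟨k, hk⟩ := IsPGroup.iff_card.1 hL
    obtain ⟨j, rfl⟩ : ∃ j, k = j + 1 := ⟨k - 1, by
      rcases k with _ | k
      · simp [hk] at hnt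
      · omega⟩
    apply hnc (zpowers (g ^ p)) inferInstance
    have h1 := (zpowers (g ^ p)).card_mul_index
    rw [Nat.card_zpowers, orderOf_pow' g hpP.ne_zero, hg, hk, pow_succ',
      Nat.gcd_mul_right_left, Nat.mul_div_cancel_left _ hpP.pos] at h1
    exact Nat.eq_of_mul_eq_mul_left (pow_pos hpP.pos j) (h1.trans (mul_comm _ _))
  -- noncyclic subgroups contain `p²` elements of `E`
  have hbig : ∀ H : Subgroup L, ¬ IsCyclic H → ∃ A : Subgroup L, A ≤ H ∧ A ≤ E ∧ p ^ 2 ≤ Nat.card A := by
    intro H hH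
    obtain ⟨A, -, hAe, hAc⟩ := H6.exists_normal_elementary_sq hp2 (hL.to_subgroup H) hH
    refine ⟨A.map H.subtype, map_subtype_le A, ?_, ?_⟩
    · rintro _ ⟨a, ha, rfl⟩
      exact congrArg Subtype.val (hAe.2 a ha)
    · rw [card_map_of_injective H.subtype_injective, hAc]
  -- `|E| ≤ p²`
  have hEle : Nat.card E ≤ p ^ 2 := by
    obtain ⟨N, hN, hNc, hQc⟩ := hmc
    have hcb : ∀ {H : Type _} [Group H] [Finite H], IsCyclic H → (∀ x : H, x ^ p = 1) →
        Nat.card H ≤ p := by
      intro H _ _ hH hex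
      obtain ⟨g, hg⟩ := IsCyclic.exists_ofOrder_eq_natCard (α := H)
      rw [← hg]
      exact orderOf_le_of_pow_eq_one hpP.pos (hex g)
    let π : E →* L ⧸ N := (QuotientGroup.mk' N).comp E.subtype
    have h1 : Nat.card π.range ≤ p := hcb inferInstance (by
      rintro ⟨_, x, rfl⟩
      apply Subtype.ext
      have hx : (x : L) ^ p = 1 := x.2
      simp only [SubmonoidClass.coe_pow, OneMemClass.coe_one]
      rw [← map_pow, show x ^ p = 1 from Subtype.ext (by simpa using hx), map_one])
    have h2 : Nat.card π.ker ≤ p := hcb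
      (isCyclic_of_injective ((E.subtype.comp π.ker.subtype).codRestrict N
        (fun x => (QuotientGroup.eq_one_iff _).1 x.2)) (fun a b hab => by
          have h := congrArg Subtype.val hab
          exact Subtype.ext (Subtype.ext h))) (by
        intro x
        apply Subtype.ext; apply Subtype.ext
        exact x.1.2)
    have h3 := π.ker.card_mul_index
    rw [Subgroup.index_ker π] at h3
    rw [← h3, pow_two]
    exact Nat.mul_le_mul h2 h1
  have hEc : Nat.card E = p ^ 2 := by
    obtain ⟨A, -, hAE, hA⟩ := hbig ⊤ (fun h => hLnc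
      (isCyclic_of_surjective Subgroup.topEquiv.toMonoidHom Subgroup.topEquiv.surjective))
    exact le_antisymm hEle (hA.trans (Nat.le_of_dvd Nat.card_pos (card_dvd_of_le hAE)))
  -- `E` consists of `p`-th powers
  have hpow : ∀ e ∈ E, ∃ x, x ^ p = e := by
    set P1 := Cfsg.powerClosure p 1 (⊤ : Subgroup L) with hP1
    have hP1m : ∀ y, y ∈ P1 ↔ ∃ x, y = x ^ p := fun y => by
      rw [hP1, H11.mem_powerClosure_iff hL hR 1 ⊤]; simp
    -- index of `P1`
    let f : L ⧸ E → P1 := Quotient.lift (fun x : L => ⟨x ^ p, (hP1m _).2 ⟨x, rfl⟩⟩)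
      fun a b hab => Subtype.ext (by
        have h1 : (a⁻¹ * b) ^ p = 1 := QuotientGroup.leftRel_apply.1 hab
        have h2 := (H30.pow_eq_pow_iff_aux hp2 hL 1).2 a (a⁻¹ * b) (by simpa using h1)
        simpa using h2.symm)
    have hf : Function.Bijective f := by
      refine ⟨fun a b hab => ?_, fun y => ?_⟩
      · induction a using QuotientGroup.induction_on with | H a => ?_
        induction b using QuotientGroup.induction_on with | H b => ?_
        have h : a ^ p = b ^ p := congrArg Subtype.val hab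
        refine QuotientGroup.eq.2 ?_
        have := (H30.pow_eq_pow_iff_aux hp2 hL 1).1 a b (by simpa using h)
        rw [pow_one] at this
        exact this
      · obtain ⟨x, hx⟩ := (hP1m _).1 y.2
        exact ⟨(x : L ⧸ E), Subtype.ext hx.symm⟩
    have hcP : Nat.card E * Nat.card P1 = Nat.card L := by
      rw [← E.card_mul_index, ← Nat.card_eq_of_bijective f hf, Subgroup.index]
    by_cases hc : IsCyclic P1
    · exfalso
      obtain ⟨y, hy⟩ := (P1.isCyclic_iff_exists_zpowers_eq_top).1 hc
      obtain ⟨g, hg⟩ := (hP1m y).1 (hy ▸ mem_zpowers y)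
      rw [← hy, Nat.card_zpowers, hEc] at hcP
      have hg1 : y ≠ 1 := by
        intro h1
        rw [h1, orderOf_one, mul_one] at hcP
        -- `L = E`
        have hEtop : E = ⊤ := Subgroup.eq_top_of_card_eq _ (hEc.trans hcP)
        obtain ⟨e, he⟩ : ∃ e : L, e ≠ 1 := by
          have : Nontrivial L := Finite.one_lt_card_iff_nontrivial.1 hnt
          exact exists_ne 1
        have heo : orderOf e = p := orderOf_eq_prime (show e ∈ E from hEtop ▸ mem_top e) he
        apply hnc (zpowers e) inferInstance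
        have h2 := (zpowers e).card_mul_index
        rw [Nat.card_zpowers, heo, ← hcP, pow_two] at h2
        exact Nat.eq_of_mul_eq_mul_left hpP.pos h2
      have hgo : orderOf g = p * orderOf y := by
        obtain ⟨k, hk⟩ := IsPGroup.iff_orderOf.1 hL g
        rcases k with _ | k
        · rw [pow_zero, orderOf_eq_one_iff] at hk
          exact absurd (by rw [hg, hk, one_pow]) hg1
        · rw [hg, orderOf_pow' g hpP.ne_zero, hk, pow_succ', Nat.gcd_mul_right_left,
            Nat.mul_div_cancel_left _ hpP.pos]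
      apply hnc (zpowers g) inferInstance
      have h2 := (zpowers g).card_mul_index
      rw [Nat.card_zpowers, hgo, ← hcP, pow_two] at h2
      have h3 : (p * orderOf y) * (zpowers g).index = (p * orderOf y) * p := by rw [h2]; ring
      exact Nat.eq_of_mul_eq_mul_left (Nat.mul_pos hpP.pos (orderOf_pos y)) h3
    · obtain ⟨A, hAP, hAE, hA⟩ := hbig P1 hc
      have hAeq : A = E := eq_of_le_of_card_ge hAE (hEc.le.trans hA)
      intro e he
      obtain ⟨x, hx⟩ := (hP1m e).1 (hAP (hAeq ▸ he))
      exact ⟨x, hx.symm⟩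
  refine ⟨E, S, fun x => Iff.rfl, fun x => Iff.rfl, hEc, hpow, fun _ _ C hC hEC => ?_⟩
  have h1 : IsCyclic E := isCyclic_of_injective (Subgroup.inclusion hEC) (inclusion_injective hEC)
  obtain ⟨g, hg⟩ := IsCyclic.exists_ofOrder_eq_natCard (α := E)
  have h2 : orderOf g ≤ p := orderOf_le_of_pow_eq_one hpP.pos (Subtype.ext g.2)
  rw [hg, hEc] at h2
  nlinarith [hpP.two_le]

omit hp in
/-- The binomial step. -/
lemma nsmul_eq_zero_of_pow_eq_one {M : Type*} [AddCommGroup M] (hpp : p.Prime) (f : AddMonoid.End M)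
    (hf : f ^ p = 1) (h1 : ∀ x, ((f - 1) ^ p : AddMonoid.End M) x = 0) (h2 : ∀ x, p • ((f - 1) ^ 2 : AddMonoid.End M) x = 0) :
    ∀ x, p • (f - 1) x = 0 := by
  intro x
  set D := f - 1 with hD
  have hz : ∀ m, 2 ≤ m → ∀ y, p • (D ^ m : AddMonoid.End M) y = 0 := by
    intro m hm y
    obtain ⟨d, rfl⟩ := Nat.exists_eq_add_of_le hm
    rw [pow_add]
    exact h2 _
  have he : f = D + 1 := by rw [hD, sub_add_cancel]
  have hsum : (∑ k ∈ Finset.range (p + 1), p.choose k • (D ^ k : AddMonoid.End M) x) = x := by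
    have h := congrArg (fun g : AddMonoid.End M => g x) (hf.symm.trans (by
      rw [he, (Commute.one_right D).add_pow p]))
    conv_rhs => rw [show x = (1 : AddMonoid.End M) x from rfl, h]
    refine (Finset.sum_congr rfl fun k _ => ?_).trans (AddMonoidHom.finsetSum_apply _ _ _).symm
    rw [one_pow, mul_one, ← nsmul_eq_mul' (D ^ k) (p.choose k)]
    rfl
  rw [Finset.sum_range_succ] at hsum
  rw [Nat.choose_self, one_smul, h1 x, add_zero] at hsum
  rw [← Finset.sum_erase_add _ _ (Finset.mem_range.2 hpp.pos : 0 ∈ Finset.range p)] at hsum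
  rw [Nat.choose_zero_right, one_smul, pow_zero] at hsum
  have h0 : (∑ k ∈ (Finset.range p).erase 0, p.choose k • (D ^ k : AddMonoid.End M) x) = p • D x := by
    rw [Finset.sum_eq_single 1]
    · rw [Nat.choose_one_right, pow_one]
    · intro k hk hk1
      rw [Finset.mem_erase, Finset.mem_range] at hk
      obtain ⟨c, hc⟩ := hpp.dvd_choose_self hk.1 hk.2
      rw [hc, mul_comm, mul_smul, hz k (by omega), smul_zero]
    · intro h
      exact absurd (Finset.mem_erase.2 ⟨one_ne_zero, Finset.mem_range.2 hpp.one_lt⟩) h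
  rw [h0] at hsum
  have : ((1 : AddMonoid.End M) x) = x := rfl
  rw [this] at hsum
  simpa using hsum

/-- An automorphism of order dividing `p` moving an element of order `p` forces `p = 3` and has
only fixed points of order dividing `p`. -/
lemma metacyclic_moved (hp2 : p ≠ 2) (hL : IsPGroup p L) (hmc : Cfsg.IsMetacyclic L)
    (hnc : ∀ C : Subgroup L, IsCyclic C → C.index ≠ p) (hnt : 1 < Nat.card L)
    (a : MulAut L) (ha : a ^ p = 1) {e : L} (he : e ^ p = 1) (hae : a e ≠ e) :
    p = 3 ∧ ∃ z : L, z ^ p = 1 ∧ z ≠ 1 ∧ a z = z ∧ ∀ x, a x = x → x ∈ zpowers z := by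
  classical
  have hpP : p.Prime := hp.out
  have hcyc := H30.isCyclic_commutator_of_isMetacyclic hmc
  obtain ⟨E, S, hEm, hSm, hEc, hpow, -⟩ := metacyclic_omega hp2 hL hmc hnc hnt
  have hEp : IsPGroup p E := hL.to_subgroup E
  haveI hcomE : IsMulCommutative E := IsPGroup.isMulCommutative_of_card_eq_prime_sq hEc
  have hEn : E.Normal := ⟨fun x hx g => by
    rw [hEm, conj_pow, (hEm x).1 hx, mul_one, mul_inv_cancel]⟩
  -- commutators of `S` lie in `E`, and are central in `S`
  have hES : E ≤ S := fun x hx => by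
    rw [hSm, pow_mul, (hEm x).1 hx, one_pow]
  have hSE : ∀ x y : S, ⁅(x : L), (y : L)⁆ ∈ E := by
    -- `S / E` has order `p²`
    let f : S ⧸ (E.subgroupOf S) → E :=
      Quotient.lift (fun x : S => ⟨(x : L) ^ p, (hEm _).2 (by rw [← pow_mul]; exact (hSm _).1 x.2)⟩)
        fun a b hab => Subtype.ext (by
          have h1 : (((a⁻¹ * b : S)) : L) ^ p = 1 :=
            (hEm _).1 (mem_subgroupOf.1 ((@QuotientGroup.leftRel_apply _ _ (E.subgroupOf S) a b).1 hab))
          have h2 := (H30.pow_eq_pow_iff_aux hp2 hL 1).2 (a : L) ((a⁻¹ * b : S) : L)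
            (by simpa using h1)
          simpa using h2.symm)
    have hf : Function.Bijective f := by
      refine ⟨fun u v huv => ?_, fun y => ?_⟩
      · induction u using QuotientGroup.induction_on with | H u => ?_
        induction v using QuotientGroup.induction_on with | H v => ?_
        have h : (u : L) ^ p = (v : L) ^ p := congrArg Subtype.val huv
        refine QuotientGroup.eq.2 ((hEm _).2 ?_)
        have := (H30.pow_eq_pow_iff_aux hp2 hL 1).1 (u : L) v (by simpa using h)
        simpa using this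
      · obtain ⟨x, hx⟩ := hpow y y.2
        refine ⟨QuotientGroup.mk ⟨x, (hSm x).2 ?_⟩, Subtype.ext hx⟩
        rw [pow_mul, hx]; exact (hEm _).1 y.2
    have hn : (E.subgroupOf S).Normal := hEn.subgroupOf S
    have hq : Nat.card (S ⧸ E.subgroupOf S) = p ^ 2 := by
      rw [Nat.card_eq_of_bijective f hf, hEc]
    haveI : IsMulCommutative (S ⧸ E.subgroupOf S) :=
      IsPGroup.isMulCommutative_of_card_eq_prime_sq hq
    intro x y
    have : QuotientGroup.mk' (E.subgroupOf S) ⁅x, y⁆ = 1 := by
      rw [map_commutatorElement, commutatorElement_eq_one_iff_mul_comm]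
      exact mul_comm' _ _
    have h2 := (QuotientGroup.eq_one_iff _).1 this
    rw [mem_subgroupOf] at h2
    simpa [commutatorElement_def] using h2
  have hcyc := H30.isCyclic_commutator_of_isMetacyclic hmc
  have hcent : ∀ x y z : S, Commute ⁅x, y⁆ z := by
    intro x y z
    set c := ⁅(x : L), (y : L)⁆ with hc
    have hcd : c ∈ _root_.commutator L := commutator_mem_commutator (mem_top _) (mem_top _)
    have hn : (zpowers c).Normal := H30.normal_of_le_cyclic (zpowers_le.2 hcd)
    have hcard : Nat.card (zpowers c) ≤ p := by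
      rw [Nat.card_zpowers]
      exact orderOf_le_of_pow_eq_one hpP.pos ((hEm _).1 (hSE x y))
    have h := H30.le_center_of_card_le hL hn hcard (mem_zpowers c)
    apply Subtype.ext
    simpa [commutatorElement_def, hc] using (mem_center_iff.1 h (z : L)).symm
  have hcp : ∀ x y : S, ⁅x, y⁆ ^ p = 1 := by
    intro x y
    apply Subtype.ext
    have := (hEm _).1 (hSE x y)
    simpa [commutatorElement_def] using this
  obtain ⟨j, hj⟩ := hpP.odd_of_ne_two hp2
  have hh : ∀ x y : S, ⁅x, y⁆ ^ (2 * (j + 1)) = ⁅x, y⁆ := by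
    intro x y
    rw [show 2 * (j + 1) = p + 1 by omega, pow_succ, hcp, one_mul]
  letI := baerAddCommGroup (j + 1) hh hcent
  have hns : ∀ (n : ℕ) (x : S), n • x = x ^ n := by
    intro n
    induction n with
    | zero => intro x; rw [zero_nsmul, pow_zero]; rfl
    | succ n ih =>
      intro x
      rw [succ_nsmul, ih, baerAdd_eq _ hh hcent,
        commutatorElement_eq_one_iff_commute.2 ((Commute.refl x).pow_right n), one_pow, mul_one,
        pow_succ]
  -- the automorphism on `S`
  have haS : ∀ x : S, a (x : L) ∈ S := fun x => by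
    rw [hSm, ← map_pow, (hSm _).1 x.2, map_one]
  let fS : AddMonoid.End S := AddMonoidHom.mk' (fun x : S => (⟨a x, haS x⟩ : S)) (by
    intro x y
    rw [baerAdd_eq _ hh hcent, baerAdd_eq _ hh hcent]
    apply Subtype.ext
    simp [commutatorElement_def])
  have hfp : fS ^ p = 1 := by
    have hn : ∀ (n : ℕ) (x : S), (((fS ^ n) x : S) : L) = (a ^ n) (x : L) := by
      intro n
      induction n with
      | zero => intro x; rfl
      | succ n ih =>
        intro x
        rw [pow_succ, pow_succ, MulAut.mul_apply]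
        exact ih (fS x)
    refine AddMonoidHom.ext fun x => Subtype.ext ?_
    exact (hn p x).trans (by rw [ha]; rfl)
  set D := fS - 1 with hD
  have hDfix : ∀ x : S, D x = 0 ↔ a (x : L) = x := by
    intro x
    rw [hD]
    change fS x - x = 0 ↔ _
    rw [sub_eq_zero, Subtype.ext_iff]
    rfl
  -- fixed points in `E`
  let φ : E →* E :=
    { toFun := fun x => ⟨a x, (hEm _).2 (by rw [← map_pow, (hEm _).1 x.2, map_one])⟩
      map_one' := by simp
      map_mul' := fun x y => Subtype.ext (by simp) }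
  have heE : e ∈ E := (hEm e).2 he
  let δ : E →* E :=
    { toFun := fun x => φ x * x⁻¹
      map_one' := by simp
      map_mul' := fun x y => by
        rw [map_mul, mul_inv_rev, mul_comm' y⁻¹ x⁻¹]
        rw [mul_assoc, ← mul_assoc (φ y) x⁻¹, mul_comm' (φ y) x⁻¹]
        simp only [mul_assoc] }
  have hδker : ∀ x : E, x ∈ δ.ker ↔ a (x : L) = x := by
    intro x
    rw [MonoidHom.mem_ker]
    change φ x * x⁻¹ = 1 ↔ _
    rw [mul_inv_eq_one, Subtype.ext_iff]
    rfl
  have hδtop : δ.ker ≠ ⊤ := fun h => hae ((hδker ⟨e, heE⟩).1 (h ▸ mem_top _))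
  have hδbot : δ.ker ≠ ⊥ := by
    -- a `p`-group of automorphisms fixes a nontrivial element
    intro h
    have hinj : Function.Injective δ := (MonoidHom.ker_eq_bot_iff δ).1 h
    have hzp : IsPGroup p (zpowers a) := by
      refine IsPGroup.iff_card.2 ?_
      have hd : orderOf a ∣ p := orderOf_dvd_of_pow_eq_one ha
      rcases (Nat.dvd_prime hpP).1 hd with h1 | h1
      · exact ⟨0, by rw [Nat.card_zpowers, h1, pow_zero]⟩
      · exact ⟨1, by rw [Nat.card_zpowers, h1, pow_one]⟩
    have hinv : ∀ (g : zpowers a) (x : E), (g : MulAut L) (x : L) ∈ E := fun g x => by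
      rw [hEm, ← map_pow, (hEm _).1 x.2, map_one]
    letI : MulAction (zpowers a) E :=
      { smul := fun g x => ⟨(g : MulAut L) (x : L), hinv g x⟩
        one_smul := fun x => Subtype.ext rfl
        mul_smul := fun g k x => Subtype.ext rfl }
    obtain ⟨w, hw, hw1⟩ := hzp.exists_fixed_point_of_prime_dvd_card_of_fixed_point E
      (by rw [hEc]; exact dvd_pow_self p two_ne_zero)
      (a := (1 : E)) (fun g => Subtype.ext (map_one (g : MulAut L)))
    have : δ w = δ 1 := by
      rw [map_one]
      exact MonoidHom.mem_ker.1 ((hδker w).2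
        (congrArg Subtype.val (hw ⟨a, mem_zpowers a⟩)))
    exact hw1 (hinj this).symm
  have hker : Nat.card δ.ker = p ∧ Nat.card δ.range = p := by
    have h1 := δ.ker.card_mul_index
    rw [Subgroup.index_ker δ, hEc] at h1
    obtain ⟨i, hi, hki⟩ := (Nat.dvd_prime_pow hpP).1 (Dvd.intro _ h1)
    have hi0 : i ≠ 0 := fun h0 => hδbot (Subgroup.card_eq_one.1 (by rw [hki, h0, pow_zero]))
    have hi2 : i ≠ 2 := fun h0 => hδtop (Subgroup.eq_top_of_card_eq _ (by rw [hki, h0, hEc]))
    obtain rfl : i = 1 := by omega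
    rw [pow_one] at hki
    refine ⟨hki, Nat.eq_of_mul_eq_mul_left hpP.pos ?_⟩
    rw [hki] at h1
    rw [h1, pow_two]
  have hrk : δ.range ≤ δ.ker := by
    by_contra hnle
    -- otherwise `δ` is injective on its image, and `φ ^ p ≠ 1`
    have hdisj : δ.range ⊓ δ.ker = ⊥ := by
      have hd := card_dvd_of_le (inf_le_left : δ.range ⊓ δ.ker ≤ δ.range)
      rw [hker.2] at hd
      rcases (Nat.dvd_prime hpP).1 hd with h | h
      · exact Subgroup.card_eq_one.1 h
      · exact absurd ((eq_of_le_of_card_ge inf_le_left (by rw [h, hker.2])).ge.trans inf_le_right)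
          hnle
    obtain ⟨w, hw, hw1⟩ : ∃ w, w ∈ δ.range ∧ w ≠ 1 := by
      by_contra h
      push Not at h
      have := hker.2
      rw [(Subgroup.eq_bot_iff_forall _).2 h, Subgroup.card_bot] at this
      exact hpP.one_lt.ne this
    have hrc : δ.range = zpowers w := by
      refine (eq_of_le_of_card_ge (zpowers_le.2 hw) ?_).symm
      rw [hker.2, Nat.card_zpowers]
      exact (orderOf_eq_prime (Subtype.ext (by simpa using (hEm _).1 w.2)) hw1).ge
    obtain ⟨i, hi⟩ := mem_zpowers_iff.1 (show φ w ∈ zpowers w by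
      rw [← hrc]
      have h1 : δ w ∈ δ.range := ⟨w, rfl⟩
      have h2 : φ w = δ w * w := by simp [δ]
      rw [h2]; exact mul_mem h1 hw)
    have hiter : ∀ n : ℕ, (a ^ n) (w : L) = (w : L) ^ (i ^ n) := by
      intro n
      induction n with
      | zero => simp
      | succ n ih =>
        rw [pow_succ, MulAut.mul_apply, show a (w : L) = (w : L) ^ i from
          (congrArg Subtype.val hi.symm).trans (by simp), map_zpow, ih, ← zpow_mul, pow_succ]
    have h := hiter p
    rw [ha, MulAut.one_apply] at h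
    have hwo : orderOf (w : L) = p := orderOf_eq_prime ((hEm _).1 w.2)
      (fun h => hw1 (Subtype.ext h))
    have hdvd : (p : ℤ) ∣ i ^ p - 1 := by
      have h5 : (orderOf (w : L) : ℤ) ∣ i ^ p - 1 := by
        rw [orderOf_dvd_iff_zpow_eq_one, zpow_sub, zpow_one, ← h, mul_inv_cancel]
      rwa [hwo] at h5
    have hi1 : (p : ℤ) ∣ i - 1 := by
      rw [← ZMod.intCast_zmod_eq_zero_iff_dvd] at hdvd ⊢
      push_cast at hdvd ⊢
      rwa [ZMod.pow_card] at hdvd
    have : a (w : L) = w := by
      rw [show a (w : L) = (w : L) ^ i from (congrArg Subtype.val hi.symm).trans (by simp)]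
      obtain ⟨c, hc⟩ := hi1
      rw [show i = (orderOf (w : L) : ℤ) * c + 1 by rw [hwo, ← hc]; ring, zpow_add, zpow_mul,
        zpow_natCast, pow_orderOf_eq_one, one_zpow, one_mul, zpow_one]
    exact hw1 ((Subgroup.eq_bot_iff_forall _).1 hdisj w ⟨hw, (hδker w).2 this⟩)
  -- translate to the Baer group
  have hps : ∀ x : S, p • x = 0 ↔ (x : L) ∈ E := by
    intro x
    rw [hns, hEm]
    constructor
    · intro h
      exact congrArg Subtype.val (show x ^ p = 1 from h)
    · intro h
      exact show x ^ p = 1 from Subtype.ext (by simpa using h)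
  have hDE : ∀ x : S, (x : L) ∈ E → D (D x) = 0 := by
    intro x hx
    have hx0 : p • x = 0 := (hps x).2 hx
    have hDx : (((D x : S)) : L) = ((δ ⟨x, hx⟩ : E) : L) := by
      change ((fS x - x : S) : L) = _
      rw [sub_eq_add_neg, baerAdd_eq _ hh hcent]
      have hc : ⁅-x, fS x⁆ = 1 := by
        apply Subtype.ext
        rw [commutatorElement_def]
        have h1 : (⟨(x : L), hx⟩ : E) * φ ⟨x, hx⟩ = φ ⟨x, hx⟩ * ⟨x, hx⟩ := mul_comm' _ _
        have h2 : Commute (x : L) (a x) := congrArg Subtype.val h1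
        have h3 : (x : L)⁻¹ * a x * (x : L) * (a (x : L))⁻¹ = 1 := by
          rw [h2.inv_left.eq, inv_mul_cancel_right, mul_inv_cancel]
        change (x : L)⁻¹ * a x * (x : L)⁻¹⁻¹ * (a (x : L))⁻¹ = 1
        rwa [inv_inv]
      rw [hc, one_pow, mul_one]
      rfl
    rw [hDfix, hDx]
    exact (hδker _).1 (hrk ⟨_, rfl⟩)
  have hpp0 : ∀ x : S, p • (p • x) = 0 := fun x => by
    rw [hns, hns]
    show (x ^ p) ^ p = (1 : S)
    apply Subtype.ext
    have := (hSm _).1 x.2
    simpa [← pow_mul] using this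
  have hD2 : ∀ x : S, p • D (D x) = 0 := fun x => by
    rw [← map_nsmul, ← map_nsmul]
    apply hDE
    rw [← hps]
    exact hpp0 x
  have hD2mem : ∀ x : S, ((D (D x) : S) : L) ∈ E := fun x => (hps _).1 (hD2 x)
  -- a moved `p`-th power
  obtain ⟨w, hw⟩ := hpow e heE
  have hwS : w ∈ S := by rw [hSm, pow_mul, hw, he]
  have hmove : p • D ⟨w, hwS⟩ ≠ 0 := by
    rw [← map_nsmul, Ne, hDfix, hns]
    simpa [hw] using hae
  have hkey : (∀ x : S, (D ^ p) x = 0) → False := fun h => hmove
    (nsmul_eq_zero_of_pow_eq_one hpP fS hfp h hD2 _)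
  refine ⟨?_, ?_⟩
  · by_contra hp3
    refine hkey fun x => ?_
    have h5 : 4 ≤ p := by
      have := hpP.two_le
      omega
    obtain ⟨d, hd⟩ := Nat.exists_eq_add_of_le h5
    rw [hd, pow_add]
    exact hDE _ (hD2mem _)
  · obtain ⟨z, hz⟩ := isCyclic_iff_exists_zpowers_eq_top.1
      (isCyclic_of_prime_card (p := p) hker.1)
    have hz1 : z ≠ 1 := by
      intro h
      have hc := hker.1
      rw [h, zpowers_one_eq_bot] at hz
      have : Subsingleton δ.ker := ⟨fun u v => by
        have hu : u ∈ (⊥ : Subgroup δ.ker) := hz ▸ mem_top u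
        have hv : v ∈ (⊥ : Subgroup δ.ker) := hz ▸ mem_top v
        rw [mem_bot] at hu hv
        rw [hu, hv]⟩
      rw [Nat.card_of_subsingleton (1 : δ.ker)] at hc
      exact hpP.one_lt.ne hc
    refine ⟨z.1.1, (hEm _).1 z.1.2, fun h => hz1 (Subtype.ext (Subtype.ext h)),
      (hδker _).1 z.2, ?_⟩
    intro x hx
    have hxE : x ∈ E := by
      by_contra hxE
      -- a fixed element of order `p²`
      obtain ⟨k, hk⟩ := IsPGroup.iff_orderOf.1 hL x
      have hk2 : 2 ≤ k := by
        by_contra h2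
        apply hxE
        rw [hEm, ← orderOf_dvd_iff_pow_eq_one, hk]
        exact (Nat.pow_dvd_pow p (show k ≤ 1 by omega)).trans (dvd_of_eq (pow_one p))
      obtain ⟨d, rfl⟩ := Nat.exists_eq_add_of_le hk2
      set v := x ^ p ^ d with hv
      have hvo : orderOf v = p * p := by
        rw [hv, orderOf_pow' x (pow_ne_zero _ hpP.ne_zero), hk, pow_add,
          Nat.gcd_mul_left_left, Nat.mul_div_cancel _ (pow_pos hpP.pos _), pow_two]
      have hvS : v ∈ S := by rw [hSm, ← hvo]; exact pow_orderOf_eq_one v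
      have hDv : D ⟨v, hvS⟩ = 0 := (hDfix _).2 (by simp [hv, map_pow, hx])
      have hvp : (v ^ p : L) ∈ E := by rw [hEm, ← pow_mul, ← hvo]; exact pow_orderOf_eq_one v
      have hv1 : v ^ p ≠ 1 := by
        intro h
        have := Nat.le_of_dvd hpP.pos (hvo ▸ orderOf_dvd_of_pow_eq_one h)
        nlinarith [hpP.two_le]
      -- every displacement lies in `⟨v⟩ + E`
      have hDDD : ∀ y : S, D (D (D y)) = 0 := by
        intro y
        have hDy : (((p • D y : S)) : L) ∈ zpowers (v ^ p) := by
          have hkerv : (⟨v ^ p, hvp⟩ : E) ∈ δ.ker := (hδker _).2 (by simp [hv, map_pow, hx])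
          have hkz : δ.ker = zpowers (⟨v ^ p, hvp⟩ : E) := by
            refine (eq_of_le_of_card_ge (zpowers_le.2 hkerv) ?_).symm
            rw [hker.1, Nat.card_zpowers]
            exact (orderOf_eq_prime (Subtype.ext (by simpa using (hEm _).1 hvp))
              (fun h => hv1 (congrArg Subtype.val h))).ge
          have hpy : ((p • y : S) : L) ∈ E := (hps _).1 (by
            exact hpp0 y)
          have hfix : a ((p • D y : S) : L) = ((p • D y : S) : L) := (hDfix _).1 (by
            rw [← map_nsmul]; exact hDE _ hpy)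
          have hmem : ((p • D y : S) : L) ∈ E := (hps _).1 (by
            exact hpp0 (D y))
          have h2 : (⟨_, hmem⟩ : E) ∈ zpowers (⟨v ^ p, hvp⟩ : E) := hkz ▸ (hδker _).2 hfix
          obtain ⟨i, hi⟩ := mem_zpowers_iff.1 h2
          exact mem_zpowers_iff.2 ⟨i, by simpa using congrArg Subtype.val hi⟩
        obtain ⟨i, hi⟩ := (IsOfFinOrder.mem_powers_iff_mem_zpowers (isOfFinOrder_of_finite _)).2 hDy
        have hrest : ((D y - i • (⟨v, hvS⟩ : S) : S) : L) ∈ E := by
          rw [← hps, nsmul_sub, smul_comm, sub_eq_zero]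
          apply Subtype.ext
          rw [← hi, hns, hns]
          simp
        have h2 : D (D y) = D (D y - i • (⟨v, hvS⟩ : S)) := by
          rw [map_sub, map_nsmul, hDv, smul_zero, sub_zero]
        rw [h2]
        exact hDE _ hrest
      refine hkey fun y => ?_
      obtain ⟨d', hd'⟩ := Nat.exists_eq_add_of_le (show 3 ≤ p by
        have := hpP.two_le; omega)
      rw [hd', pow_add]
      exact hDDD _
    have hmem : (⟨⟨x, hxE⟩, (hδker _).2 hx⟩ : δ.ker) ∈ zpowers z := hz ▸ mem_top _
    obtain ⟨i, hi⟩ := mem_zpowers_iff.1 hmem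
    exact mem_zpowers_iff.2 ⟨i, by simpa using congrArg (fun q : δ.ker => q.1.1) hi⟩

end Cfsg.Agent.H29
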