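import Mathlib

/-!
Two involutions of equal support size have a common neighbour in the odd-product graph,
except two commuting double transpositions covering all four points.
-/

set_option autoImplicit false

namespace Cfsg.Agent.H29

open Equiv Equiv.Perm

variable {α : Type*} [DecidableEq α] [Fintype α]

theorem odd_orderOf_of_pow {G : Type*} [Monoid G] {g : G} {m : ℕ} (hm : Odd m) (h : g ^ m = 1) :
    Odd (orderOf g) :=
  Odd.of_dvd_nat hm (orderOf_dvd_of_pow_eq_one h)

theorem odd_orderOf_mul_of_commute {G : Type*} [Group G] {g h : G} (hc : Commute g h)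
    (hg : Odd (orderOf g)) (hh : Odd (orderOf h)) : Odd (orderOf (g * h)) :=
  (hg.mul hh).of_dvd_nat hc.orderOf_mul_dvd_mul_orderOf

/-- Inserting two fixed points of `Q` into the cycle of `c` keeps the order odd. -/
theorem odd_orderOf_insert {Q : Perm α} {a b c : α} (hQ : Odd (orderOf Q)) (ha : Q a = a)
    (hb : Q b = b) (hab : a ≠ b) (hca : c ≠ a) (hcb : c ≠ b) :
    Odd (orderOf (swap c b * swap b a * Q)) := by
  set R := swap c b * swap b a * Q with hR
  have hRb : R b = a := by
    simp [hR, hb, swap_apply_of_ne_of_ne hca.symm hab]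
  have hRa : R a = c := by
    simp [hR, ha]
  have hRo : ∀ u, Q u ≠ c → u ≠ a → u ≠ b → R u = Q u := by
    intro u hu hua hub
    have h1 : Q u ≠ a := fun h => hua (Q.injective (h.trans ha.symm))
    have h2 : Q u ≠ b := fun h => hub (Q.injective (h.trans hb.symm))
    simp [hR, swap_apply_of_ne_of_ne h2 h1, swap_apply_of_ne_of_ne hu h2]
  have hRc : ∀ u, Q u = c → R u = b := by
    intro u hu
    simp [hR, hu, swap_apply_of_ne_of_ne hcb hca]
  clear_value R
  have hfix : ∀ u, u ≠ a → ∀ i : ℕ, (Q ^ i) u ≠ a := fun u hu i h =>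
    hu ((Q ^ i).injective (h.trans (pow_apply_eq_self_of_apply_eq_self ha i).symm))
  have hfixb : ∀ u, u ≠ b → ∀ i : ℕ, (Q ^ i) u ≠ b := fun u hu i h =>
    hu ((Q ^ i).injective (h.trans (pow_apply_eq_self_of_apply_eq_self hb i).symm))
  have hrun : ∀ u, u ≠ a → u ≠ b → ∀ i : ℕ, (∀ j, j < i → (Q ^ (j + 1)) u ≠ c) →
      (R ^ i) u = (Q ^ i) u := by
    intro u hua hub i
    induction i with
    | zero => simp
    | succ i ih =>
      intro hi
      rw [pow_succ', Perm.mul_apply, ih (fun j hj => hi j (by omega)),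
        hRo _ ?_ (hfix u hua i) (hfixb u hub i), ← Perm.mul_apply, ← pow_succ']
      rw [← Perm.mul_apply, ← pow_succ']
      exact hi i (by omega)
  obtain ⟨l, hl0, hlc, hlmin⟩ : ∃ l, 0 < l ∧ (Q ^ l) c = c ∧
      ∀ j, j < l → 0 < j → (Q ^ j) c ≠ c := by
    have hex : ∃ l, 0 < l ∧ (Q ^ l) c = c := ⟨orderOf Q, orderOf_pos Q, by simp [pow_orderOf_eq_one]⟩
    exact ⟨Nat.find hex, (Nat.find_spec hex).1, (Nat.find_spec hex).2,
      fun j hj h0 h => Nat.find_min hex hj ⟨h0, h⟩⟩
  have hldvd : l ∣ orderOf Q := by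
    rw [Nat.dvd_iff_mod_eq_zero]
    by_contra h
    apply hlmin (orderOf Q % l) (Nat.mod_lt _ hl0) (Nat.pos_of_ne_zero h)
    have h1 : (Q ^ (l * (orderOf Q / l))) c = c := by
      rw [pow_mul]
      exact pow_apply_eq_self_of_apply_eq_self hlc _
    have h2 : (Q ^ (orderOf Q % l + l * (orderOf Q / l))) c = c := by
      rw [Nat.mod_add_div, pow_orderOf_eq_one, Perm.one_apply]
    rwa [pow_add, Perm.mul_apply, h1] at h2
  have hcyc : (R ^ (l + 2)) c = c := by
    have h1 : (R ^ (l - 1)) c = (Q ^ (l - 1)) c :=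
      hrun c hca hcb _ fun j hj => hlmin _ (by omega) (by omega)
    have h2 : Q ((Q ^ (l - 1)) c) = c := by
      rw [← Perm.mul_apply, ← pow_succ', show l - 1 + 1 = l by omega, hlc]
    rw [show l + 2 = (l - 1) + 1 + 1 + 1 by omega, pow_succ', Perm.mul_apply, pow_succ',
      Perm.mul_apply, pow_succ', Perm.mul_apply, h1, hRc _ h2, hRb, hRa]
  have horb : ∀ i : ℕ, (R ^ (l + 2)) ((R ^ i) c) = (R ^ i) c := fun i => by
    rw [← Perm.mul_apply, (Commute.pow_pow_self R _ _).eq, Perm.mul_apply, hcyc]
  have hall : ∀ u, (R ^ (l + 2)) u = u ∨ (R ^ orderOf Q) u = u := by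
    intro u
    by_cases hua : u = a
    · left
      apply (R ^ 1).injective
      rw [← Perm.mul_apply, (Commute.pow_pow_self R _ _).eq, Perm.mul_apply, pow_one, hua, hRa]
      exact hcyc
    by_cases hub : u = b
    · left
      apply (R ^ 2).injective
      rw [← Perm.mul_apply, (Commute.pow_pow_self R _ _).eq, Perm.mul_apply, sq, Perm.mul_apply,
        hub, hRb, hRa]
      exact hcyc
    by_cases h : ∃ j, (Q ^ (j + 1)) u = c
    · left
      have hj := Nat.find_spec h
      have h1 : (R ^ Nat.find h) u = (Q ^ Nat.find h) u :=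
        hrun u hua hub _ fun j hj' => Nat.find_min h hj'
      have h2 : (R ^ (Nat.find h + 3)) u = c := by
        rw [pow_succ', Perm.mul_apply, pow_succ', Perm.mul_apply, pow_succ', Perm.mul_apply, h1,
          hRc ((Q ^ Nat.find h) u) (by rw [← Perm.mul_apply, ← pow_succ']; exact hj), hRb, hRa]
      apply (R ^ (Nat.find h + 3)).injective
      rw [← Perm.mul_apply, (Commute.pow_pow_self R _ _).eq, Perm.mul_apply, h2]
      exact hcyc
    · push_neg at h
      right
      rw [hrun u hua hub _ fun j _ => h j, pow_orderOf_eq_one, Perm.one_apply]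
  refine odd_orderOf_of_pow (m := (l + 2) * orderOf Q) ?_ ?_
  · exact ((hQ.of_dvd_nat hldvd).add_even even_two).mul hQ
  · ext u
    rcases hall u with h | h
    · rw [pow_mul, pow_apply_eq_self_of_apply_eq_self h, Perm.one_apply]
    · rw [mul_comm (l + 2), pow_mul, pow_apply_eq_self_of_apply_eq_self h, Perm.one_apply]

/-- `z` is a common neighbour of `x` and `y`, supported where they are. -/
structure OddLink (x y z : Perm α) : Prop where
  sq : z * z = 1
  supp : z.support ⊆ x.support ∪ y.support
  card : z.support.card = x.support.card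
  oddx : Odd (orderOf (x * z))
  oddy : Odd (orderOf (y * z))

/-- `x`, `y` are two commuting double transpositions on the same four points. -/
structure ExcPair (x y : Perm α) : Prop where
  card : (x.support ∪ y.support).card = 4
  movex : ∀ a ∈ x.support ∪ y.support, x a ≠ a
  movey : ∀ a ∈ x.support ∪ y.support, y a ≠ a
  ne : ∀ a ∈ x.support ∪ y.support, x a ≠ y a

theorem OddLink.symm {x y z : Perm α} (h : OddLink x y z)
    (hc : x.support.card = y.support.card) : OddLink y x z :=
  ⟨h.sq, Finset.union_comm x.support y.support ▸ h.supp, h.card.trans hc, h.oddy, h.oddx⟩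

theorem ExcPair.symm {x y : Perm α} (h : ExcPair x y) : ExcPair y x := by
  obtain ⟨h1, h2, h3, h4⟩ := h
  rw [Finset.union_comm] at h1
  exact ⟨h1, fun a ha => h3 a (by rwa [Finset.union_comm]),
    fun a ha => h2 a (by rwa [Finset.union_comm]),
    fun a ha => (h4 a (by rwa [Finset.union_comm])).symm⟩

theorem perm_disjoint_of {x y : Perm α} (h : _root_.Disjoint x.support y.support) :
    Perm.Disjoint x y :=
  disjoint_iff_disjoint_support.2 h

theorem OddLink.combine {A B C x y z : Perm α} (h : OddLink A B C) (h' : OddLink x y z)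
    (hd : _root_.Disjoint (A.support ∪ B.support) (x.support ∪ y.support)) :
    OddLink (A * x) (B * y) (C * z) := by
  have sA : A.support ⊆ A.support ∪ B.support := Finset.subset_union_left
  have sB : B.support ⊆ A.support ∪ B.support := Finset.subset_union_right
  have sx : x.support ⊆ x.support ∪ y.support := Finset.subset_union_left
  have sy : y.support ⊆ x.support ∪ y.support := Finset.subset_union_right
  have dAx : Perm.Disjoint A x := perm_disjoint_of ((hd.mono_left sA).mono_right sx)
  have dAz : Perm.Disjoint A z := perm_disjoint_of ((hd.mono_left sA).mono_right h'.supp)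
  have dBy : Perm.Disjoint B y := perm_disjoint_of ((hd.mono_left sB).mono_right sy)
  have dBz : Perm.Disjoint B z := perm_disjoint_of ((hd.mono_left sB).mono_right h'.supp)
  have dCx : Perm.Disjoint C x := perm_disjoint_of ((hd.mono_left h.supp).mono_right sx)
  have dCy : Perm.Disjoint C y := perm_disjoint_of ((hd.mono_left h.supp).mono_right sy)
  have dCz : Perm.Disjoint C z := perm_disjoint_of ((hd.mono_left h.supp).mono_right h'.supp)
  refine ⟨?_, ?_, ?_, ?_, ?_⟩
  · rw [dCz.commute.symm.mul_mul_mul_comm, h.sq, h'.sq, one_mul]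
  · rw [dCz.support_mul, dAx.support_mul, dBy.support_mul]
    exact (Finset.union_subset_union h.supp h'.supp).trans_eq (Finset.union_union_union_comm _ _ _ _)
  · rw [dCz.card_support_mul, dAx.card_support_mul, h.card, h'.card]
  · rw [dCx.commute.symm.mul_mul_mul_comm]
    exact odd_orderOf_mul_of_commute
      ((dAx.commute.mul_right dAz.commute).mul_left (dCx.commute.mul_right dCz.commute))
      h.oddx h'.oddx
  · rw [dCy.commute.symm.mul_mul_mul_comm]
    exact odd_orderOf_mul_of_commute
      ((dBy.commute.mul_right dBz.commute).mul_left (dCy.commute.mul_right dCz.commute))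
      h.oddy h'.oddy

theorem oddLink_self {x : Perm α} (hx : x * x = 1) : OddLink x x x :=
  ⟨hx, Finset.subset_union_left, rfl, by rw [hx]; simp, by rw [hx]; simp⟩

/-- Taking one transposition out of an involution. -/
theorem exists_peel {x : Perm α} (hx : x * x = 1) {a b : α} (hab : x a = b) (hne : a ≠ b) :
    ∃ x' : Perm α, x = swap a b * x' ∧ x' * x' = 1 ∧ x' a = a ∧ x' b = b ∧
      (∀ u, u ≠ a → u ≠ b → x' u = x u) ∧ x'.support ⊆ x.support ∧
      _root_.Disjoint (swap a b).support x'.support ∧ x'.support.card + 2 = x.support.card := by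
  have hba : x b = a := by rw [← hab, ← Perm.mul_apply, hx, Perm.one_apply]
  have h' : ∀ u, u ≠ a → u ≠ b → (swap a b * x) u = x u := by
    intro u h1 h2
    rw [Perm.mul_apply, swap_apply_of_ne_of_ne (fun h => h2 (x.injective (h.trans hba.symm)))
      (fun h => h1 (x.injective (h.trans hab.symm)))]
  have ha' : (swap a b * x) a = a := by rw [Perm.mul_apply, hab, swap_apply_right]
  have hb' : (swap a b * x) b = b := by rw [Perm.mul_apply, hba, swap_apply_left]
  have hd : _root_.Disjoint (swap a b).support (swap a b * x).support := by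
    rw [support_swap hne, Finset.disjoint_left]
    intro u hu
    simp only [Finset.mem_insert, Finset.mem_singleton] at hu
    rw [notMem_support]
    rcases hu with rfl | rfl
    · exact ha'
    · exact hb'
  have he : x = swap a b * (swap a b * x) := by rw [← mul_assoc, swap_mul_self, one_mul]
  refine ⟨swap a b * x, he, ?_, ha', hb', h', ?_, hd, ?_⟩
  · ext u
    by_cases h1 : u = a
    · rw [h1, Perm.mul_apply, ha', ha', Perm.one_apply]
    by_cases h2 : u = b
    · rw [h2, Perm.mul_apply, hb', hb', Perm.one_apply]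
    have h3 : x (x u) = u := by rw [← Perm.mul_apply, hx, Perm.one_apply]
    rw [Perm.mul_apply, h' u h1 h2, h' (x u) (fun h => h2 (x.injective (h.trans hba.symm)))
      (fun h => h1 (x.injective (h.trans hab.symm))), h3, Perm.one_apply]
  · intro u hu
    by_cases h1 : u = a
    · exact absurd (h1 ▸ ha') (mem_support.1 (h1 ▸ hu))
    by_cases h2 : u = b
    · exact absurd (h2 ▸ hb') (mem_support.1 (h2 ▸ hu))
    rw [mem_support] at hu ⊢
    rwa [h' u h1 h2] at hu
  · have := (perm_disjoint_of hd).card_support_mul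
    rw [← he, card_support_swap hne] at this
    omega

/-- In an exceptional pair the four points are `p, x p, y (x p), x (y (x p))`. -/
theorem ExcPair.points {x y : Perm α} (h : ExcPair x y) (hx : x * x = 1) (hy : y * y = 1) {p : α}
    (hp : p ∈ x.support ∪ y.support) :
    ∃ q r s, p ≠ q ∧ p ≠ r ∧ p ≠ s ∧ q ≠ r ∧ q ≠ s ∧ r ≠ s ∧
      x p = q ∧ x = swap p q * swap r s ∧ y = swap q r * swap p s ∧
      x.support ∪ y.support = {p, q, r, s} := by
  have hxx : ∀ u, x (x u) = u := fun u => by rw [← Perm.mul_apply, hx, Perm.one_apply]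
  have hyy : ∀ u, y (y u) = u := fun u => by rw [← Perm.mul_apply, hy, Perm.one_apply]
  have hclx : ∀ u ∈ x.support ∪ y.support, x u ∈ x.support ∪ y.support := fun u hu =>
    Finset.mem_union_left _ (by rw [mem_support, hxx]; exact (h.movex u hu).symm)
  have hcly : ∀ u ∈ x.support ∪ y.support, y u ∈ x.support ∪ y.support := fun u hu =>
    Finset.mem_union_right _ (by rw [mem_support, hyy]; exact (h.movey u hu).symm)
  obtain ⟨q, hq⟩ : ∃ q, x p = q := ⟨_, rfl⟩
  obtain ⟨r, hr⟩ : ∃ r, y q = r := ⟨_, rfl⟩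
  obtain ⟨s, hs⟩ : ∃ s, x r = s := ⟨_, rfl⟩
  have hqU : q ∈ x.support ∪ y.support := hq ▸ hclx p hp
  have hrU : r ∈ x.support ∪ y.support := hr ▸ hcly q hqU
  have hsU : s ∈ x.support ∪ y.support := hs ▸ hclx r hrU
  have hxq : x q = p := by rw [← hq, hxx]
  have hpq : p ≠ q := fun e => h.movex p hp (hq.trans e.symm)
  have hqr : q ≠ r := fun e => h.movey q hqU (hr.trans e.symm)
  have hrs : r ≠ s := fun e => h.movex r hrU (hs.trans e.symm)
  have hpr : p ≠ r := fun e => h.ne q hqU (by rw [hxq, hr, e])
  have hqs : q ≠ s := fun e => hpr (x.injective (by rw [hq, hs, e]))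
  have hps : p ≠ s := fun e => hqr (x.injective (by rw [hxq, hs, e]))
  have hset : x.support ∪ y.support = {p, q, r, s} := by
    refine (Finset.eq_of_subset_of_card_le ?_ ?_).symm
    · intro u hu
      simp only [Finset.mem_insert, Finset.mem_singleton] at hu
      rcases hu with rfl | rfl | rfl | rfl <;> assumption
    · rw [h.card]
      simp [hpq, hpr, hps, hqr, hqs, hrs]
  have hyp : y p = s := by
    have h1 := hcly p hp
    rw [hset] at h1
    simp only [Finset.mem_insert, Finset.mem_singleton] at h1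
    rcases h1 with h1 | h1 | h1 | h1
    · exact absurd h1 (h.movey p hp)
    · exact absurd (hq.trans h1.symm) (h.ne p hp)
    · exact absurd (y.injective (h1.trans hr.symm)) hpq
    · exact h1
  have hout : ∀ u, u ≠ p → u ≠ q → u ≠ r → u ≠ s → x u = u ∧ y u = u := by
    intro u h1 h2 h3 h4
    have h5 : u ∉ x.support ∪ y.support := by rw [hset]; simp [h1, h2, h3, h4]
    simpa [notMem_support] using h5
  have hxs : x s = r := by rw [← hs, hxx]
  have hyr : y r = q := by rw [← hr, hyy]
  have hys : y s = p := by rw [← hyp, hyy]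
  refine ⟨q, r, s, hpq, hpr, hps, hqr, hqs, hrs, hq, ?_, ?_, hset⟩
  · ext u
    by_cases h1 : u = p
    · subst h1; simp [hq, swap_apply_of_ne_of_ne hpr hps]
    by_cases h2 : u = q
    · subst h2; simp [hxq, swap_apply_of_ne_of_ne hqr hqs]
    by_cases h3 : u = r
    · subst h3; simp [hs, swap_apply_of_ne_of_ne hps.symm hqs.symm]
    by_cases h4 : u = s
    · subst h4; simp [hxs, swap_apply_of_ne_of_ne hpr.symm hqr.symm]
    simp [(hout u h1 h2 h3 h4).1, swap_apply_of_ne_of_ne h1 h2, swap_apply_of_ne_of_ne h3 h4]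
  · ext u
    by_cases h1 : u = p
    · subst h1; simp [hyp, swap_apply_of_ne_of_ne hqs.symm hrs.symm]
    by_cases h2 : u = q
    · subst h2; simp [hr, swap_apply_of_ne_of_ne hpq.symm hqs]
    by_cases h3 : u = r
    · subst h3; simp [hyr, swap_apply_of_ne_of_ne hpr.symm hrs]
    by_cases h4 : u = s
    · subst h4; simp [hys, swap_apply_of_ne_of_ne hpq hpr]
    simp [(hout u h1 h2 h3 h4).2, swap_apply_of_ne_of_ne h2 h3, swap_apply_of_ne_of_ne h1 h4]

theorem support_viaEmbeddingHom {k : ℕ} (f : Fin k ↪ α) (p : Perm (Fin k)) :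
    (viaEmbeddingHom f p).support = p.support.map f := by
  ext u
  simp only [mem_support, Finset.mem_map, viaEmbeddingHom_apply]
  by_cases hu : u ∈ Set.range f
  · obtain ⟨i, rfl⟩ := hu
    rw [viaEmbedding_apply]
    simp
  · rw [viaEmbedding_apply_of_notMem _ _ _ hu]
    simp only [ne_eq, not_true_eq_false, false_iff, not_exists, not_and]
    exact fun i _ hi => hu ⟨i, hi⟩

theorem eq_viaEmbeddingHom {k : ℕ} (f : Fin k ↪ α) (p : Perm (Fin k)) (x : Perm α)
    (h1 : ∀ i, x (f i) = f (p i)) (h2 : ∀ u, u ∉ Set.range f → x u = u) :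
    x = viaEmbeddingHom f p := by
  ext u
  rw [viaEmbeddingHom_apply]
  by_cases hu : u ∈ Set.range f
  · obtain ⟨i, rfl⟩ := hu
    rw [viaEmbedding_apply, h1]
  · rw [viaEmbedding_apply_of_notMem _ _ _ hu, h2 u hu]

theorem viaEmbeddingHom_swap {k : ℕ} (f : Fin k ↪ α) (i j : Fin k) :
    viaEmbeddingHom f (swap i j) = swap (f i) (f j) := by
  refine (eq_viaEmbeddingHom f _ _ (fun l => ?_) fun u hu => ?_).symm
  · exact (f.injective.map_swap i j l).symm
  · exact swap_apply_of_ne_of_ne (fun h => hu ⟨i, h.symm⟩) (fun h => hu ⟨j, h.symm⟩)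

/-- Transport of a model along an embedding. -/
theorem oddLink_model {k : ℕ} (f : Fin k ↪ α) {xm ym zm : Perm (Fin k)} {s t : ℕ}
    (hm : zm * zm = 1 ∧ zm.support ⊆ xm.support ∪ ym.support ∧
      zm.support.card = xm.support.card ∧ (xm * zm) ^ s = 1 ∧ (ym * zm) ^ t = 1)
    (hs : Odd s) (ht : Odd t) :
    OddLink (viaEmbeddingHom f xm) (viaEmbeddingHom f ym) (viaEmbeddingHom f zm) := by
  obtain ⟨h1, h2, h3, h4, h5⟩ := hm
  refine ⟨by rw [← map_mul, h1, map_one], ?_, ?_, ?_, ?_⟩
  · simp only [support_viaEmbeddingHom, ← Finset.map_union]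
    exact Finset.map_subset_map.2 h2
  · simp only [support_viaEmbeddingHom, Finset.card_map, h3]
  · rw [← map_mul]
    exact odd_orderOf_of_pow hs (by rw [← map_pow, h4, map_one])
  · rw [← map_mul]
    exact odd_orderOf_of_pow ht (by rw [← map_pow, h5, map_one])

end Cfsg.Agent.H29
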