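import Cfsg.Agent.H29.OddProductGraph

/-!
The induction: every two involutions of equal support size have a common neighbour in the
odd-product graph, or form an exceptional pair.
-/

set_option autoImplicit false

namespace Cfsg.Agent.H29

open Equiv Equiv.Perm

variable {α : Type*} [DecidableEq α] [Fintype α]

theorem injective_of_nodup {k : ℕ} {f : Fin k → α} (h : (List.ofFn f).Nodup) :
    Function.Injective f :=
  List.nodup_ofFn.1 h

theorem notMem_union_of_fixed {x y : Perm α} {u : α} (h1 : x u = u) (h2 : y u = u) :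
    u ∉ x.support ∪ y.support := by
  simp [h1, h2]

theorem fixed_of_notMem_union {x y : Perm α} {u : α} (h : u ∉ x.support ∪ y.support) :
    x u = u ∧ y u = u := by
  simpa [notMem_support] using h

/-- The induction statement below the bound `m`. -/
def LinkBelow (α : Type*) [DecidableEq α] [Fintype α] (m : ℕ) : Prop :=
  ∀ x y : Perm α, (x.support ∪ y.support).card < m → x * x = 1 → y * y = 1 →
    x.support.card = y.support.card → (∃ z, OddLink x y z) ∨ ExcPair x y

theorem card_union_lt {x y x' y' : Perm α} (hx : x'.support ⊆ x.support ∪ y.support)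
    (hy : y'.support ⊆ x.support ∪ y.support) {a : α} (ha : a ∈ x.support ∪ y.support)
    (hxa : x' a = a) (hya : y' a = a) :
    (x'.support ∪ y'.support).card < (x.support ∪ y.support).card :=
  Finset.card_lt_card ⟨Finset.union_subset hx hy,
    fun h => notMem_union_of_fixed hxa hya (h ha)⟩

/-- Stripping the end of a path. -/
theorem link_strip {m : ℕ} (hIH : LinkBelow α m) {x y : Perm α}
    (hm : (x.support ∪ y.support).card ≤ m) (hx : x * x = 1) (hy : y * y = 1)
    (hc : x.support.card = y.support.card) {a b c : α} (hya : y a = a) (hab : x a = b)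
    (hne : a ≠ b) (hbc : y b = c) (hne' : b ≠ c) : ∃ z, OddLink x y z := by
  have hac : a ≠ c := by
    intro h
    apply hne
    apply y.injective
    rw [hya, hbc, h]
  obtain ⟨x', hxe, hx'2, hx'a, hx'b, hx'o, hx's, hx'd, hx'c⟩ := exists_peel hx hab hne
  obtain ⟨y', hye, hy'2, hy'b, hy'c, hy'o, hy's, hy'd, hy'k⟩ := exists_peel hy hbc hne'
  have hy'a : y' a = a := by rw [hy'o a hne hac, hya]
  have haU : a ∈ x.support ∪ y.support :=
    Finset.mem_union_left _ (mem_support.2 (by rw [hab]; exact hne.symm))
  have hsub : x'.support ∪ y'.support ⊆ x.support ∪ y.support :=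
    Finset.union_subset_union hx's hy's
  have hlt := card_union_lt (hx's.trans Finset.subset_union_left)
    (hy's.trans Finset.subset_union_right) haU hx'a hy'a
  have haU' := notMem_union_of_fixed hx'a hy'a
  have hbU' := notMem_union_of_fixed hx'b hy'b
  rcases hIH x' y' (by omega) hx'2 hy'2 (by omega) with ⟨z, hz⟩ | hexc
  · have hza : z a = a := notMem_support.1 fun h => haU' (hz.supp h)
    have hzb : z b = b := notMem_support.1 fun h => hbU' (hz.supp h)
    have dz : Perm.Disjoint (swap a b) z := by
      intro u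
      by_cases h1 : u = a
      · exact Or.inr (by rw [h1, hza])
      by_cases h2 : u = b
      · exact Or.inr (by rw [h2, hzb])
      exact Or.inl (swap_apply_of_ne_of_ne h1 h2)
    refine ⟨swap a b * z, ?_, ?_, ?_, ?_, ?_⟩
    · rw [dz.commute.symm.mul_mul_mul_comm, swap_mul_self, hz.sq, one_mul]
    · rw [dz.support_mul, support_swap hne]
      refine Finset.union_subset ?_ (hz.supp.trans hsub)
      intro u hu
      simp only [Finset.mem_insert, Finset.mem_singleton] at hu
      rcases hu with rfl | rfl
      · exact haU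
      · exact Finset.mem_union_right _ (mem_support.2 (by rw [hbc]; exact hne'.symm))
    · rw [dz.card_support_mul, card_support_swap hne, hz.card]
      omega
    · rw [hxe, (perm_disjoint_of hx'd).commute.symm.mul_mul_mul_comm, swap_mul_self, one_mul]
      exact hz.oddx
    · have hd : Perm.Disjoint y' (swap a b) := by
        intro u
        by_cases h1 : u = a
        · exact Or.inl (by rw [h1, hy'a])
        by_cases h2 : u = b
        · exact Or.inl (by rw [h2, hy'b])
        exact Or.inr (swap_apply_of_ne_of_ne h1 h2)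
      rw [hye, hd.commute.mul_mul_mul_comm, swap_comm b c, swap_comm a b]
      exact odd_orderOf_insert hz.oddy (by rw [Perm.mul_apply, hza, hy'a])
        (by rw [Perm.mul_apply, hzb, hy'b]) hne hac.symm hne'.symm
  · have hne0 : (x'.support ∪ y'.support).Nonempty := Finset.card_pos.1 (by rw [hexc.card]; omega)
    obtain ⟨p, hp⟩ := hne0
    obtain ⟨q, r, s, hpq, hpr, hps, hqr, hqs, hrs, -, hx'e, hy'e, hset⟩ :=
      hexc.points hx'2 hy'2 hp
    have hcU' : c ∉ x'.support ∪ y'.support := fun h => hexc.movey c h hy'c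
    rw [hset] at haU' hbU' hcU'
    simp only [Finset.mem_insert, Finset.mem_singleton, not_or] at haU' hbU' hcU'
    have hinj : Function.Injective ![p, q, r, s, a, b, c] := by
      apply injective_of_nodup
      simp [hpq, hpr, hps, hqr, hqs, hrs, hne, hne', hac, haU', hbU', hcU', Ne.symm]
    have h := oddLink_model ⟨_, hinj⟩
      (xm := swap (4 : Fin 7) 5 * (swap 0 1 * swap 2 3))
      (ym := swap (5 : Fin 7) 6 * (swap 1 2 * swap 0 3))
      (zm := swap (0 : Fin 7) 1 * (swap 2 4 * swap 5 6))
      (s := 5) (t := 5) (by decide +kernel) (by decide) (by decide)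
    simp only [map_mul, viaEmbeddingHom_swap, Function.Embedding.coeFn_mk,
      Matrix.cons_val, Matrix.cons_val_zero, Matrix.cons_val_one] at h
    exact ⟨_, by rw [hxe, hye, hx'e, hy'e]; exact h⟩

/-- A pair of isolated edges. -/
theorem link_pair {m : ℕ} (hIH : LinkBelow α m) {x y : Perm α}
    (hm : (x.support ∪ y.support).card ≤ m) (hx : x * x = 1) (hy : y * y = 1)
    (hc : x.support.card = y.support.card) {a b c d : α} (hab : x a = b) (hne : a ≠ b)
    (hya : y a = a) (hyb : y b = b) (hcd : y c = d) (hne' : c ≠ d) (hxc : x c = c)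
    (hxd : x d = d) : ∃ z, OddLink x y z := by
  obtain ⟨x', hxe, hx'2, hx'a, hx'b, hx'o, hx's, hx'd, hx'c⟩ := exists_peel hx hab hne
  obtain ⟨y', hye, hy'2, hy'c, hy'd', hy'o, hy's, hy'd, hy'k⟩ := exists_peel hy hcd hne'
  have hba : x b = a := by rw [← hab, ← Perm.mul_apply, hx, Perm.one_apply]
  have hac : a ≠ c := fun h => hne (by rw [← hab, h, hxc])
  have had : a ≠ d := fun h => hne (by rw [← hab, h, hxd])
  have hbc : b ≠ c := fun h => hne (by rw [← hba, h, hxc])
  have hbd : b ≠ d := fun h => hne (by rw [← hba, h, hxd])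
  have hy'a : y' a = a := by rw [hy'o a hac had, hya]
  have hy'b : y' b = b := by rw [hy'o b hbc hbd, hyb]
  have hx'c' : x' c = c := by rw [hx'o c hac.symm hbc.symm, hxc]
  have hx'd' : x' d = d := by rw [hx'o d had.symm hbd.symm, hxd]
  have haU : a ∈ x.support ∪ y.support :=
    Finset.mem_union_left _ (mem_support.2 (by rw [hab]; exact hne.symm))
  have hlt := card_union_lt (hx's.trans Finset.subset_union_left)
    (hy's.trans Finset.subset_union_right) haU hx'a hy'a
  have haU' := notMem_union_of_fixed hx'a hy'a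
  have hbU' := notMem_union_of_fixed hx'b hy'b
  have hcU' := notMem_union_of_fixed hx'c' hy'c
  have hdU' := notMem_union_of_fixed hx'd' hy'd'
  rcases hIH x' y' (by omega) hx'2 hy'2 (by omega) with ⟨z, hz⟩ | hexc
  · have hinj : Function.Injective ![a, b, c, d] := by
      apply injective_of_nodup
      simp [hne, hne', hac, had, hbc, hbd]
    have h := oddLink_model ⟨_, hinj⟩ (xm := swap (0 : Fin 4) 1) (ym := swap (2 : Fin 4) 3)
      (zm := swap (1 : Fin 4) 2) (s := 3) (t := 3) (by decide +kernel) (by decide) (by decide)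
    simp only [viaEmbeddingHom_swap, Function.Embedding.coeFn_mk,
      Matrix.cons_val, Matrix.cons_val_zero, Matrix.cons_val_one] at h
    refine ⟨swap b c * z, ?_⟩
    rw [hxe, hye]
    refine h.combine hz ?_
    rw [Finset.disjoint_left]
    intro u hu
    rw [support_swap hne, support_swap hne'] at hu
    simp only [Finset.mem_union, Finset.mem_insert, Finset.mem_singleton] at hu
    rcases hu with (rfl | rfl) | (rfl | rfl) <;> assumption
  · obtain ⟨p, hp⟩ : (x'.support ∪ y'.support).Nonempty :=
      Finset.card_pos.1 (by rw [hexc.card]; omega)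
    obtain ⟨q, r, s, hpq, hpr, hps, hqr, hqs, hrs, -, hx'e, hy'e, hset⟩ :=
      hexc.points hx'2 hy'2 hp
    rw [hset] at haU' hbU' hcU' hdU'
    simp only [Finset.mem_insert, Finset.mem_singleton, not_or] at haU' hbU' hcU' hdU'
    have hinj : Function.Injective ![p, q, r, s, a, b, c, d] := by
      apply injective_of_nodup
      simp [hpq, hpr, hps, hqr, hqs, hrs, hne, hne', hac, had, hbc, hbd, haU', hbU', hcU', hdU',
        Ne.symm]
    have h := oddLink_model ⟨_, hinj⟩
      (xm := swap (4 : Fin 8) 5 * (swap 0 1 * swap 2 3))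
      (ym := swap (6 : Fin 8) 7 * (swap 1 2 * swap 0 3))
      (zm := swap (0 : Fin 8) 1 * (swap 2 4 * swap 3 6))
      (s := 5) (t := 7) (by decide +kernel) (by decide) (by decide)
    simp only [map_mul, viaEmbeddingHom_swap, Function.Embedding.coeFn_mk,
      Matrix.cons_val, Matrix.cons_val_zero, Matrix.cons_val_one] at h
    exact ⟨_, by rw [hxe, hye, hx'e, hy'e]; exact h⟩

/-- A shared transposition. -/
theorem link_shared {m : ℕ} (hIH : LinkBelow α m) {x y : Perm α}
    (hm : (x.support ∪ y.support).card ≤ m) (hx : x * x = 1) (hy : y * y = 1)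
    (hc : x.support.card = y.support.card) {a b : α} (hab : x a = b) (hne : a ≠ b)
    (hyab : y a = b) : ∃ z, OddLink x y z := by
  obtain ⟨x', hxe, hx'2, hx'a, hx'b, hx'o, hx's, hx'd, hx'c⟩ := exists_peel hx hab hne
  obtain ⟨y', hye, hy'2, hy'a, hy'b, hy'o, hy's, hy'd, hy'k⟩ := exists_peel hy hyab hne
  have haU : a ∈ x.support ∪ y.support :=
    Finset.mem_union_left _ (mem_support.2 (by rw [hab]; exact hne.symm))
  have hlt := card_union_lt (hx's.trans Finset.subset_union_left)
    (hy's.trans Finset.subset_union_right) haU hx'a hy'a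
  have haU' := notMem_union_of_fixed hx'a hy'a
  have hbU' := notMem_union_of_fixed hx'b hy'b
  rcases hIH x' y' (by omega) hx'2 hy'2 (by omega) with ⟨z, hz⟩ | hexc
  · refine ⟨swap a b * z, ?_⟩
    rw [hxe, hye]
    refine (oddLink_self (swap_mul_self a b)).combine hz ?_
    rw [Finset.disjoint_left]
    intro u hu
    rw [Finset.union_self, support_swap hne] at hu
    simp only [Finset.mem_insert, Finset.mem_singleton] at hu
    rcases hu with rfl | rfl <;> assumption
  · obtain ⟨p, hp⟩ : (x'.support ∪ y'.support).Nonempty :=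
      Finset.card_pos.1 (by rw [hexc.card]; omega)
    obtain ⟨q, r, s, hpq, hpr, hps, hqr, hqs, hrs, -, hx'e, hy'e, hset⟩ :=
      hexc.points hx'2 hy'2 hp
    rw [hset] at haU' hbU'
    simp only [Finset.mem_insert, Finset.mem_singleton, not_or] at haU' hbU'
    have hinj : Function.Injective ![p, q, r, s, a, b] := by
      apply injective_of_nodup
      simp [hpq, hpr, hps, hqr, hqs, hrs, hne, haU', hbU', Ne.symm]
    have h := oddLink_model ⟨_, hinj⟩
      (xm := swap (4 : Fin 6) 5 * (swap 0 1 * swap 2 3))
      (ym := swap (4 : Fin 6) 5 * (swap 1 2 * swap 0 3))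
      (zm := swap (0 : Fin 6) 2 * (swap 1 4 * swap 3 5))
      (s := 3) (t := 3) (by decide +kernel) (by decide) (by decide)
    simp only [map_mul, viaEmbeddingHom_swap, Function.Embedding.coeFn_mk,
      Matrix.cons_val, Matrix.cons_val_zero, Matrix.cons_val_one] at h
    exact ⟨_, by rw [hxe, hye, hx'e, hy'e]; exact h⟩

theorem chain_identity :
    swap (0 : Fin 6) 1 * swap 2 3 * swap 4 5 * swap 0 5 * (swap 1 2 * swap 3 4) =
      (swap (0 : Fin 6) 4 * swap 4 2) * (swap 5 1 * swap 1 3) := by
  decide

/-- A chain of three transpositions of `x` contracts to one. -/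
theorem link_chain {m : ℕ} (hIH : LinkBelow α m) {x y : Perm α}
    (hm : (x.support ∪ y.support).card ≤ m) (hx : x * x = 1) (hy : y * y = 1)
    (hc : x.support.card = y.support.card) {a b c d e f : α}
    (hinj : Function.Injective ![a, b, c, d, e, f])
    (hab : x a = b) (hbc : y b = c) (hcd : x c = d) (hde : y d = e) (hef : x e = f) :
    ∃ z, OddLink x y z := by
  have hne : ∀ i j : Fin 6, i ≠ j → ![a, b, c, d, e, f] i ≠ ![a, b, c, d, e, f] j :=
    fun i j h h' => h (hinj h')
  have nab : a ≠ b := hne 0 1 (by decide)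
  have nac : a ≠ c := hne 0 2 (by decide)
  have nad : a ≠ d := hne 0 3 (by decide)
  have nae : a ≠ e := hne 0 4 (by decide)
  have naf : a ≠ f := hne 0 5 (by decide)
  have nbc : b ≠ c := hne 1 2 (by decide)
  have nbd : b ≠ d := hne 1 3 (by decide)
  have nbe : b ≠ e := hne 1 4 (by decide)
  have nbf : b ≠ f := hne 1 5 (by decide)
  have ncd : c ≠ d := hne 2 3 (by decide)
  have nce : c ≠ e := hne 2 4 (by decide)
  have ncf : c ≠ f := hne 2 5 (by decide)
  have nde : d ≠ e := hne 3 4 (by decide)
  have ndf : d ≠ f := hne 3 5 (by decide)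
  have nef : e ≠ f := hne 4 5 (by decide)
  obtain ⟨x1, hxe1, hx12, hx1a, hx1b, hx1o, hx1s, -, hx1c⟩ := exists_peel hx hab nab
  obtain ⟨x2, hxe2, hx22, hx2c', hx2d, hx2o, hx2s, -, hx2c⟩ := exists_peel hx12
    ((hx1o c nac.symm nbc.symm).trans hcd) ncd
  obtain ⟨x3, hxe3, hx32, hx3e, hx3f, hx3o, hx3s, -, hx3c⟩ := exists_peel hx22
    (((hx2o e nce.symm nde.symm).trans (hx1o e nae.symm nbe.symm)).trans hef) nef
  have hx3a : x3 a = a := by rw [hx3o a nae naf, hx2o a nac nad, hx1a]
  have hx3b : x3 b = b := by rw [hx3o b nbe nbf, hx2o b nbc nbd, hx1b]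
  have hx3c' : x3 c = c := by rw [hx3o c nce ncf, hx2c']
  have hx3d : x3 d = d := by rw [hx3o d nde ndf, hx2d]
  obtain ⟨y1, hye1, hy12, hy1b, hy1c', hy1o, hy1s, -, hy1c⟩ := exists_peel hy hbc nbc
  obtain ⟨y', hye2, hy'2, hy'd, hy'e, hy'o, hy's, -, hy'k⟩ := exists_peel hy12
    ((hy1o d nbd.symm ncd.symm).trans hde) nde
  have hy'b : y' b = b := by rw [hy'o b nbd nbe, hy1b]
  have hy'c : y' c = c := by rw [hy'o c ncd nce, hy1c']
  have daf : Perm.Disjoint (swap a f) x3 := by
    intro u
    by_cases h1 : u = a
    · exact Or.inr (by rw [h1, hx3a])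
    by_cases h2 : u = f
    · exact Or.inr (by rw [h2, hx3f])
    exact Or.inl (swap_apply_of_ne_of_ne h1 h2)
  set x' := swap a f * x3 with hx'
  have hx'2 : x' * x' = 1 := by
    rw [hx', daf.commute.symm.mul_mul_mul_comm, swap_mul_self, hx32, one_mul]
  have hx'b : x' b = b := by rw [hx', Perm.mul_apply, hx3b, swap_apply_of_ne_of_ne nab.symm nbf]
  have hx'c : x' c = c := by rw [hx', Perm.mul_apply, hx3c', swap_apply_of_ne_of_ne nac.symm ncf]
  have hx'd : x' d = d := by rw [hx', Perm.mul_apply, hx3d, swap_apply_of_ne_of_ne nad.symm ndf]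
  have hx'e : x' e = e := by rw [hx', Perm.mul_apply, hx3e, swap_apply_of_ne_of_ne nae.symm nef]
  have hx'card : x'.support.card + 4 = x.support.card := by
    rw [hx', daf.card_support_mul, card_support_swap naf]
    omega
  have hxmem : ∀ u v, x u = v → u ≠ v → u ∈ x.support ∧ v ∈ x.support := by
    intro u v h h'
    have hv : x v = u := by rw [← h, ← Perm.mul_apply, hx, Perm.one_apply]
    exact ⟨mem_support.2 (by rw [h]; exact h'.symm), mem_support.2 (by rw [hv]; exact h')⟩
  have hx's : x'.support ⊆ x.support := by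
    rw [hx', daf.support_mul, support_swap naf]
    refine Finset.union_subset ?_ ((hx3s.trans hx2s).trans hx1s)
    intro u hu
    simp only [Finset.mem_insert, Finset.mem_singleton] at hu
    rcases hu with rfl | rfl
    · exact (hxmem _ _ hab nab).1
    · exact (hxmem _ _ hef nef).2
  have hy's' : y'.support ⊆ y.support := hy's.trans hy1s
  have hbU : b ∈ x.support ∪ y.support := Finset.mem_union_left _ (hxmem _ _ hab nab).2
  have hlt := card_union_lt (hx's.trans Finset.subset_union_left)
    (hy's'.trans Finset.subset_union_right) hbU hx'b hy'b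
  have hbU' := notMem_union_of_fixed hx'b hy'b
  have hcU' := notMem_union_of_fixed hx'c hy'c
  have hdU' := notMem_union_of_fixed hx'd hy'd
  have heU' := notMem_union_of_fixed hx'e hy'e
  have hxeq : x = swap a b * (swap c d * (swap e f * x3)) := by rw [← hxe3, ← hxe2, ← hxe1]
  have hyeq : y = swap b c * (swap d e * y') := by rw [← hye2, ← hye1]
  rcases hIH x' y' (by omega) hx'2 hy'2 (by omega) with ⟨z, hz⟩ | hexc
  · have dB : ∀ w : Perm α, w b = b → w c = c → w d = d → w e = e →
        Perm.Disjoint (swap b c * swap d e) w := by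
      intro w h1 h2 h3 h4 u
      by_cases k1 : u = b
      · exact Or.inr (by rw [k1, h1])
      by_cases k2 : u = c
      · exact Or.inr (by rw [k2, h2])
      by_cases k3 : u = d
      · exact Or.inr (by rw [k3, h3])
      by_cases k4 : u = e
      · exact Or.inr (by rw [k4, h4])
      exact Or.inl (by
        rw [Perm.mul_apply, swap_apply_of_ne_of_ne k3 k4, swap_apply_of_ne_of_ne k1 k2])
    have hzb : z b = b := notMem_support.1 fun h => hbU' (hz.supp h)
    have hzc : z c = c := notMem_support.1 fun h => hcU' (hz.supp h)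
    have hzd : z d = d := notMem_support.1 fun h => hdU' (hz.supp h)
    have hze : z e = e := notMem_support.1 fun h => heU' (hz.supp h)
    have dz := dB z hzb hzc hzd hze
    have dsw : Perm.Disjoint (swap b c) (swap d e) := by
      intro u
      by_cases k1 : u = b
      · exact Or.inr (by rw [k1, swap_apply_of_ne_of_ne nbd nbe])
      by_cases k2 : u = c
      · exact Or.inr (by rw [k2, swap_apply_of_ne_of_ne ncd nce])
      exact Or.inl (swap_apply_of_ne_of_ne k1 k2)
    refine ⟨swap b c * swap d e * z, ?_, ?_, ?_, ?_, ?_⟩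
    · rw [dz.commute.symm.mul_mul_mul_comm, dsw.commute.symm.mul_mul_mul_comm, swap_mul_self,
        swap_mul_self, hz.sq, one_mul, one_mul]
    · rw [dz.support_mul, dsw.support_mul, support_swap nbc, support_swap nde]
      refine Finset.union_subset ?_ (hz.supp.trans (Finset.union_subset_union hx's hy's'))
      intro u hu
      refine Finset.mem_union_left _ ?_
      simp only [Finset.mem_union, Finset.mem_insert, Finset.mem_singleton] at hu
      rcases hu with (rfl | rfl) | (rfl | rfl)
      · exact (hxmem _ _ hab nab).2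
      · exact (hxmem _ _ hcd ncd).1
      · exact (hxmem _ _ hcd ncd).2
      · exact (hxmem _ _ hef nef).1
    · rw [dz.card_support_mul, dsw.card_support_mul, card_support_swap nbc, card_support_swap nde,
        hz.card]
      omega
    · have hP : swap a b * swap c d * swap e f * swap a f * (swap b c * swap d e) =
          (swap a e * swap e c) * (swap f b * swap b d) := by
        have h := congrArg (viaEmbeddingHom ⟨_, hinj⟩) chain_identity
        simpa only [map_mul, viaEmbeddingHom_swap, Function.Embedding.coeFn_mk,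
          Matrix.cons_val, Matrix.cons_val_zero, Matrix.cons_val_one] using h
      have hx3x : x3 = swap a f * x' := by rw [hx', ← mul_assoc, swap_mul_self, one_mul]
      have hkey : x * (swap b c * swap d e * z) =
          (swap a e * swap e c) * ((swap f b * swap b d) * (x' * z)) := by
        calc x * (swap b c * swap d e * z)
            = swap a b * swap c d * swap e f * swap a f * (x' * (swap b c * swap d e)) * z := by
              rw [hxeq, hx3x]; simp only [mul_assoc]
          _ = swap a b * swap c d * swap e f * swap a f * ((swap b c * swap d e) * x') * z := by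
              rw [(dB x' hx'b hx'c hx'd hx'e).commute.eq]
          _ = (swap a b * swap c d * swap e f * swap a f * (swap b c * swap d e)) * (x' * z) := by
              simp only [mul_assoc]
          _ = _ := by rw [hP]; simp only [mul_assoc]
      rw [hkey]
      refine odd_orderOf_insert ?_ ?_ ?_ nce nac nae
      · exact odd_orderOf_insert hz.oddx (by rw [Perm.mul_apply, hzd, hx'd])
          (by rw [Perm.mul_apply, hzb, hx'b]) nbd.symm ndf.symm nbf.symm
      · rw [Perm.mul_apply, Perm.mul_apply, Perm.mul_apply, hzc, hx'c,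
          swap_apply_of_ne_of_ne nbc.symm ncd, swap_apply_of_ne_of_ne ncf nbc.symm]
      · rw [Perm.mul_apply, Perm.mul_apply, Perm.mul_apply, hze, hx'e,
          swap_apply_of_ne_of_ne nbe.symm nde.symm, swap_apply_of_ne_of_ne nef nbe.symm]
    · rw [hyeq, ← mul_assoc (swap b c) (swap d e) y',
        (dB y' hy'b hy'c hy'd hy'e).commute.symm.mul_mul_mul_comm,
        dsw.commute.symm.mul_mul_mul_comm, swap_mul_self, swap_mul_self, one_mul, one_mul]
      exact hz.oddy
  · have haU' : a ∈ x'.support ∪ y'.support := Finset.mem_union_left _ (by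
      rw [mem_support, hx', Perm.mul_apply, hx3a, swap_apply_left]; exact naf.symm)
    obtain ⟨q, r, s, hpq, hpr, hps, hqr, hqs, hrs, hq, hx'eq, hy'eq, hset⟩ :=
      hexc.points hx'2 hy'2 haU'
    have hqf : q = f := by rw [← hq, hx', Perm.mul_apply, hx3a, swap_apply_left]
    subst hqf
    have hx3eq : x3 = swap r s := by
      have h1 : swap a q * x3 = swap a q * swap r s := by rw [← hx', hx'eq]
      exact mul_left_cancel h1
    rw [hset] at hbU' hcU' hdU' heU'
    simp only [Finset.mem_insert, Finset.mem_singleton, not_or] at hbU' hcU' hdU' heU'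
    have hinj8 : Function.Injective ![a, b, c, d, e, q, r, s] := by
      apply injective_of_nodup
      simp [nab, nac, nad, nae, naf, nbc, nbd, nbe, ncd, nce, nde, hpr, hps, hqr, hqs, hrs, hbU',
        hcU', hdU', heU']
    have h := oddLink_model ⟨_, hinj8⟩
      (xm := swap (0 : Fin 8) 1 * (swap 2 3 * (swap 4 5 * swap 6 7)))
      (ym := swap (1 : Fin 8) 2 * (swap 3 4 * (swap 5 6 * swap 0 7)))
      (zm := swap (0 : Fin 8) 1 * (swap 2 4 * (swap 3 7 * swap 5 6)))
      (s := 3) (t := 3) (by decide +kernel) (by decide) (by decide)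
    simp only [map_mul, viaEmbeddingHom_swap, Function.Embedding.coeFn_mk,
      Matrix.cons_val, Matrix.cons_val_zero, Matrix.cons_val_one] at h
    exact ⟨_, by rw [hxeq, hyeq, hy'eq, hx3eq]; exact h⟩

/-- Two squares. -/
theorem link_squares {m : ℕ} (hIH : LinkBelow α m) {x y : Perm α}
    (hm : (x.support ∪ y.support).card ≤ m) (hx : x * x = 1) (hy : y * y = 1)
    (hc : x.support.card = y.support.card) {a b c d e f g h : α}
    (hinj : Function.Injective ![a, b, c, d, e, f, g, h])
    (hab : x a = b) (hcd : x c = d) (hef : x e = f) (hgh : x g = h)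
    (hbc : y b = c) (had : y a = d) (hfg : y f = g) (heh : y e = h) :
    ∃ z, OddLink x y z := by
  have hne : ∀ i j : Fin 8, i ≠ j →
      ![a, b, c, d, e, f, g, h] i ≠ ![a, b, c, d, e, f, g, h] j :=
    fun i j k k' => k (hinj k')
  have nab : a ≠ b := hne 0 1 (by decide)
  have nac : a ≠ c := hne 0 2 (by decide)
  have nad : a ≠ d := hne 0 3 (by decide)
  have nae : a ≠ e := hne 0 4 (by decide)
  have naf : a ≠ f := hne 0 5 (by decide)
  have nag : a ≠ g := hne 0 6 (by decide)
  have nah : a ≠ h := hne 0 7 (by decide)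
  have nbc : b ≠ c := hne 1 2 (by decide)
  have nbd : b ≠ d := hne 1 3 (by decide)
  have nbe : b ≠ e := hne 1 4 (by decide)
  have nbf : b ≠ f := hne 1 5 (by decide)
  have nbg : b ≠ g := hne 1 6 (by decide)
  have nbh : b ≠ h := hne 1 7 (by decide)
  have ncd : c ≠ d := hne 2 3 (by decide)
  have nce : c ≠ e := hne 2 4 (by decide)
  have ncf : c ≠ f := hne 2 5 (by decide)
  have ncg : c ≠ g := hne 2 6 (by decide)
  have nch : c ≠ h := hne 2 7 (by decide)
  have nde : d ≠ e := hne 3 4 (by decide)
  have ndf : d ≠ f := hne 3 5 (by decide)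
  have ndg : d ≠ g := hne 3 6 (by decide)
  have ndh : d ≠ h := hne 3 7 (by decide)
  have nef : e ≠ f := hne 4 5 (by decide)
  have neg : e ≠ g := hne 4 6 (by decide)
  have neh : e ≠ h := hne 4 7 (by decide)
  have nfg : f ≠ g := hne 5 6 (by decide)
  have nfh : f ≠ h := hne 5 7 (by decide)
  have ngh : g ≠ h := hne 6 7 (by decide)
  obtain ⟨x1, hxe1, hx12, hx1a, hx1b, hx1o, hx1s, -, hx1k⟩ := exists_peel hx hab nab
  obtain ⟨x2, hxe2, hx22, hx2c, hx2d, hx2o, hx2s, -, hx2k⟩ := exists_peel hx12
    ((hx1o c nac.symm nbc.symm).trans hcd) ncd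
  obtain ⟨x3, hxe3, hx32, hx3e, hx3f, hx3o, hx3s, -, hx3k⟩ := exists_peel hx22
    (((hx2o e nce.symm nde.symm).trans (hx1o e nae.symm nbe.symm)).trans hef) nef
  obtain ⟨x4, hxe4, hx42, hx4g, hx4h, hx4o, hx4s, -, hx4k⟩ := exists_peel hx32
    ((((hx3o g neg.symm nfg.symm).trans (hx2o g ncg.symm ndg.symm)).trans
      (hx1o g nag.symm nbg.symm)).trans hgh) ngh
  obtain ⟨y1, hye1, hy12, hy1b, hy1c, hy1o, hy1s, -, hy1k⟩ := exists_peel hy hbc nbc
  obtain ⟨y2, hye2, hy22, hy2a, hy2d, hy2o, hy2s, -, hy2k⟩ := exists_peel hy12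
    ((hy1o a nab nac).trans had) nad
  obtain ⟨y3, hye3, hy32, hy3f, hy3g, hy3o, hy3s, -, hy3k⟩ := exists_peel hy22
    (((hy2o f naf.symm ndf.symm).trans (hy1o f nbf.symm ncf.symm)).trans hfg) nfg
  obtain ⟨y4, hye4, hy42, hy4e, hy4h, hy4o, hy4s, -, hy4k⟩ := exists_peel hy32
    ((((hy3o e nef neg).trans (hy2o e nae.symm nde.symm)).trans
      (hy1o e nbe.symm nce.symm)).trans heh) neh
  have ka := notMem_union_of_fixed (x := x4) (y := y4) (u := a)
    (by rw [hx4o a nag nah, hx3o a nae naf, hx2o a nac nad, hx1a])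
    (by rw [hy4o a nae nah, hy3o a naf nag, hy2a])
  have kb := notMem_union_of_fixed (x := x4) (y := y4) (u := b)
    (by rw [hx4o b nbg nbh, hx3o b nbe nbf, hx2o b nbc nbd, hx1b])
    (by rw [hy4o b nbe nbh, hy3o b nbf nbg, hy2o b nab.symm nbd, hy1b])
  have kc := notMem_union_of_fixed (x := x4) (y := y4) (u := c)
    (by rw [hx4o c ncg nch, hx3o c nce ncf, hx2c])
    (by rw [hy4o c nce nch, hy3o c ncf ncg, hy2o c nac.symm ncd, hy1c])
  have kd := notMem_union_of_fixed (x := x4) (y := y4) (u := d)
    (by rw [hx4o d ndg ndh, hx3o d nde ndf, hx2d])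
    (by rw [hy4o d nde ndh, hy3o d ndf ndg, hy2d])
  have ke := notMem_union_of_fixed (x := x4) (y := y4) (u := e)
    (by rw [hx4o e neg neh, hx3e]) hy4e
  have kf := notMem_union_of_fixed (x := x4) (y := y4) (u := f)
    (by rw [hx4o f nfg nfh, hx3f]) (by rw [hy4o f nef.symm nfh, hy3f])
  have kg := notMem_union_of_fixed (x := x4) (y := y4) (u := g)
    hx4g (by rw [hy4o g neg.symm ngh, hy3g])
  have kh := notMem_union_of_fixed (x := x4) (y := y4) (u := h) hx4h hy4h
  have hx4s' : x4.support ⊆ x.support := ((hx4s.trans hx3s).trans hx2s).trans hx1s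
  have hy4s' : y4.support ⊆ y.support := ((hy4s.trans hy3s).trans hy2s).trans hy1s
  have haU : a ∈ x.support ∪ y.support :=
    Finset.mem_union_left _ (mem_support.2 (by rw [hab]; exact nab.symm))
  have hlt := card_union_lt (hx4s'.trans Finset.subset_union_left)
    (hy4s'.trans Finset.subset_union_right) haU
    (fixed_of_notMem_union ka).1 (fixed_of_notMem_union ka).2
  have hxeq : x = swap a b * (swap c d * (swap e f * (swap g h * x4))) := by
    rw [← hxe4, ← hxe3, ← hxe2, ← hxe1]
  have hyeq : y = swap b c * (swap a d * (swap f g * (swap e h * y4))) := by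
    rw [← hye4, ← hye3, ← hye2, ← hye1]
  rcases hIH x4 y4 (by omega) hx42 hy42 (by omega) with ⟨z, hz⟩ | hexc
  · have hM := oddLink_model ⟨_, hinj⟩
      (xm := swap (0 : Fin 8) 1 * swap 2 3 * swap 4 5 * swap 6 7)
      (ym := swap (1 : Fin 8) 2 * swap 0 3 * swap 5 6 * swap 4 7)
      (zm := swap (0 : Fin 8) 1 * swap 2 4 * swap 3 7 * swap 5 6)
      (s := 3) (t := 3) (by decide +kernel) (by decide) (by decide)
    have hc' := hM.combine hz (by
      rw [Finset.disjoint_left]
      intro u hu
      simp only [support_viaEmbeddingHom, Finset.mem_union, Finset.mem_map] at hu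
      rcases hu with ⟨i, -, rfl⟩ | ⟨i, -, rfl⟩ <;>
      · simp only [Function.Embedding.coeFn_mk]
        fin_cases i <;> assumption)
    simp only [map_mul, viaEmbeddingHom_swap, Function.Embedding.coeFn_mk,
      Matrix.cons_val, Matrix.cons_val_zero, Matrix.cons_val_one] at hc'
    rw [hxeq, hyeq]
    simp only [mul_assoc] at hc' ⊢
    exact ⟨_, hc'⟩
  · obtain ⟨p, hp⟩ : (x4.support ∪ y4.support).Nonempty :=
      Finset.card_pos.1 (by rw [hexc.card]; omega)
    obtain ⟨q, r, s, hpq, hpr, hps, hqr, hqs, hrs, -, hx4e', hy4e', hset⟩ :=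
      hexc.points hx42 hy42 hp
    rw [hset] at ka kb kc kd ke kf kg kh
    simp only [Finset.mem_insert, Finset.mem_singleton, not_or] at ka kb kc kd ke kf kg kh
    have hinj12 : Function.Injective ![a, b, c, d, e, f, g, h, p, q, r, s] := by
      apply injective_of_nodup
      simp [nab, nac, nad, nae, naf, nag, nah, nbc, nbd, nbe, nbf, nbg, nbh, ncd, nce, ncf, ncg,
        nch, nde, ndf, ndg, ndh, nef, neg, neh, nfg, nfh, ngh, hpq, hpr, hps, hqr, hqs, hrs,
        ka, kb, kc, kd, ke, kf, kg, kh]
    have hM := oddLink_model ⟨_, hinj12⟩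
      (xm := swap (0 : Fin 12) 1 * (swap 2 3 * (swap 4 5 * (swap 6 7 * (swap 8 9 * swap 10 11)))))
      (ym := swap (1 : Fin 12) 2 * (swap 0 3 * (swap 5 6 * (swap 4 7 * (swap 9 10 * swap 8 11)))))
      (zm := swap (0 : Fin 12) 1 * (swap 2 4 * (swap 3 6 * (swap 5 8 * (swap 7 11 * swap 9 10)))))
      (s := 5) (t := 5) (by decide +kernel) (by decide) (by decide)
    simp only [map_mul, viaEmbeddingHom_swap, Function.Embedding.coeFn_mk,
      Matrix.cons_val, Matrix.cons_val_zero, Matrix.cons_val_one] at hM
    exact ⟨_, by rw [hxeq, hyeq, hx4e', hy4e']; exact hM⟩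

/-- Every two involutions of equal support size are linked, unless exceptional. -/
theorem link_or_exc : ∀ (x y : Perm α), x * x = 1 → y * y = 1 →
    x.support.card = y.support.card → (∃ z, OddLink x y z) ∨ ExcPair x y := by
  suffices H : ∀ m, LinkBelow α m by
    intro x y
    exact H ((x.support ∪ y.support).card + 1) x y (Nat.lt_succ_self _)
  intro m
  induction m with
  | zero => intro x y h; exact absurd h (Nat.not_lt_zero _)
  | succ m ih =>
    intro x y hm hx hy hc
    have hm' : (x.support ∪ y.support).card ≤ m := Nat.lt_succ_iff.1 hm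
    have hxx : ∀ u, x (x u) = u := fun u => by rw [← Perm.mul_apply, hx, Perm.one_apply]
    have hyy : ∀ u, y (y u) = u := fun u => by rw [← Perm.mul_apply, hy, Perm.one_apply]
    by_cases h1 : ∃ a ∈ x.support ∪ y.support, y a = a
    · obtain ⟨a, haU, hya⟩ := h1
      have hax : a ∈ x.support :=
        (Finset.mem_union.1 haU).resolve_right (fun h => mem_support.1 h hya)
      have hxa : x a ≠ a := mem_support.1 hax
      by_cases h2 : y (x a) = x a
      · have hnsub : ¬ y.support ⊆ x.support := by
          intro h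
          have := Finset.eq_of_subset_of_card_le h hc.le
          exact notMem_support.2 hya (this ▸ hax)
        obtain ⟨c, hcy, hcx⟩ := Finset.not_subset.1 hnsub
        rw [notMem_support] at hcx
        have hyc : y c ≠ c := mem_support.1 hcy
        by_cases h3 : x (y c) = y c
        · exact Or.inl (link_pair ih hm' hx hy hc rfl hxa.symm hya h2 rfl hyc.symm hcx h3)
        · obtain ⟨z, hz⟩ := link_strip ih (by rwa [Finset.union_comm]) hy hx hc.symm hcx rfl
            hyc.symm rfl (Ne.symm h3)
          exact Or.inl ⟨z, hz.symm hc.symm⟩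
      · exact Or.inl (link_strip ih hm' hx hy hc hya rfl hxa.symm rfl (Ne.symm h2))
    · push_neg at h1
      have hys : y.support = x.support ∪ y.support :=
        Finset.Subset.antisymm Finset.subset_union_right fun u hu => mem_support.2 (h1 u hu)
      have hxs : x.support = x.support ∪ y.support :=
        Finset.eq_of_subset_of_card_le Finset.subset_union_left (by rw [← hys, hc])
      have hmx : ∀ u ∈ x.support ∪ y.support, x u ≠ u := fun u hu => by
        rw [← hxs] at hu; exact mem_support.1 hu
      have hclx : ∀ u ∈ x.support ∪ y.support, x u ∈ x.support ∪ y.support := fun u hu =>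
        Finset.mem_union_left _ (by rw [mem_support, hxx]; exact (hmx u hu).symm)
      have hcly : ∀ u ∈ x.support ∪ y.support, y u ∈ x.support ∪ y.support := fun u hu =>
        Finset.mem_union_right _ (by rw [mem_support, hyy]; exact (h1 u hu).symm)
      by_cases h2 : ∃ a ∈ x.support ∪ y.support, x a = y a
      · obtain ⟨a, haU, hxy⟩ := h2
        exact Or.inl (link_shared ih hm' hx hy hc rfl (hmx a haU).symm hxy.symm)
      push_neg at h2
      have key : ∀ a ∈ x.support ∪ y.support, ∀ b c d, x a = b → y b = c → x c = d →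
          a ≠ b ∧ a ≠ c ∧ a ≠ d ∧ b ≠ c ∧ b ≠ d ∧ c ≠ d := by
        intro a haU b c d hab hbc hcd
        have hbU : b ∈ x.support ∪ y.support := hab ▸ hclx a haU
        have hcU : c ∈ x.support ∪ y.support := hbc ▸ hcly b hbU
        have hba : x b = a := by rw [← hab, hxx]
        have nac : a ≠ c := fun k => h2 b hbU (by rw [hba, hbc, k])
        have nbc : b ≠ c := fun k => h1 b hbU (hbc.trans k.symm)
        refine ⟨fun k => hmx a haU (hab.trans k.symm), nac, fun k => nbc ?_, nbc,
          fun k => nac ?_, fun k => hmx c hcU (hcd.trans k.symm)⟩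
        · apply x.injective
          rw [hba, hcd, k]
        · apply x.injective
          rw [hab, hcd, k]
      by_cases h3 : ∃ a ∈ x.support ∪ y.support, y (x (y (x a))) ≠ a
      · obtain ⟨a, haU, hne⟩ := h3
        obtain ⟨b, hab⟩ : ∃ b, x a = b := ⟨_, rfl⟩
        obtain ⟨c, hbc⟩ : ∃ c, y b = c := ⟨_, rfl⟩
        obtain ⟨d, hcd⟩ : ∃ d, x c = d := ⟨_, rfl⟩
        obtain ⟨e, hde⟩ : ∃ e, y d = e := ⟨_, rfl⟩
        obtain ⟨f, hef⟩ : ∃ f, x e = f := ⟨_, rfl⟩
        rw [hab, hbc, hcd, hde] at hne
        obtain ⟨nab, nac, nad, nbc, nbd, ncd⟩ := key a haU b c d hab hbc hcd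
        have hbU : b ∈ x.support ∪ y.support := hab ▸ hclx a haU
        have hcU : c ∈ x.support ∪ y.support := hbc ▸ hcly b hbU
        have hdU : d ∈ x.support ∪ y.support := hcd ▸ hclx c hcU
        have heU : e ∈ x.support ∪ y.support := hde ▸ hcly d hdU
        have nde : d ≠ e := fun k => h1 d hdU (hde.trans k.symm)
        have nbe : b ≠ e := by
          intro k
          apply ncd
          have h4 : y e = d := by rw [← hde, hyy]
          rw [← k, hbc] at h4
          exact h4
        have nce : c ≠ e := by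
          intro k
          have hdc : x d = c := by rw [← hcd, hxx]
          exact h2 d hdU (by rw [hdc, hde, k])
        have naf : a ≠ f := by
          intro k
          apply nbe
          rw [← hab, k, ← hef, hxx]
        have nbf : b ≠ f := by
          intro k
          apply hne
          apply x.injective
          rw [hef, hab, k]
        have ncf : c ≠ f := by
          intro k
          apply nde
          rw [← hcd, k, ← hef, hxx]
        have ndf : d ≠ f := by
          intro k
          apply nce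
          apply x.injective
          rw [hcd, hef, k]
        have nef : e ≠ f := fun k => hmx e heU (hef.trans k.symm)
        refine Or.inl (link_chain ih hm' hx hy hc (injective_of_nodup ?_) hab hbc hcd hde hef)
        simp [nab, nac, nad, nbc, nbd, ncd, hne.symm, nde, nbe, nce, naf, nbf, ncf, ndf, nef]
      · push_neg at h3
        rcases (x.support ∪ y.support).eq_empty_or_nonempty with he | ⟨a, haU⟩
        · refine Or.inl ⟨1, one_mul 1, by simp, ?_, ?_, ?_⟩
          · rw [hxs, he]; simp
          · rw [show x = 1 from support_eq_empty_iff.1 (hxs.trans he)]; simp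
          · rw [show y = 1 from support_eq_empty_iff.1 (hys.trans he)]; simp
        obtain ⟨b, hab⟩ : ∃ b, x a = b := ⟨_, rfl⟩
        obtain ⟨c, hbc⟩ : ∃ c, y b = c := ⟨_, rfl⟩
        obtain ⟨d, hcd⟩ : ∃ d, x c = d := ⟨_, rfl⟩
        have hda : y d = a := by rw [← hcd, ← hbc, ← hab]; exact h3 a haU
        have had : y a = d := by rw [← hda, hyy]
        have hba : x b = a := by rw [← hab, hxx]
        have hdc : x d = c := by rw [← hcd, hxx]
        have hcb : y c = b := by rw [← hbc, hyy]
        obtain ⟨nab, nac, nad, nbc, nbd, ncd⟩ := key a haU b c d hab hbc hcd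
        by_cases hall : x.support ∪ y.support ⊆ {a, b, c, d}
        · refine Or.inr ⟨?_, hmx, h1, h2⟩
          have heq : x.support ∪ y.support = {a, b, c, d} := by
            refine Finset.Subset.antisymm hall ?_
            have hbU : b ∈ x.support ∪ y.support := hab ▸ hclx a haU
            have hcU : c ∈ x.support ∪ y.support := hbc ▸ hcly b hbU
            have hdU : d ∈ x.support ∪ y.support := hcd ▸ hclx c hcU
            intro u hu
            simp only [Finset.mem_insert, Finset.mem_singleton] at hu
            rcases hu with rfl | rfl | rfl | rfl <;> assumption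
          rw [heq]
          simp [nab, nac, nad, nbc, nbd, ncd]
        obtain ⟨e, heU, heS⟩ := Finset.not_subset.1 hall
        simp only [Finset.mem_insert, Finset.mem_singleton, not_or] at heS
        obtain ⟨ea, eb, ec, ed⟩ := heS
        obtain ⟨f, hef⟩ : ∃ f, x e = f := ⟨_, rfl⟩
        obtain ⟨g, hfg⟩ : ∃ g, y f = g := ⟨_, rfl⟩
        obtain ⟨h, hgh⟩ : ∃ h, x g = h := ⟨_, rfl⟩
        have hhe : y h = e := by rw [← hgh, ← hfg, ← hef]; exact h3 e heU
        obtain ⟨nef, neg, neh, nfg, nfh, ngh⟩ := key e heU f g h hef hfg hgh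
        have inv : ∀ u, u ≠ a ∧ u ≠ b ∧ u ≠ c ∧ u ≠ d →
            (x u ≠ a ∧ x u ≠ b ∧ x u ≠ c ∧ x u ≠ d) ∧
            (y u ≠ a ∧ y u ≠ b ∧ y u ≠ c ∧ y u ≠ d) := by
          rintro u ⟨ua, ub, uc, ud⟩
          exact ⟨⟨fun k => ub (x.injective (k.trans hba.symm)),
            fun k => ua (x.injective (k.trans hab.symm)),
            fun k => ud (x.injective (k.trans hdc.symm)),
            fun k => uc (x.injective (k.trans hcd.symm))⟩,
            fun k => ud (y.injective (k.trans hda.symm)),
            fun k => uc (y.injective (k.trans hcb.symm)),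
            fun k => ub (y.injective (k.trans hbc.symm)),
            fun k => ua (y.injective (k.trans had.symm))⟩
        obtain ⟨fa, fb, fc, fd⟩ := hef ▸ (inv e ⟨ea, eb, ec, ed⟩).1
        obtain ⟨ga, gb, gc, gd⟩ := hfg ▸ (inv f ⟨fa, fb, fc, fd⟩).2
        obtain ⟨ha, hb, hc', hd⟩ := hgh ▸ (inv g ⟨ga, gb, gc, gd⟩).1
        refine Or.inl (link_squares ih hm' hx hy hc (injective_of_nodup ?_) hab hcd hef hgh hbc
          had hfg (by rw [← hhe, hyy]))
        simp [nab, nac, nad, nbc, nbd, ncd, nef, neg, neh, nfg, nfh, ngh, Ne.symm ea, Ne.symm eb,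
          Ne.symm ec, Ne.symm ed, Ne.symm fa, Ne.symm fb, Ne.symm fc, Ne.symm fd, Ne.symm ga,
          Ne.symm gb, Ne.symm gc, Ne.symm gd, Ne.symm ha, Ne.symm hb, Ne.symm hc', Ne.symm hd]

end Cfsg.Agent.H29
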