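import Mathlib

/-!
# Automorphism orbits of a nonabelian finite group: at most `#G / p`

Elementary proof: either many elements have classes of size at least `p ^ 2` (or of prime size
bigger than `p`), or the derived group has order `p` and transvection-like automorphisms glue
conjugacy classes.
-/

set_option autoImplicit false

namespace Cfsg.Agent.H29

open MulAction

variable {G : Type*} [Group G]

/-- The centralizer of an element. -/
abbrev ocen (x : G) : Subgroup G := Subgroup.centralizer {x}

lemma mem_ocen {x g : G} : g ∈ ocen x ↔ g * x = x * g := Subgroup.mem_centralizer_singleton_iff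

lemma center_le_ocen (x : G) : Subgroup.center G ≤ ocen x := fun g hg =>
  mem_ocen.2 (Subgroup.mem_center_iff.1 hg x).symm

lemma ocen_index_eq_one {x : G} : (ocen x).index = 1 ↔ x ∈ Subgroup.center G := by
  rw [Subgroup.index_eq_one, Subgroup.eq_top_iff']
  simp only [mem_ocen, Subgroup.mem_center_iff]

lemma ocen_mul_central {x z : G} (hz : z ∈ Subgroup.center G) : ocen (x * z) = ocen x := by
  ext g
  rw [mem_ocen, mem_ocen, mul_assoc x z g, ← Subgroup.mem_center_iff.1 hz g, ← mul_assoc,
    ← mul_assoc, mul_left_inj]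

variable [Finite G]

lemma prime_of_dvd_lt_sq {p s : ℕ} (hp : ∀ d, d ∣ Nat.card G → d ≠ 1 → p ≤ d)
    (hs : s ∣ Nat.card G) (h1 : s ≠ 1) (h2 : s < p ^ 2) : s.Prime := by
  by_contra hnp
  have hs0 : 0 < s := Nat.pos_of_dvd_of_pos hs Nat.card_pos
  have h3 := hp _ ((Nat.minFac_dvd s).trans hs) (fun h => h1 (Nat.minFac_eq_one_iff.1 h))
  nlinarith [Nat.minFac_sq_le_self hs0 hnp]

omit [Finite G] in
lemma ocen_mem_self (x : G) : x ∈ ocen x := mem_ocen.2 rfl

lemma ocen_index_le_orbit (x : G) : (ocen x).index ≤ Nat.card (orbit (MulAut G) x) := by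
  have h : (orbit (ConjAct G) x) ⊆ orbit (MulAut G) x := by
    rintro _ ⟨g, rfl⟩
    exact ⟨MulAut.conj (ConjAct.ofConjAct g), by simp [ConjAct.smul_def]⟩
  have h2 := MulAction.index_stabilizer (G := ConjAct G) (x := x)
  rw [ConjAct.stabilizer_eq_centralizer] at h2
  rw [Nat.card_coe_set_eq]
  exact le_trans (le_of_eq h2) (Set.ncard_le_ncard h (Set.toFinite _))

omit [Finite G] in
lemma ocen_conj (x g h : G) : h ∈ ocen (g * x * g⁻¹) ↔ g⁻¹ * h * g ∈ ocen x := by
  rw [mem_ocen, mem_ocen, ← mul_left_cancel_iff (a := g⁻¹), ← mul_right_cancel_iff (a := g)]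
  simp [mul_assoc]

lemma center_index_ge_sq {p : ℕ} (hp : ∀ d, d ∣ Nat.card G → d ≠ 1 → p ≤ d) {x : G}
    (hx : x ∉ Subgroup.center G) : p ^ 2 ≤ (Subgroup.center G).index := by
  rw [← Subgroup.relIndex_mul_index (center_le_ocen x), pow_two]
  refine Nat.mul_le_mul (hp _ ?_ ?_) (hp _ (Subgroup.index_dvd_card _) ?_)
  · exact (Dvd.intro _ (Subgroup.relIndex_mul_index (center_le_ocen x))).trans
      (Subgroup.index_dvd_card _)
  · rw [Ne, Subgroup.relIndex_eq_one]
    exact fun h => hx (h (mem_ocen.2 rfl))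
  · exact fun h => hx (ocen_index_eq_one.1 h)

/-- Counting lemma. -/
lemma orbit_count {p m : ℕ} (hp : ∀ d, d ∣ Nat.card G → d ≠ 1 → p ≤ d) (hp0 : 0 < p)
    (hm : p ≤ m) (L : Set G) (hLZ : ∀ x ∈ L, x ∉ Subgroup.center G)
    (hL : ∀ x ∈ L, m ≤ Nat.card (orbit (MulAut G) x))
    (hbig : L.ncard * p + (p - 1) * m * Nat.card (Subgroup.center G) ≤ L.ncard * m) :
    Nat.card (orbitRel.Quotient (MulAut G) G) ≤ Nat.card G / p := by
  classical
  let _ : Fintype G := Fintype.ofFinite G
  let _ : Fintype (orbitRel.Quotient (MulAut G) G) := Fintype.ofFinite _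
  rw [Nat.le_div_iff_mul_le hp0]
  let f : G → ℚ := fun x => 1 / (Nat.card (orbit (MulAut G) x) : ℚ)
  have htot : ∑ x, f x = (Nat.card (orbitRel.Quotient (MulAut G) G) : ℚ) := by
    rw [← Finset.sum_fiberwise Finset.univ
      (fun x : G => (Quotient.mk (orbitRel (MulAut G) G) x : orbitRel.Quotient (MulAut G) G)) f]
    rw [Nat.card_eq_fintype_card, ← Finset.card_univ, Finset.card_eq_sum_ones, Nat.cast_sum]
    refine Finset.sum_congr rfl ?_
    intro j _
    induction j using Quotient.inductionOn with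
    | _ a =>
      have hfib : (Finset.univ.filter fun x : G =>
          (Quotient.mk (orbitRel (MulAut G) G) x) = Quotient.mk (orbitRel (MulAut G) G) a)
          = (orbit (MulAut G) a).toFinset := by
        ext x
        simp only [Finset.mem_filter, Finset.mem_univ, true_and, Set.mem_toFinset]
        exact Quotient.eq.trans orbitRel_apply
      rw [hfib, Finset.sum_congr rfl (g := fun _ => f a) fun x hx => by
        simp only [f]
        rw [MulAction.orbit_eq_iff.2 (Set.mem_toFinset.1 hx)]]
      rw [Finset.sum_const, nsmul_eq_mul]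
      simp only [f, Set.toFinset_card, ← Nat.card_eq_fintype_card]
      have hpos : 0 < Nat.card (orbit (MulAut G) a) := by
        have := (nonempty_orbit (M := MulAut G) a).to_subtype
        exact Nat.card_pos
      field_simp
      simp
  let Zf : Finset G := Finset.univ.filter (fun x => x ∈ Subgroup.center G)
  let Lf : Finset G := Finset.univ.filter (fun x => x ∈ L)
  have hb : ∀ x, f x ≤ (1 / (p : ℚ)) + (if x ∈ Subgroup.center G then 1 - 1 / (p : ℚ) else 0)
      + (if x ∈ L then 1 / (m : ℚ) - 1 / (p : ℚ) else 0) := by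
    intro x
    by_cases hxL : x ∈ L
    · rw [if_neg (hLZ x hxL), if_pos hxL]
      have : f x ≤ 1 / (m : ℚ) := one_div_le_one_div_of_le
        (by exact_mod_cast lt_of_lt_of_le hp0 hm) (by exact_mod_cast hL x hxL)
      linarith
    · by_cases hxZ : x ∈ Subgroup.center G
      · rw [if_pos hxZ, if_neg hxL]
        have : f x ≤ 1 := by
          have h1 : 0 < Nat.card (orbit (MulAut G) x) := by
            have := (nonempty_orbit (M := MulAut G) x).to_subtype
            exact Nat.card_pos
          simp only [f]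
          rw [div_le_one (by exact_mod_cast h1)]
          exact_mod_cast h1
        linarith
      · rw [if_neg hxZ, if_neg hxL]
        have h1 : p ≤ (ocen x).index := hp _ (Subgroup.index_dvd_card _)
          (fun h => hxZ (ocen_index_eq_one.1 h))
        have : f x ≤ 1 / (p : ℚ) := one_div_le_one_div_of_le (by exact_mod_cast hp0)
          (by exact_mod_cast h1.trans (ocen_index_le_orbit x))
        linarith
  have hs := Finset.sum_le_sum (s := (Finset.univ : Finset G)) fun x _ => hb x
  rw [htot, Finset.sum_add_distrib, Finset.sum_add_distrib, Finset.sum_const,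
    ← Finset.sum_filter, ← Finset.sum_filter, Finset.sum_const, Finset.sum_const,
    nsmul_eq_mul, nsmul_eq_mul, nsmul_eq_mul, Finset.card_univ,
    ← Nat.card_eq_fintype_card] at hs
  have hZc : (Finset.univ.filter fun x => x ∈ Subgroup.center G).card =
      Nat.card (Subgroup.center G) := by
    rw [Nat.card_eq_fintype_card, Fintype.card_subtype]
  have hLc : (Finset.univ.filter fun x => x ∈ L).card = L.ncard := by
    rw [Set.ncard_eq_toFinset_card']
    congr 1
    ext; simp
  rw [hZc, hLc] at hs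
  have hp' : (0 : ℚ) < p := by exact_mod_cast hp0
  have hm' : (0 : ℚ) < m := by exact_mod_cast lt_of_lt_of_le hp0 hm
  have hbig' : (L.ncard : ℚ) * p + ((p : ℚ) - 1) * m * Nat.card (Subgroup.center G)
      ≤ L.ncard * m := by
    have : ((L.ncard * p + (p - 1) * m * Nat.card (Subgroup.center G) : ℕ) : ℚ) ≤
        ((L.ncard * m : ℕ) : ℚ) := by exact_mod_cast hbig
    push_cast [Nat.cast_sub (show 1 ≤ p from hp0)] at this
    exact this
  have key : (Nat.card (orbitRel.Quotient (MulAut G) G) : ℚ) * p ≤ Nat.card G := by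
    have h1 := mul_le_mul_of_nonneg_right hs hp'.le
    have e : ((Nat.card G : ℚ) * (1 / p) + (Nat.card (Subgroup.center G) : ℚ) * (1 - 1 / p)
        + (L.ncard : ℚ) * (1 / m - 1 / p)) * p =
        Nat.card G + (((p : ℚ) - 1) * m * Nat.card (Subgroup.center G)
          + (L.ncard : ℚ) * p - L.ncard * m) / m := by
      field_simp
      ring
    rw [e] at h1
    have : (((p : ℚ) - 1) * m * Nat.card (Subgroup.center G)
          + (L.ncard : ℚ) * p - L.ncard * m) / m ≤ 0 :=
      div_nonpos_of_nonpos_of_nonneg (by linarith) hm'.le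
    linarith
  exact_mod_cast key

/-- A transvection-like automorphism. -/
lemma exists_twist {p : ℕ} [Fact p.Prime] {C : Subgroup G} [C.Normal] (hC : C.index = p)
    {g : G} (hg : g ∉ C) {v : G} (hv : v ∈ C) (hvc : ∀ d ∈ C, v * d = d * v)
    (hpow : (g * v) ^ p = g ^ p) :
    ∃ θ : MulAut G, (∀ d ∈ C, θ d = d) ∧ θ g = g * v := by
  classical
  have hpP : p.Prime := Fact.out
  set π := QuotientGroup.mk' C with hπ
  have hcard : Nat.card (G ⧸ C) = p := hC
  have hord : orderOf (π g) = p := by
    refine orderOf_eq_prime ?_ ?_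
    · rw [← hcard]; exact pow_card_eq_one'
    · exact fun h => hg ((QuotientGroup.eq_one_iff _).1 h)
  have hex : ∀ x, ∃ n : ℕ, x * (g ^ n)⁻¹ ∈ C := by
    intro x
    have hmem : π x ∈ Submonoid.powers (π g) :=
      mem_powers_of_prime_card hcard (fun h => hg ((QuotientGroup.eq_one_iff _).1 h))
    obtain ⟨n, hn⟩ := hmem
    refine ⟨n, (QuotientGroup.eq_one_iff _).1 ?_⟩
    change π (x * (g ^ n)⁻¹) = 1
    rw [map_mul, map_inv, map_pow, show π g ^ n = π x from hn, mul_inv_cancel]
  choose n hn using hex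
  have hswap : ∀ (k : ℕ), ∀ d ∈ C, (g * v) ^ k * d = g ^ k * d * (g ^ k)⁻¹ * (g * v) ^ k := by
    intro k
    induction k with
    | zero => intro d _; simp
    | succ k ih =>
      intro d hd
      have h1 : g * d * g⁻¹ ∈ C := ‹C.Normal›.conj_mem d hd g
      have h2 : g * v * d = g * d * g⁻¹ * (g * v) := by
        rw [mul_assoc g v d, hvc d hd]; group
      calc (g * v) ^ (k + 1) * d = (g * v) ^ k * (g * v * d) := by rw [pow_succ, mul_assoc]
        _ = ((g * v) ^ k * (g * d * g⁻¹)) * (g * v) := by rw [h2]; simp only [mul_assoc]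
        _ = _ := by rw [ih _ h1, pow_succ g k, pow_succ (g * v) k]; group
  have hwd : ∀ c ∈ C, ∀ c' ∈ C, ∀ i j : ℕ, c * g ^ i = c' * g ^ j →
      c * (g * v) ^ i = c' * (g * v) ^ j := by
    intro c hc c' hc' i j he
    have hmod : i % p = j % p := by
      have h2 : π g ^ i = π g ^ j := by
        have := congrArg π he
        rwa [map_mul, map_mul, show π c = 1 from (QuotientGroup.eq_one_iff _).2 hc,
          show π c' = 1 from (QuotientGroup.eq_one_iff _).2 hc', one_mul, one_mul, map_pow,
          map_pow] at this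
      have h3 := pow_eq_pow_iff_modEq.1 h2
      rwa [hord] at h3
    have red : ∀ k : ℕ, (g * v) ^ k = (g ^ p) ^ (k / p) * (g * v) ^ (k % p) := by
      intro k
      rw [← hpow, ← pow_mul, ← pow_add, Nat.div_add_mod]
    have red' : ∀ k : ℕ, g ^ k = (g ^ p) ^ (k / p) * g ^ (k % p) := by
      intro k
      rw [← pow_mul, ← pow_add, Nat.div_add_mod]
    rw [red i, red j, hmod, ← mul_assoc, ← mul_assoc]
    rw [red' i, red' j, hmod, ← mul_assoc, ← mul_assoc] at he
    rw [mul_right_cancel he]
  let fn : G → G := fun x => x * (g ^ n x)⁻¹ * (g * v) ^ n x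
  have hfn : ∀ c ∈ C, ∀ i : ℕ, fn (c * g ^ i) = c * (g * v) ^ i := fun c hc i =>
    hwd _ (hn _) c hc _ i (by group)
  let φ : G →* G := MonoidHom.mk' fn (by
    intro x y
    have hd : g ^ n x * (y * (g ^ n y)⁻¹) * (g ^ n x)⁻¹ ∈ C :=
      ‹C.Normal›.conj_mem _ (hn y) _
    have e : x * y = (x * (g ^ n x)⁻¹ * (g ^ n x * (y * (g ^ n y)⁻¹) * (g ^ n x)⁻¹))
        * g ^ (n x + n y) := by
      rw [pow_add]; group
    calc fn (x * y) = (x * (g ^ n x)⁻¹ * (g ^ n x * (y * (g ^ n y)⁻¹) * (g ^ n x)⁻¹))
          * (g * v) ^ (n x + n y) := by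
            conv_lhs => rw [e]
            exact hfn _ (C.mul_mem (hn x) hd) _
      _ = x * (g ^ n x)⁻¹ * ((g ^ n x * (y * (g ^ n y)⁻¹) * (g ^ n x)⁻¹) * (g * v) ^ n x)
          * (g * v) ^ n y := by rw [pow_add]; simp only [mul_assoc]
      _ = fn x * fn y := by
            rw [← hswap _ _ (hn y)]
            simp only [fn, mul_assoc])
  have hC1 : ∀ d ∈ C, φ d = d := by
    intro d hd
    have := hfn d hd 0
    simpa [φ] using this
  have hinj : Function.Injective φ := by
    rw [injective_iff_map_eq_one]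
    intro x hx
    change fn x = 1 at hx
    have h0 : π (fn x) = π g ^ n x := by
      change π (x * (g ^ n x)⁻¹ * (g * v) ^ n x) = π g ^ n x
      rw [map_mul, show π (x * (g ^ n x)⁻¹) = 1 from (QuotientGroup.eq_one_iff _).2 (hn x),
        one_mul, map_pow, map_mul, show π v = 1 from (QuotientGroup.eq_one_iff _).2 hv, mul_one]
    rw [hx, map_one] at h0
    have hdvd : p ∣ n x := hord ▸ orderOf_dvd_of_pow_eq_one h0.symm
    obtain ⟨k, hk⟩ := hdvd
    simp only [fn, hk, pow_mul, hpow, inv_mul_cancel_right] at hx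
    exact hx
  refine ⟨MulEquiv.ofBijective φ (Finite.injective_iff_bijective.1 hinj), hC1, ?_⟩
  have := hfn 1 C.one_mem 1
  simpa [φ] using this

end Cfsg.Agent.H29
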