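import Cfsg.Agent.H29.OrbitBound

/-!
# Automorphism orbits of a nonabelian finite group: the three cases
-/

set_option autoImplicit false

namespace Cfsg.Agent.H29

open MulAction

variable {G : Type*} [Group G] [Finite G]

/-- Some class of size at least `p ^ 2`. -/
lemma orbit_case_big {p : ℕ} [Fact p.Prime] (hp : ∀ d, d ∣ Nat.card G → d ≠ 1 → p ≤ d) {x : G}
    (hx : p ^ 2 ≤ (ocen x).index) :
    Nat.card (orbitRel.Quotient (MulAut G) G) ≤ Nat.card G / p := by
  classical
  have hpP : p.Prime := Fact.out
  set Z := Subgroup.center G with hZ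
  set π := QuotientGroup.mk' Z with hπ
  let L : Set G := {y | p ^ 2 ≤ (ocen y).index}
  let Q : Set (G ⧸ Z) := π '' L
  have hmem : ∀ y z, z ∈ Z → y ∈ L → y * z ∈ L := by
    intro y z hz hy
    simp only [L, Set.mem_ofPred_eq] at hy ⊢
    rwa [ocen_mul_central hz]
  have hsat : L = π ⁻¹' Q := by
    ext y
    refine ⟨fun h => ⟨y, h, rfl⟩, ?_⟩
    rintro ⟨w, hw, he⟩
    have h2 : w⁻¹ * y ∈ Z := QuotientGroup.eq.1 he
    simpa using hmem w _ h2 hw
  have hcard : L.ncard = Nat.card Z * Q.ncard := by
    rw [← Nat.card_coe_set_eq L, hsat, ← Nat.card_coe_set_eq Q]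
    rw [show (π ⁻¹' Q : Set G) = (QuotientGroup.mk ⁻¹' Q) from rfl,
      Nat.card_congr (QuotientGroup.preimageMkEquivSubgroupProdSet Z Q), Nat.card_prod]
  have hxZ : x ∉ Z := fun h => by
    rw [ocen_index_eq_one.2 h] at hx
    nlinarith [hpP.two_le]
  -- at least `p` cosets
  have hQ : p ≤ Q.ncard := by
    have hconjL : ∀ g y, y ∈ L → g * y * g⁻¹ ∈ L := by
      intro g y hy
      simp only [L, Set.mem_ofPred_eq] at hy ⊢
      have : ocen (g * y * g⁻¹) = (ocen y).map (MulAut.conj g).toMonoidHom := by
        ext h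
        rw [ocen_conj, Subgroup.mem_map_equiv]
        simp
      rw [this, MulEquiv.toMonoidHom_eq_coe, Subgroup.index_map_equiv]
      exact hy
    by_cases hcent : π x ∈ Subgroup.center (G ⧸ Z)
    · -- powers and one more element
      have hpow : ∀ i, i ≠ 0 → i < p → x ^ i ∈ L := by
        intro i hi0 hip
        have hcop : Nat.Coprime i (orderOf x) := by
          refine Nat.coprime_of_dvd fun q hq hqi hqo => ?_
          have h1 := hp q (hqo.trans (orderOf_dvd_natCard x)) hq.ne_one
          have h2 := Nat.le_of_dvd (Nat.pos_of_ne_zero hi0) hqi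
          omega
        obtain ⟨m, hm⟩ := exists_pow_eq_self_of_coprime hcop
        have : ocen (x ^ i) = ocen x := by
          refine le_antisymm (fun g hg => ?_) (fun g hg => ?_)
          · rw [mem_ocen] at hg ⊢
            have : Commute g (x ^ i) := hg
            have h2 := this.pow_right m
            rwa [hm] at h2
          · rw [mem_ocen] at hg ⊢
            exact (Commute.pow_right (hg : Commute g x) i)
        simpa [L, this] using hx
      -- an element not commuting with `x`
      obtain ⟨c, hc⟩ : ∃ c, c ∉ ocen x := by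
        by_contra h
        push Not at h
        have : (ocen x).index = 1 := Subgroup.index_eq_one.2 ((Subgroup.eq_top_iff' _).2 h)
        nlinarith [hpP.two_le]
      have hcentral : ∀ g, g * x * g⁻¹ * x⁻¹ ∈ Z := by
        intro g
        rw [← QuotientGroup.eq_one_iff]
        change π (g * x * g⁻¹ * x⁻¹) = 1
        rw [map_mul, map_mul, map_mul, map_inv, map_inv,
          Subgroup.mem_center_iff.1 hcent (π g), mul_inv_cancel_right, mul_inv_cancel]
      obtain ⟨y, hyc, hyL⟩ : ∃ y, y ∉ ocen x ∧ y ∈ L := by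
        by_contra hno
        push Not at hno
        have hxc : x * c ∉ ocen x := fun h => hc (by
          have := (ocen x).mul_mem ((ocen x).inv_mem (ocen_mem_self x)) h
          simpa using this)
        set t := x * c * x⁻¹ * c⁻¹ with ht
        have htZ : t ∈ Z := by
          have h1 := Z.inv_mem (hcentral c)
          have e : (c * x * c⁻¹ * x⁻¹)⁻¹ = x * c * x⁻¹ * c⁻¹ := by group
          rwa [e] at h1
        have key : ∀ w : G, w ∉ ocen x → (x * w * x⁻¹ * w⁻¹ = t) →
            ∀ g, g * w * g⁻¹ * w⁻¹ ∈ Subgroup.zpowers t := by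
          intro w hw hwt g
          have hcenT : ∀ s ∈ Subgroup.zpowers t, ∀ a : G, a * s = s * a := fun s hs a =>
            Subgroup.mem_center_iff.1 (Subgroup.zpowers_le.2 htZ hs) a
          let K : Subgroup G :=
            { carrier := {a | a * w * a⁻¹ * w⁻¹ ∈ Subgroup.zpowers t}
              one_mem' := by simp
              mul_mem' := by
                intro a b ha hb
                simp only [Set.mem_ofPred_eq] at ha hb ⊢
                have e : a * b * w * (a * b)⁻¹ * w⁻¹ =
                    (a * (b * w * b⁻¹ * w⁻¹) * a⁻¹) * (a * w * a⁻¹ * w⁻¹) := by group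
                rw [e, hcenT _ hb a, mul_inv_cancel_right]
                exact Subgroup.mul_mem _ hb ha
              inv_mem' := by
                intro a ha
                simp only [Set.mem_ofPred_eq] at ha ⊢
                have e : a⁻¹ * w * a⁻¹⁻¹ * w⁻¹ = a⁻¹ * (a * w * a⁻¹ * w⁻¹)⁻¹ * a := by group
                rw [e, hcenT _ (Subgroup.inv_mem _ ha) a⁻¹, inv_mul_cancel_right]
                exact Subgroup.inv_mem _ ha }
          have hle : ocen w ≤ K := by
            intro a ha
            change a * w * a⁻¹ * w⁻¹ ∈ Subgroup.zpowers t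
            rw [mem_ocen.1 ha, mul_inv_cancel_right, mul_inv_cancel]
            exact Subgroup.one_mem _
          have hwZ : w ∉ Z := fun h => hw (center_le_ocen x h)
          have hprime : ((ocen w).index).Prime := prime_of_dvd_lt_sq hp
            (Subgroup.index_dvd_card _) (fun h => hwZ (ocen_index_eq_one.1 h))
            (Nat.lt_of_not_le fun h => hno w hw h)
          have hxK : x ∈ K := by
            change x * w * x⁻¹ * w⁻¹ ∈ Subgroup.zpowers t
            rw [hwt]; exact Subgroup.mem_zpowers t
          have hne : (ocen w).relIndex K ≠ 1 := by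
            rw [Ne, Subgroup.relIndex_eq_one]
            exact fun h => hw (mem_ocen.2 (mem_ocen.1 (h hxK)).symm)
          have hdvd : (ocen w).relIndex K ∣ (ocen w).index :=
            Dvd.intro _ (Subgroup.relIndex_mul_index hle)
          have h2 : (ocen w).relIndex K = (ocen w).index :=
            (hprime.eq_one_or_self_of_dvd _ hdvd).resolve_left hne
          have h3 := Subgroup.relIndex_mul_index hle
          rw [h2, mul_eq_left₀ hprime.ne_zero, Subgroup.index_eq_one] at h3
          have : g ∈ K := by rw [h3]; trivial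
          exact this
        have hxw : x * (x * c) * x⁻¹ * (x * c)⁻¹ = t := by
          have e : x * (x * c) * x⁻¹ * (x * c)⁻¹ = x * t * x⁻¹ := by rw [ht]; group
          rw [e, Subgroup.mem_center_iff.1 htZ x, mul_inv_cancel_right]
        have hall : ∀ g, g * x * g⁻¹ * x⁻¹ ∈ Subgroup.zpowers t := by
          intro g
          have h1 := key c hc rfl g
          have h2 := key (x * c) hxc hxw g
          have e : g * (x * c) * g⁻¹ * (x * c)⁻¹ =
              (g * x * g⁻¹) * (g * c * g⁻¹ * c⁻¹) * x⁻¹ := by group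
          have h1Z : g * c * g⁻¹ * c⁻¹ ∈ Z := Subgroup.zpowers_le.2 htZ h1
          rw [e, Subgroup.mem_center_iff.1 h1Z (g * x * g⁻¹), mul_assoc] at h2
          have h3 := Subgroup.mul_mem _ (Subgroup.inv_mem _ h1) h2
          rwa [inv_mul_cancel_left] at h3
        -- the class of `x` is too small
        have hclass : (ocen x).index ≤ Nat.card (Subgroup.zpowers t) := by
          let F : G ⧸ ocen x → Subgroup.zpowers t :=
            fun q => ⟨q.out * x * q.out⁻¹ * x⁻¹, hall _⟩
          have hinj : Function.Injective F := by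
            intro a b hab
            have h1 : a.out * x * a.out⁻¹ = b.out * x * b.out⁻¹ :=
              mul_right_cancel (Subtype.ext_iff.1 hab)
            rw [← QuotientGroup.out_eq' a, ← QuotientGroup.out_eq' b, QuotientGroup.eq]
            rw [mem_ocen]
            calc a.out⁻¹ * b.out * x = a.out⁻¹ * (b.out * x * b.out⁻¹) * b.out := by group
              _ = x * (a.out⁻¹ * b.out) := by rw [← h1]; group
          exact Nat.card_le_card_of_injective F hinj
        have hts : Nat.card (Subgroup.zpowers t) ≤ (ocen c).index := by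
          have hsub : ∀ s ∈ Subgroup.zpowers t, ∃ g : G, g * c * g⁻¹ * c⁻¹ = s := by
            intro s hs
            obtain ⟨k, rfl⟩ := Subgroup.mem_zpowers_iff.1 hs
            have hco : ∀ k : ℕ, x ^ k * c * (x ^ k)⁻¹ * c⁻¹ = t ^ k := by
              intro k
              induction k with
              | zero => simp
              | succ k ih =>
                have e : x ^ (k + 1) * c * (x ^ (k + 1))⁻¹ * c⁻¹ =
                    (x * (x ^ k * c * (x ^ k)⁻¹ * c⁻¹) * x⁻¹) * t := by
                  rw [ht, pow_succ']; group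
                rw [e, ih, Subgroup.mem_center_iff.1 (Z.pow_mem htZ k) x, mul_inv_cancel_right,
                  ← pow_succ]
            obtain ⟨j, hj⟩ := (IsOfFinOrder.mem_powers_iff_mem_zpowers (isOfFinOrder_of_finite t)).2
              (Subgroup.zpow_mem _ (Subgroup.mem_zpowers t) k)
            exact ⟨x ^ j, by rw [hco j]; exact hj⟩
          choose gs hgs using hsub
          let F : Subgroup.zpowers t → G ⧸ ocen c := fun s => QuotientGroup.mk (gs s.1 s.2)
          have hinj : Function.Injective F := by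
            intro a b hab
            apply Subtype.ext
            rw [← hgs a.1 a.2, ← hgs b.1 b.2]
            have h1 := mem_ocen.1 (QuotientGroup.eq.1 hab)
            have : gs a.1 a.2 * c * (gs a.1 a.2)⁻¹ = gs b.1 b.2 * c * (gs b.1 b.2)⁻¹ := by
              calc gs a.1 a.2 * c * (gs a.1 a.2)⁻¹
                  = gs a.1 a.2 * (c * ((gs a.1 a.2)⁻¹ * gs b.1 b.2)) * (gs b.1 b.2)⁻¹ := by group
                _ = _ := by rw [← h1]; group
            rw [this]
          exact Nat.card_le_card_of_injective F hinj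
        have := hno c hc
        simp only [L, Set.mem_ofPred_eq, not_le] at this
        omega
      have hord : p ≤ orderOf (π x) := by
        refine hp _ ?_ ?_
        · exact (orderOf_map_dvd π x).trans (orderOf_dvd_natCard x)
        · rw [Ne, orderOf_eq_one_iff]
          exact fun h => hxZ ((QuotientGroup.eq_one_iff _).1 h)
      let F : Fin p → G ⧸ Z := fun i => if (i : ℕ) = 0 then π y else π x ^ (i : ℕ)
      have hFQ : Set.range F ⊆ Q := by
        rintro _ ⟨i, rfl⟩
        simp only [F]
        split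
        · exact ⟨y, hyL, rfl⟩
        · exact ⟨x ^ (i : ℕ), hpow _ ‹_› i.2, map_pow π x _⟩
      have hne : ∀ i : ℕ, π y ≠ π x ^ i := by
        intro i he
        rw [← map_pow] at he
        have h1 : (x ^ i)⁻¹ * y ∈ Z := QuotientGroup.eq.1 he.symm
        exact hyc (by
          have := (ocen x).mul_mem ((ocen x).pow_mem (ocen_mem_self x) i) (center_le_ocen x h1)
          simpa using this)
      have hinj : Function.Injective F := by
        intro i j hij
        simp only [F] at hij
        split at hij <;> split at hij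
        · exact Fin.ext (by omega)
        · exact absurd hij (hne _)
        · exact absurd hij.symm (hne _)
        · exact Fin.ext (pow_injOn_Iio_orderOf (lt_of_lt_of_le i.2 hord)
            (lt_of_lt_of_le j.2 hord) hij)
      have h1 := Set.ncard_le_ncard hFQ (Set.toFinite _)
      rwa [Set.ncard_range_of_injective hinj, Nat.card_fin] at h1
    · -- conjugates
      have h1 : p ≤ (ocen (π x)).index := hp _
        ((Subgroup.index_dvd_card _).trans (Subgroup.card_quotient_dvd_card Z))
        (fun h => hcent (ocen_index_eq_one.1 h))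
      have hsub : orbit (ConjAct (G ⧸ Z)) (π x) ⊆ Q := by
        rintro _ ⟨g, rfl⟩
        obtain ⟨a, ha⟩ := QuotientGroup.mk'_surjective Z (ConjAct.ofConjAct g)
        exact ⟨a * x * a⁻¹, hconjL a x hx, by simp [ConjAct.smul_def, ← ha, π]⟩
      have h2 := MulAction.index_stabilizer (G := ConjAct (G ⧸ Z)) (x := π x)
      rw [ConjAct.stabilizer_eq_centralizer] at h2
      exact h1.trans ((le_of_eq h2).trans (Set.ncard_le_ncard hsub (Set.toFinite _)))
  refine orbit_count hp hpP.pos (m := p ^ 2) (Nat.le_self_pow two_ne_zero p) L ?_ ?_ ?_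
  · intro y hy h
    simp only [L, Set.mem_ofPred_eq, ocen_index_eq_one.2 h] at hy
    nlinarith [hpP.two_le]
  · exact fun y hy => le_trans hy (ocen_index_le_orbit y)
  · rw [hcard]
    obtain ⟨k, hk⟩ : ∃ k, Q.ncard = p + k := ⟨Q.ncard - p, by omega⟩
    obtain ⟨r, hr⟩ : ∃ r, p = r + 2 := ⟨p - 2, by have := hpP.two_le; omega⟩
    rw [hk, hr]
    simp only [show r + 2 - 1 = r + 1 from rfl]
    generalize Nat.card Z = z
    nlinarith [Nat.zero_le (z * k * r), Nat.zero_le (z * k), Nat.zero_le (z * k * r * r)]

/-- All classes are small and some has prime size bigger than `p`. -/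
lemma orbit_case_prime {p : ℕ} [Fact p.Prime] (hpG : p = (Nat.card G).minFac)
    (hp : ∀ d, d ∣ Nat.card G → d ≠ 1 → p ≤ d)
    (hsmall : ∀ x : G, (ocen x).index < p ^ 2) {y : G} (hy : ¬ (ocen y).index ∣ p) :
    Nat.card (orbitRel.Quotient (MulAut G) G) ≤ Nat.card G / p := by
  classical
  have hpP : p.Prime := Fact.out
  set Z := Subgroup.center G with hZ
  have hprime : ∀ x : G, (ocen x).index ≠ 1 → ((ocen x).index).Prime := fun x h =>
    prime_of_dvd_lt_sq hp (Subgroup.index_dvd_card _) h (hsmall x)
  let E : Subgroup G :=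
    { carrier := {x | (ocen x).index ∣ p}
      one_mem' := by
        simp [ocen_index_eq_one.2 (Subgroup.one_mem (Subgroup.center G))]
      inv_mem' := by
        intro x hx
        have : ocen x⁻¹ = ocen x := by
          ext g
          simp only [mem_ocen]
          exact ⟨fun h => (Commute.inv_right_iff.1 h), fun h => Commute.inv_right h⟩
        simpa [this] using hx
      mul_mem' := by
        intro a b ha hb
        simp only [Set.mem_ofPred_eq] at ha hb ⊢
        by_cases ha1 : (ocen a).index = 1
        · have := ocen_index_eq_one.1 ha1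
          rw [← Subgroup.mem_center_iff.1 this b, ocen_mul_central this]
          exact hb
        · have hn : (ocen a).Normal := Subgroup.normal_of_index_eq_minFac_card (by
            rw [← hpG]; exact (Nat.dvd_prime hpP).1 ha |>.resolve_left ha1)
          have hle : ocen a ⊓ ocen b ≤ ocen (a * b) := by
            intro g hg
            exact mem_ocen.2 ((Commute.mul_right (mem_ocen.1 hg.1) (mem_ocen.1 hg.2)))
          have h1 : (ocen a ⊓ ocen b).index ∣ p * p := by
            rw [← Subgroup.relIndex_mul_index (inf_le_right : ocen a ⊓ ocen b ≤ ocen b),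
              Subgroup.inf_relIndex_right]
            exact Nat.mul_dvd_mul ((Subgroup.relIndex_dvd_index_of_normal (H := ocen a)
              (K := ocen b)).trans ha) hb
          have h2 := (Subgroup.index_dvd_of_le hle).trans h1
          by_cases h3 : (ocen (a * b)).index = 1
          · rw [h3]; exact one_dvd _
          · exact (hprime _ h3).dvd_mul.1 h2 |>.elim id id }
  let L : Set G := (E : Set G)ᶜ
  have hZE : Z ≤ E := fun z hz => by
    change (ocen z).index ∣ p
    rw [ocen_index_eq_one.2 hz]; exact one_dvd _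
  have hLc : L.ncard + Nat.card E = Nat.card G := by
    have := Set.ncard_add_ncard_compl (E : Set G)
    rw [← Nat.card_coe_set_eq (E : Set G)] at this
    simpa [add_comm, L] using this
  have hZpos : 0 < Nat.card Z := Nat.card_pos
  have hcardG := Subgroup.card_mul_index Z
  have hEG := Subgroup.card_mul_index E
  have hEidx : p ≤ E.index := hp _ (Subgroup.index_dvd_card _) (fun h => hy (by
    rw [Subgroup.index_eq_one] at h
    change y ∈ E
    rw [h]; trivial))
  -- the count
  have hcount : (p + 1) * (p - 1) * Nat.card Z ≤ L.ncard := by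
    obtain ⟨r, hr⟩ : ∃ r, p = r + 2 := ⟨p - 2, by have := hpP.two_le; omega⟩
    subst hr
    simp only [show r + 2 - 1 = r + 1 from rfl]
    by_cases hEZ : ∃ x ∈ E, x ∉ Z
    · obtain ⟨x, hxE, hxZ⟩ := hEZ
      have hx1 : (ocen x).index = r + 2 :=
        ((Nat.dvd_prime hpP).1 hxE).resolve_left fun h => hxZ (ocen_index_eq_one.1 h)
      have hy1 : (ocen y).index ≠ 1 := fun h => hy (h ▸ one_dvd _)
      have hs : r + 2 + 1 ≤ (ocen y).index := by
        have h1 := hp _ (Subgroup.index_dvd_card (ocen y)) hy1
        have h2 : (ocen y).index ≠ r + 2 := fun h => hy (h ▸ dvd_rfl)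
        omega
      have hdvd : (r + 2) * (ocen y).index ∣ Z.index := by
        refine Nat.Coprime.mul_dvd_of_dvd_of_dvd ?_ ?_ ?_
        · exact (Nat.coprime_primes hpP (hprime y hy1)).2 (by omega)
        · rw [← hx1]; exact Subgroup.index_dvd_of_le (center_le_ocen x)
        · exact Subgroup.index_dvd_of_le (center_le_ocen y)
      have h3 := Nat.le_of_dvd (Nat.pos_of_ne_zero Subgroup.index_ne_zero_of_finite) hdvd
      have h4 : (r + 2) * (r + 2 + 1) * Nat.card Z ≤ Nat.card G := by
        rw [← hcardG, mul_comm (Nat.card Z)]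
        exact Nat.mul_le_mul_right _ ((Nat.mul_le_mul_left _ hs).trans h3)
      have h5 : (r + 2) * Nat.card E ≤ Nat.card G := by
        rw [← hEG, mul_comm (Nat.card E)]
        exact Nat.mul_le_mul_right _ hEidx
      nlinarith
    · push Not at hEZ
      have hEeq : E = Z := le_antisymm hEZ hZE
      rw [hEeq] at hLc
      have hyZ : y ∉ Z := fun h => hy (hZE h)
      have h3 := center_index_ge_sq hp hyZ
      have h4 : (r + 2) ^ 2 * Nat.card Z ≤ Nat.card G := by
        rw [← hcardG, mul_comm (Nat.card Z)]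
        exact Nat.mul_le_mul_right _ h3
      nlinarith
  refine orbit_count hp hpP.pos (m := p + 1) (Nat.le_succ p) L ?_ ?_ ?_
  · exact fun x hx h => hx (hZE h)
  · intro x hx
    refine le_trans ?_ (ocen_index_le_orbit x)
    have h1 : (ocen x).index ≠ 1 := fun h => hx (h ▸ one_dvd _ : (ocen x).index ∣ p)
    have h2 : (ocen x).index ≠ p := fun h => hx (h ▸ dvd_rfl : (ocen x).index ∣ p)
    have := hp _ (Subgroup.index_dvd_card (ocen x)) h1
    omega
  · obtain ⟨r, hr⟩ : ∃ r, p = r + 2 := ⟨p - 2, by have := hpP.two_le; omega⟩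
    subst hr
    simp only [show r + 2 - 1 = r + 1 from rfl] at hcount ⊢
    nlinarith

omit [Finite G] in
lemma mul_pow_class_two {g u c : G} (hc : c ∈ Subgroup.center G) (h : u * g = g * u * c)
    (n : ℕ) : (g * u) ^ n = g ^ n * u ^ n * c ^ n.choose 2 := by
  have hcc : ∀ a : G, Commute c a := fun a => (Subgroup.mem_center_iff.1 hc a).symm
  have hun : ∀ n : ℕ, u ^ n * g = g * u ^ n * c ^ n := by
    intro n
    induction n with
    | zero => simp
    | succ n ih =>
      calc u ^ (n + 1) * g = u ^ n * (u * g) := by rw [pow_succ, mul_assoc]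
        _ = (u ^ n * g) * u * c := by rw [h]; simp only [mul_assoc]
        _ = g * u ^ n * (c ^ n * u) * c := by rw [ih]; simp only [mul_assoc]
        _ = _ := by rw [((hcc u).pow_left n).eq]; simp only [pow_succ, mul_assoc]
  induction n with
  | zero => simp
  | succ n ih =>
    calc (g * u) ^ (n + 1) = g ^ n * u ^ n * (c ^ n.choose 2 * (g * u)) := by
          rw [pow_succ, ih]; simp only [mul_assoc]
      _ = g ^ n * (u ^ n * g) * u * c ^ n.choose 2 := by
          rw [((hcc _).pow_left _).eq]; simp only [mul_assoc]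
      _ = g ^ n * (g * u ^ n) * (c ^ n * u) * c ^ n.choose 2 := by
          rw [hun n]; simp only [mul_assoc]
      _ = _ := by
          rw [((hcc u).pow_left n).eq, pow_succ g n, pow_succ u n, Nat.choose_succ_succ,
            Nat.choose_one_right, pow_add]
          simp only [mul_assoc]

omit [Group G] [Finite G] in
lemma eq_of_card_two {Q : Type*} [Group Q] (h : Nat.card Q = 2) {a b : Q} (ha : a ≠ 1)
    (hb : b ≠ 1) : a = b := by
  obtain ⟨c, -, hc⟩ := (Nat.card_eq_two_iff' (1 : Q)).1 h
  rw [hc a ha, hc b hb]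

/-- All classes have size at most `p`. -/

lemma orbit_case_p {p : ℕ} [Fact p.Prime] (hpG : p = (Nat.card G).minFac)
    (hp : ∀ d, d ∣ Nat.card G → d ≠ 1 → p ≤ d)
    (hall : ∀ x : G, (ocen x).index ∣ p) {a0 b0 : G} (hne : a0 * b0 ≠ b0 * a0) :
    Nat.card (orbitRel.Quotient (MulAut G) G) ≤ Nat.card G / p := by
  classical
  have hpP : p.Prime := Fact.out
  set Z := Subgroup.center G with hZdef
  have hidx : ∀ x, x ∉ Z → (ocen x).index = p := fun x hx =>
    ((Nat.dvd_prime hpP).1 (hall x)).resolve_left fun h => hx (ocen_index_eq_one.1 h)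
  have hnor : ∀ x : G, (ocen x).Normal := by
    intro x
    by_cases hx : x ∈ Z
    · rw [show ocen x = ⊤ from Subgroup.index_eq_one.1 (ocen_index_eq_one.2 hx)]
      infer_instance
    · exact Subgroup.normal_of_index_eq_minFac_card (by rw [← hpG]; exact hidx x hx)
  have hcomm : ∀ a b : G, a * b * a⁻¹ * b⁻¹ ∈ Z := by
    intro a b
    rw [Subgroup.mem_center_iff]
    intro x
    by_cases hx : x ∈ Z
    · exact ((Subgroup.mem_center_iff.1 hx) _).symm
    have := hnor x
    have : IsCyclic (G ⧸ ocen x) := isCyclic_of_prime_card (p := p) (hidx x hx)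
    have h : a * b * a⁻¹ * b⁻¹ ∈ ocen x := by
      rw [← QuotientGroup.eq_one_iff]
      change QuotientGroup.mk' (ocen x) (a * b * a⁻¹ * b⁻¹) = 1
      rw [map_mul, map_mul, map_mul, map_inv, map_inv]
      have hcom : ∀ q q' : G ⧸ ocen x, q * q' = q' * q := fun q q' =>
        (IsCyclic.isMulCommutative (α := G ⧸ ocen x)).is_comm.comm q q'
      rw [hcom (QuotientGroup.mk' _ a), mul_inv_cancel_right, mul_inv_cancel]
    exact (mem_ocen.1 h).symm
  have hpZ : ∀ g : G, g ^ p ∈ Z := by
    intro g
    rw [Subgroup.mem_center_iff]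
    intro x
    by_cases hx : x ∈ Z
    · exact ((Subgroup.mem_center_iff.1 hx) _).symm
    have := hnor x
    have h := Subgroup.pow_index_mem (H := ocen x) g
    rw [hidx x hx] at h
    exact (mem_ocen.1 h).symm
  let f : G → (G →* G) := fun x => MonoidHom.mk' (fun g => x * g * x⁻¹ * g⁻¹) (by
    intro g h
    have e : x * (g * h) * x⁻¹ * (g * h)⁻¹ =
        (x * g * x⁻¹) * (x * h * x⁻¹ * h⁻¹) * g⁻¹ := by group
    rw [e, Subgroup.mem_center_iff.1 (hcomm x h) (x * g * x⁻¹), mul_assoc,
      ← Subgroup.mem_center_iff.1 (hcomm x h) (x * g * x⁻¹ * g⁻¹)])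
  have hker : ∀ x, (f x).ker = ocen x := by
    intro x
    ext g
    rw [MonoidHom.mem_ker, mem_ocen]
    change x * g * x⁻¹ * g⁻¹ = 1 ↔ _
    rw [mul_inv_eq_one, mul_inv_eq_iff_eq_mul]
    exact eq_comm
  have hrange : ∀ x g : G, x * g * x⁻¹ * g⁻¹ ≠ 1 →
      (f x).range = Subgroup.zpowers (x * g * x⁻¹ * g⁻¹) ∧ Nat.card (f x).range = p := by
    intro x g hg
    have hx : x ∉ Z := fun h => hg (by
      rw [← Subgroup.mem_center_iff.1 h g, mul_inv_cancel_right, mul_inv_cancel])
    have hc : Nat.card (f x).range = p := by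
      rw [← Subgroup.index_ker, hker]; exact hidx x hx
    refine ⟨?_, hc⟩
    have hle : Subgroup.zpowers (x * g * x⁻¹ * g⁻¹) ≤ (f x).range :=
      Subgroup.zpowers_le.2 ⟨g, rfl⟩
    refine (Subgroup.eq_of_le_of_card_ge hle ?_).symm
    rw [hc, Nat.card_zpowers]
    have hdvd := Subgroup.card_dvd_of_le hle
    rw [hc, Nat.card_zpowers] at hdvd
    rcases (Nat.dvd_prime hpP).1 hdvd with h | h
    · exact absurd (orderOf_eq_one_iff.1 h) hg
    · exact h.ge
  have hsym : ∀ x g : G, x * g * x⁻¹ * g⁻¹ ≠ 1 → (f x).range = (f g).range := by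
    intro x g hg
    have hg' : g * x * g⁻¹ * x⁻¹ ≠ 1 := by
      intro h
      exact hg (by
        have e : x * g * x⁻¹ * g⁻¹ = (g * x * g⁻¹ * x⁻¹)⁻¹ := by group
        rw [e, h, inv_one])
    rw [(hrange x g hg).1, (hrange g x hg').1]
    have e : g * x * g⁻¹ * x⁻¹ = (x * g * x⁻¹ * g⁻¹)⁻¹ := by group
    rw [e, Subgroup.zpowers_inv]
  set z := a0 * b0 * a0⁻¹ * b0⁻¹ with hz
  have hz1 : z ≠ 1 := fun h => hne (by
    rw [hz, mul_inv_eq_one, mul_inv_eq_iff_eq_mul] at h; exact h)
  set T := Subgroup.zpowers z with hT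
  have hTc : Nat.card T = p := by
    obtain ⟨h1, h2⟩ := hrange a0 b0 hz1
    rwa [h1] at h2
  have hTall : ∀ x, x ∉ Z → (f x).range = T := by
    intro x hx
    have ha0 : a0 ∉ Z := fun h => hne (Subgroup.mem_center_iff.1 h b0).symm
    rw [hT, ← (hrange a0 b0 hz1).1]
    -- someone noncommuting with both
    obtain ⟨g, hg1, hg2⟩ : ∃ g, g ∉ ocen x ∧ g ∉ ocen a0 := by
      have h1 : ocen x ≠ ⊤ := fun h => hx (ocen_index_eq_one.1 (Subgroup.index_eq_one.2 h))
      have h2 : ocen a0 ≠ ⊤ := fun h => ha0 (ocen_index_eq_one.1 (Subgroup.index_eq_one.2 h))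
      obtain ⟨u, hu⟩ : ∃ u, u ∉ ocen x := by
        by_contra h; push Not at h; exact h1 ((Subgroup.eq_top_iff' _).2 h)
      obtain ⟨w, hw⟩ : ∃ w, w ∉ ocen a0 := by
        by_contra h; push Not at h; exact h2 ((Subgroup.eq_top_iff' _).2 h)
      by_cases hu2 : u ∈ ocen a0
      · by_cases hw1 : w ∈ ocen x
        · refine ⟨u * w, fun h => hu ?_, fun h => hw ?_⟩
          · simpa using (ocen x).mul_mem h ((ocen x).inv_mem hw1)
          · simpa using (ocen a0).mul_mem ((ocen a0).inv_mem hu2) h
        · exact ⟨w, hw1, hw⟩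
      · exact ⟨u, hu, hu2⟩
    have e1 : ∀ a g : G, g ∉ ocen a → a * g * a⁻¹ * g⁻¹ ≠ 1 := by
      intro a g hg h
      rw [mul_inv_eq_one, mul_inv_eq_iff_eq_mul] at h
      exact hg (mem_ocen.2 h.symm)
    rw [hsym x g (e1 x g hg1), hsym a0 g (e1 a0 g hg2)]
  have hcT : ∀ a b : G, a * b * a⁻¹ * b⁻¹ ∈ T := by
    intro a b
    by_cases ha : a ∈ Z
    · rw [← Subgroup.mem_center_iff.1 ha b, mul_inv_cancel_right, mul_inv_cancel]
      exact T.one_mem
    · rw [← hTall a ha]; exact ⟨b, rfl⟩
  have hTZ : T ≤ Z := Subgroup.zpowers_le.2 (hcomm a0 b0)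
  have hTp : ∀ t ∈ T, t ^ p = 1 := fun t ht => by
    have : (⟨t, ht⟩ : T) ^ p = 1 := by rw [← hTc]; exact pow_card_eq_one'
    simpa using congrArg Subtype.val this
  have ha0 : a0 ∉ Z := fun h => hne (Subgroup.mem_center_iff.1 h b0).symm
  -- choose `u` and `v`
  obtain ⟨u, v, huZ, hvu, hvc, hvT, hvpow⟩ : ∃ u v : G, u ∉ Z ∧ v ∈ ocen u ∧
      (∀ d ∈ ocen u, v * d = d * v) ∧ (∀ k : ℕ, v ^ k ∈ T → p ∣ k) ∧
      (∀ x, x ∉ ocen u → (x * v) ^ p = x ^ p) := by
    by_cases hw : ∃ w ∈ Z, w ^ p = 1 ∧ w ∉ T
    · obtain ⟨w, hwZ, hwp, hwT⟩ := hw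
      refine ⟨a0, w, ha0, center_le_ocen _ hwZ,
        fun d _ => (Subgroup.mem_center_iff.1 hwZ d).symm, ?_, ?_⟩
      · intro k hk
        by_contra hndvd
        obtain ⟨j, hj⟩ := exists_pow_eq_self_of_coprime (x := w) (n := k) (by
          rw [orderOf_eq_prime hwp (fun h => hwT (h ▸ T.one_mem))]
          exact ((Nat.Prime.coprime_iff_not_dvd hpP).2 hndvd).symm)
        exact hwT (hj ▸ T.pow_mem hk j)
      · intro x _
        have hxw : Commute x w := Subgroup.mem_center_iff.1 hwZ x
        rw [hxw.mul_pow, hwp, mul_one]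
    · push Not at hw
      -- `Z / Z^p` has order `p`
      let pw : Subgroup.center G →* Subgroup.center G := MonoidHom.mk' (fun x => x ^ p)
        (fun a b => Commute.mul_pow (Subtype.ext (Subgroup.mem_center_iff.1 b.2 a.1)) p)
      let R : Subgroup Z := pw.range
      have hkc : Nat.card pw.ker = p := by
        rw [← hTc]
        refine Nat.card_congr ⟨fun k => ⟨k.1.1, hw _ k.1.2 ?_⟩,
          fun t => ⟨⟨t.1, hTZ t.2⟩, ?_⟩, fun k => rfl, fun t => rfl⟩
        · have := congrArg Subtype.val (MonoidHom.mem_ker.1 k.2)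
          simpa [pw] using this
        · rw [MonoidHom.mem_ker]
          exact Subtype.ext (by simpa [pw] using hTp _ t.2)
      have hRi : R.index = p := by
        have h1 := R.card_mul_index
        have h2 := pw.ker.card_mul_index
        rw [Subgroup.index_ker pw, hkc, mul_comm p] at h2
        rw [← h2] at h1
        exact Nat.eq_of_mul_eq_mul_left Nat.card_pos h1
      have hQc : Nat.card (Z ⧸ R) = p := hRi
      let φ : G → Z ⧸ R := fun x => QuotientGroup.mk ⟨x ^ p, hpZ x⟩
      have hφR : ∀ x, φ x = 1 → ∃ r ∈ Z, x ^ p = r ^ p := by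
        intro x hx
        obtain ⟨r, hr⟩ := (QuotientGroup.eq_one_iff _).1 hx
        exact ⟨r.1, r.2, by simpa [pw] using (congrArg Subtype.val hr).symm⟩
      have hnc : ∀ {u : G}, u * b0 ≠ b0 * u → u ∉ Z := fun {u} h hu =>
        h (Subgroup.mem_center_iff.1 hu b0).symm
      have hca : a0 * b0 ≠ b0 * a0 := hne
      have hb0 : b0 ∉ Z := fun h => hne (Subgroup.mem_center_iff.1 h a0)
      suffices hu : ∃ u, u ∉ Z ∧ ∀ x, x ∉ ocen u → (x * u) ^ p = x ^ p by
        obtain ⟨u, hu1, hu2⟩ := hu
        refine ⟨u, u, hu1, ocen_mem_self u, fun d hd => (mem_ocen.1 hd).symm, ?_, hu2⟩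
        intro k hk
        by_contra hndvd
        have h1 : (QuotientGroup.mk' Z u) ^ k = 1 := by
          rw [← map_pow]; exact (QuotientGroup.eq_one_iff _).2 (hTZ hk)
        have h2 : orderOf (QuotientGroup.mk' Z u) = p := orderOf_eq_prime
          (by rw [← map_pow]; exact (QuotientGroup.eq_one_iff _).2 (hpZ u))
          (fun h => hu1 ((QuotientGroup.eq_one_iff _).1 h))
        exact hndvd (h2 ▸ orderOf_dvd_of_pow_eq_one h1)
      -- the power map
      have hmulpow : ∀ a b : G,
          (a * b) ^ p = a ^ p * b ^ p *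
            (b⁻¹ * a⁻¹ * b * a) ^ p.choose 2 := by
        intro a b
        refine mul_pow_class_two ?_ (by group) p
        have h1 := hcomm b⁻¹ a⁻¹
        simpa using h1
      rcases hpP.eq_two_or_odd' with h2 | hodd
      · subst h2
        have hmul2 : ∀ a b : G, a * b ≠ b * a → (a * b) ^ 2 = a ^ 2 * b ^ 2 * z := by
          intro a b hab
          have h := hmulpow a b
          rw [Nat.choose_self, pow_one] at h
          rw [h]
          congr 1
          -- the unique nontrivial element of `T`
          have hmem : b⁻¹ * a⁻¹ * b * a ∈ T := by simpa using hcT b⁻¹ a⁻¹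
          have hne1 : b⁻¹ * a⁻¹ * b * a ≠ 1 := by
            intro h1
            apply hab
            calc a * b = a * b * (b⁻¹ * a⁻¹ * b * a) := by rw [h1, mul_one]
              _ = b * a := by group
          obtain ⟨k, hk⟩ := Subgroup.mem_zpowers_iff.1 hmem
          rcases Int.even_or_odd k with ⟨j, hj⟩ | ⟨j, hj⟩
          · exfalso
            apply hne1
            rw [← hk, hj, ← two_mul, zpow_mul, zpow_ofNat, hTp z (Subgroup.mem_zpowers z),
              one_zpow]
          · rw [← hk, hj, zpow_add, zpow_mul, zpow_ofNat, hTp z (Subgroup.mem_zpowers z),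
              one_zpow, one_mul, zpow_one]
        have hzz : z * z = 1 := by rw [← pow_two]; exact hTp z (Subgroup.mem_zpowers z)
        -- it suffices to find `u` with `u ^ 2 = z`
        suffices hu : ∃ u, u ∉ Z ∧ u ^ 2 = z by
          obtain ⟨u, hu1, hu2⟩ := hu
          refine ⟨u, hu1, fun x hx => ?_⟩
          rw [hmul2 x u (fun h => hx (mem_ocen.2 h)), hu2, mul_assoc, hzz, mul_one]
        have hab : a0 * b0 ∉ Z := hnc (fun h => hne (mul_right_cancel
          (b := b0) (h.trans (mul_assoc _ _ _).symm)))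
        by_cases hzR : (⟨z, hTZ (Subgroup.mem_zpowers z)⟩ : Z) ∈ R
        · obtain ⟨i, hi⟩ := hzR
          have hi' : i.1 ^ 2 = z := by simpa [pw] using congrArg Subtype.val hi
          obtain ⟨u, huZ, hu⟩ : ∃ u, u ∉ Z ∧ φ u = 1 := by
            by_cases h1 : φ a0 = 1
            · exact ⟨a0, ha0, h1⟩
            by_cases h2 : φ b0 = 1
            · exact ⟨b0, hb0, h2⟩
            refine ⟨a0 * b0, hab, ?_⟩
            have hcy : Nat.card (Z ⧸ R) = 2 := hQc
            have hy : φ b0 = φ a0 := eq_of_card_two hcy h2 h1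
            have hsq : φ a0 * φ a0 = 1 := by
              rw [← pow_two]
              have := pow_card_eq_one' (x := φ a0)
              rwa [hQc] at this
            calc φ (a0 * b0) = φ a0 * φ b0 * QuotientGroup.mk ⟨z, hTZ (Subgroup.mem_zpowers z)⟩ := by
                  simp only [φ, ← QuotientGroup.mk_mul]
                  congr 1
                  exact Subtype.ext (hmul2 a0 b0 hne)
              _ = 1 := by rw [hy, hsq, one_mul]; exact (QuotientGroup.eq_one_iff _).2 ⟨i, hi⟩
          obtain ⟨r, hr, hur⟩ := hφR u hu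
          have hc : ∀ a ∈ Z, Commute u a := fun a ha => Subgroup.mem_center_iff.1 ha u
          refine ⟨u * (r⁻¹ * i.1), fun h => huZ ?_, ?_⟩
          · have h' := Z.mul_mem h (Z.inv_mem (Z.mul_mem (Z.inv_mem hr) i.2))
            rwa [mul_inv_cancel_right] at h'
          · rw [(hc _ (Z.mul_mem (Z.inv_mem hr) i.2)).mul_pow, hur,
              Commute.mul_pow (a := r⁻¹) (b := i.1) (Subgroup.mem_center_iff.1 i.2 r⁻¹), inv_pow,
              mul_inv_cancel_left, hi']
        · obtain ⟨u, huZ, hu⟩ : ∃ u, u ∉ Z ∧ φ u ≠ 1 := by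
            by_contra hno
            push Not at hno
            apply hzR
            rw [← QuotientGroup.eq_one_iff (N := R)]
            have e : φ (a0 * b0) =
                φ a0 * φ b0 * QuotientGroup.mk ⟨z, hTZ (Subgroup.mem_zpowers z)⟩ := by
              simp only [φ, ← QuotientGroup.mk_mul]
              congr 1
              exact Subtype.ext (hmul2 a0 b0 hne)
            rw [hno _ hab, hno _ ha0, hno _ hb0, one_mul, one_mul] at e
            exact e.symm
          have : φ u = QuotientGroup.mk ⟨z, hTZ (Subgroup.mem_zpowers z)⟩ := by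
            exact eq_of_card_two hQc hu fun h => hzR ((QuotientGroup.eq_one_iff _).1 h)
          obtain ⟨r, hr⟩ := QuotientGroup.eq.1 this.symm
          have hr' : u ^ 2 = z * r.1 ^ 2 := by
            have := congrArg Subtype.val hr
            simp [pw] at this
            rw [this]; group
          have hc : Commute u r.1⁻¹ := Subgroup.mem_center_iff.1 (Z.inv_mem r.2) u
          refine ⟨u * r.1⁻¹, fun h => huZ (by simpa using Z.mul_mem h r.2), ?_⟩
          rw [hc.mul_pow, hr', inv_pow, mul_inv_cancel_right]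
      · -- odd case: `u ^ p = 1`
        have hch : p ∣ p.choose 2 := hpP.dvd_choose_self two_ne_zero (by
          rcases hodd with ⟨j, hj⟩
          have := hpP.two_le
          omega)
        have hmulp : ∀ a b : G, (a * b) ^ p = a ^ p * b ^ p := by
          intro a b
          rw [hmulpow a b]
          obtain ⟨m, hm⟩ := hch
          rw [hm, pow_mul, hTp (b⁻¹ * a⁻¹ * b * a) (by simpa using hcT b⁻¹ a⁻¹), one_pow, mul_one]
        let ψ : G →* Z ⧸ R := MonoidHom.mk' φ (fun a b => by
          simp only [φ, ← QuotientGroup.mk_mul]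
          congr 1
          exact Subtype.ext (hmulp a b))
        obtain ⟨u, huZ, hu⟩ : ∃ u, u ∉ Z ∧ ψ u = 1 := by
          by_cases h1 : ψ a0 = 1
          · exact ⟨a0, ha0, h1⟩
          obtain ⟨k, hk⟩ := mem_powers_of_prime_card (g' := ψ b0) hQc h1
          refine ⟨b0 * (a0 ^ k)⁻¹, fun h => hne ?_, ?_⟩
          · have h3 := Subgroup.mem_center_iff.1 h a0
            have h4 : Commute a0 (a0 ^ k) := (Commute.refl a0).pow_right k
            have h5 := Commute.mul_right (a := a0) (b := b0 * (a0 ^ k)⁻¹) h3 h4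
            simpa using h5.eq
          · rw [map_mul, map_inv, map_pow, show ψ a0 ^ k = ψ b0 from hk, mul_inv_cancel]
        obtain ⟨r, hr, hur⟩ := hφR u hu
        refine ⟨u * r⁻¹, fun h => huZ (by simpa using Z.mul_mem h hr), fun x _ => ?_⟩
        rw [hmulp, hmulp, hur, ← hmulp r r⁻¹, mul_inv_cancel, one_pow, mul_one]
  -- every element outside `ocen u` has orbit at least `p ^ 2`
  let L : Set G := ((ocen u : Subgroup G) : Set G)ᶜ
  have horb : ∀ x ∈ L, p ^ 2 ≤ Nat.card (orbit (MulAut G) x) := by
    intro x hx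
    have := hnor u
    obtain ⟨θ, hθC, hθx⟩ := exists_twist (p := p) (hidx u huZ) hx hvu hvc (hvpow x hx)
    have hxZ : x ∉ Z := fun h => hx (center_le_ocen u h)
    have hθj : ∀ j : ℕ, (θ ^ j) x = x * v ^ j := by
      intro j
      induction j with
      | zero => simp
      | succ j ih =>
        rw [pow_succ', MulAut.mul_apply, ih, map_mul, hθx, map_pow, hθC v hvu, pow_succ',
          mul_assoc]
    have hθt : ∀ (j : ℕ), ∀ t ∈ T, (θ ^ j) t = t := by
      intro j t ht
      induction j with
      | zero => simp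
      | succ j ih => rw [pow_succ', MulAut.mul_apply, ih, hθC t (center_le_ocen u (hTZ ht))]
    let F : Fin p × T → orbit (MulAut G) x := fun q => ⟨x * v ^ (q.1 : ℕ) * q.2.1, by
      have h1 : q.2.1 ∈ (f x).range := by rw [hTall x hxZ]; exact q.2.2
      obtain ⟨g, hg⟩ := h1
      refine ⟨θ ^ (q.1 : ℕ) * MulAut.conj g⁻¹, ?_⟩
      change (θ ^ (q.1 : ℕ)) (MulAut.conj g⁻¹ x) = _
      have hgT : (q.2 : G) ∈ Z := hTZ q.2.2
      have hg' : x * g * x⁻¹ * g⁻¹ = (q.2 : G) := hg
      have e : MulAut.conj g⁻¹ x = x * q.2.1 := by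
        rw [MulAut.conj_apply, inv_inv, ← Subgroup.mem_center_iff.1 hgT x |>.symm]
        have e2 : g⁻¹ * x * g = g⁻¹ * ((x * g * x⁻¹ * g⁻¹) * g) * x := by group
        rw [e2, hg', ← Subgroup.mem_center_iff.1 hgT g]
        group
      rw [e, map_mul, hθj, hθt _ _ q.2.2]⟩
    have hinj : Function.Injective F := by
      have key : ∀ i j : ℕ, i ≤ j → j < p → ∀ s t : T,
          x * v ^ i * s.1 = x * v ^ j * t.1 → i = j := by
        intro i j hij hj s t he
        rw [mul_assoc, mul_assoc, mul_left_cancel_iff] at he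
        obtain ⟨d, rfl⟩ := Nat.exists_eq_add_of_le hij
        rw [pow_add, mul_assoc, mul_left_cancel_iff] at he
        have h1 : v ^ d ∈ T := by
          have h2 := T.mul_mem s.2 (T.inv_mem t.2)
          rwa [he, mul_inv_cancel_right] at h2
        rcases Nat.eq_zero_or_pos d with hd | hd
        · omega
        · have := Nat.le_of_dvd hd (hvT d h1)
          omega
      rintro ⟨i, s⟩ ⟨j, t⟩ he
      have he' : x * v ^ (i : ℕ) * s.1 = x * v ^ (j : ℕ) * t.1 := congrArg Subtype.val he
      have hij : (i : ℕ) = j := by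
        rcases le_total (i : ℕ) j with h | h
        · exact key _ _ h j.2 s t he'
        · exact (key _ _ h i.2 t s he'.symm).symm
      have hst : s = t := by
        rw [hij] at he'
        exact Subtype.ext (mul_left_cancel he')
      exact Prod.ext (Fin.ext hij) hst
    have h := Nat.card_le_card_of_injective F hinj
    rwa [Nat.card_prod, Nat.card_fin, hTc, ← pow_two] at h
  refine orbit_count hp hpP.pos (m := p ^ 2) (Nat.le_self_pow two_ne_zero p) L
    (fun x hx h => hx (center_le_ocen u h)) horb ?_
  have hLc : L.ncard + Nat.card (ocen u) = Nat.card G := by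
    have := Set.ncard_add_ncard_compl ((ocen u : Subgroup G) : Set G)
    rw [← Nat.card_coe_set_eq ((ocen u : Subgroup G) : Set G)] at this
    simpa [add_comm, L] using this
  have hG := Subgroup.card_mul_index (ocen u)
  rw [hidx u huZ] at hG
  have hZG := Subgroup.card_mul_index Z
  have h3 := center_index_ge_sq hp huZ
  have h4 : Nat.card Z * p ^ 2 ≤ Nat.card G := by
    rw [← hZG]; exact Nat.mul_le_mul_left _ h3
  obtain ⟨r, hr⟩ : ∃ r, p = r + 2 := ⟨p - 2, by have := hpP.two_le; omega⟩
  subst hr
  simp only [show r + 2 - 1 = r + 1 from rfl]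
  have h6 : L.ncard = Nat.card (ocen u) * (r + 1) := by nlinarith
  have h7 : Nat.card Z * (r + 2) ≤ Nat.card (ocen u) := by
    have : Nat.card Z * (r + 2) * (r + 2) ≤ Nat.card (ocen u) * (r + 2) := by
      rw [hG, mul_assoc, ← pow_two]; exact h4
    exact Nat.le_of_mul_le_mul_right this (by omega)
  rw [h6]
  have h7' : Nat.card (Subgroup.center G) * (r + 2) ≤ Nat.card (ocen u) := h7
  nlinarith [Nat.mul_le_mul_left ((r + 1) * (r + 2) * (r + 1)) h7',
    Nat.zero_le (Nat.card (Subgroup.center G) * r * (r + 1) * (r + 2) ^ 2)]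

end Cfsg.Agent.H29
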