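import Cfsg.Agent.H42.PSL2Cases

/-!
# `PSL₂(13)`: every non-normal subgroup has a maximal normaliser
-/

set_option autoImplicit false

namespace Cfsg.Agent.H29

open Matrix H39
open scoped MatrixGroups

local instance : Fact (Nat.Prime 13) := ⟨by norm_num⟩

/-- `PSL₂(13)`. -/
abbrev P13 := Matrix.ProjectiveSpecialLinearGroup (Fin 2) (ZMod 13)

lemma p13_tor {y : P13} (hy : y ^ 13 ≠ 1) :
    (Nat.card (tor y) = 7 ∨ Nat.card (tor y) = 6) ∧
      Nat.card (Subgroup.normalizer (tor y : Set P13)) = 2 * Nat.card (tor y) := by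
  obtain ⟨h1, h2, -⟩ := tor_trichotomy 13 hy
  refine ⟨?_, h2⟩
  simpa [ZMod.card] using h1

lemma p13_card : Nat.card P13 = 1092 := by
  rw [card_G2_eq]; simp [ZMod.card]

lemma p13_coatom_card {M : Subgroup P13} (hM : IsCoatom M) :
    (Nat.card M = 78 ∧ ∃ P : GL (Fin 2) (ZMod 13), M.map (cjP P).toMonoidHom = borelP) ∨
      Nat.card M = 14 ∨ Nat.card M = 12 := by
  have h13 : Fintype.card (ZMod 13) = 13 := ZMod.card 13
  rcases H42.maximal_cases 13 (by rw [h13]; norm_num) M hM with
    ⟨P, h⟩ | ⟨c, hc, rfl⟩ | ⟨P, K, r, hr, h, -⟩ | ⟨-, -, ⟨e⟩⟩ | ⟨-, -, ⟨e⟩⟩ | ⟨-, -, ⟨e⟩⟩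
  · refine Or.inl ⟨?_, P, h⟩
    rw [← Subgroup.card_map_of_injective (show Function.Injective (cjP P).toMonoidHom from (cjP P).injective), h,
      card_borelP]
    simp [ZMod.card]
  · obtain ⟨h1, h2⟩ := p13_tor hc
    rw [h2]
    rcases h1 with h1 | h1 <;> rw [h1] <;> simp
  · exfalso
    rw [h13] at h
    have : Nat.Prime (Nat.card K ^ r) := by rw [← h]; norm_num
    exact hr.ne_one (Nat.Prime.eq_one_of_pow this)
  · right; right
    rw [Nat.card_congr e.toEquiv]; simp
    decide
  all_goals
    exfalso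
    have hd := M.card_subgroup_dvd_card
    rw [p13_card, Nat.card_congr e.toEquiv] at hd
  · rw [Nat.card_perm, Nat.card_fin] at hd
    norm_num [Nat.factorial] at hd
  · rw [Nat.card_eq_fintype_card] at hd
    revert hd
    decide

lemma p13_coatom_of_card {K : Subgroup P13} (hK : Nat.card K = 12) : IsCoatom K := by
  rcases eq_top_or_exists_le_coatom K with h | ⟨M, hM, hle⟩
  · rw [h, Subgroup.card_top, p13_card] at hK; norm_num at hK
  · have hd := Subgroup.card_dvd_of_le hle
    rw [hK] at hd
    rcases p13_coatom_card hM with ⟨h, -⟩ | h | h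
    · rw [h] at hd; norm_num at hd
    · rw [h] at hd; norm_num at hd
    · rwa [Subgroup.eq_of_le_of_card_ge hle (by rw [h, hK])]

lemma le_normalizer_of_half {G : Type*} [Group G] [Finite G] {A M : Subgroup G} (hle : A ≤ M)
    (h : 2 * Nat.card A = Nat.card M) : M ≤ Subgroup.normalizer (A : Set G) := by
  have h1 := (A.subgroupOf M).card_mul_index
  rw [Nat.card_congr (Subgroup.subgroupOfEquivOfLe hle).toEquiv, ← h, mul_comm 2] at h1
  have := Subgroup.normal_of_index_eq_two (Nat.eq_of_mul_eq_mul_left Nat.card_pos h1)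
  exact (Subgroup.normal_subgroupOf_iff_le_normalizer hle).1 this

lemma p13_klein {A : Subgroup P13} (hA : Nat.card A = 4) :
    Nat.card (Subgroup.normalizer (A : Set P13)) = 12 := by
  have hnt : Nontrivial A := Finite.one_lt_card_iff_nontrivial.1 (by omega)
  have hexp : Monoid.exponent A = 2 := by
    refine Monoid.exponent_eq_prime_iff (p := 2) Nat.prime_two |>.2 ?_
    intro g hg
    have hd := orderOf_dvd_natCard g
    rw [hA, show (4 : ℕ) = 2 ^ 2 by norm_num, Nat.dvd_prime_pow Nat.prime_two] at hd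
    obtain ⟨i, hi, hgi⟩ := hd
    interval_cases i
    · exact absurd (orderOf_eq_one_iff.1 hgi) hg
    · simpa using hgi
    · exfalso
      have ho : orderOf (g : P13) = 4 := by rw [Subgroup.orderOf_coe, hgi]; norm_num
      have hy : (g : P13) ^ 13 ≠ 1 := fun h => by
        have := orderOf_dvd_of_pow_eq_one h
        rw [ho] at this; norm_num at this
      have h2 := Subgroup.orderOf_dvd_natCard (tor (g : P13)) (self_mem_tor _)
      rw [ho] at h2
      rcases (p13_tor hy).1 with h | h <;> rw [h] at h2 <;> norm_num at h2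
  have hV : IsKleinFour A := { card_four := hA, exponent_two := hexp }
  rw [card_normalizer_klein 13 (by rw [ZMod.card]; decide) hV]
  simp [ZMod.card, evenHalf]

lemma p13_order_three {y : P13} (hy : orderOf y = 3) :
    Nat.card (Subgroup.normalizer (Subgroup.zpowers y : Set P13)) = 12 := by
  have hy13 : y ^ 13 ≠ 1 := fun h => by
    have := orderOf_dvd_of_pow_eq_one h
    rw [hy] at this; norm_num at this
  have h6 : Nat.card (tor y) = 6 := by
    have h2 := Subgroup.orderOf_dvd_natCard (tor y) (self_mem_tor _)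
    rw [hy] at h2
    rcases (p13_tor hy13).1 with h | h
    · rw [h] at h2; norm_num at h2
    · exact h
  have hy1 : y ≠ 1 := fun h => by rw [h, orderOf_one] at hy; norm_num at hy
  have hle : Subgroup.zpowers y ≤ tor y := Subgroup.zpowers_le.2 (self_mem_tor y)
  have hn : Subgroup.normalizer (tor y : Set P13) =
      Subgroup.normalizer (Subgroup.zpowers y : Set P13) := by
    apply le_antisymm
    · intro g hg
      refine Subgroup.mem_normalizer_fintype fun x hx => ?_
      have := tor_isCyclic 13 hy13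
      obtain ⟨c, hc⟩ := (tor y).isCyclic_iff_exists_zpowers_eq_top.1 this
      have hgx : g * x * g⁻¹ ∈ tor y := (Subgroup.mem_normalizer_iff.1 hg x).1 (hle hx)
      have hc6 : orderOf c = 6 := by rw [← Nat.card_zpowers, hc, h6]
      have key : ∀ u ∈ tor y, u ^ 3 = 1 → u ∈ Subgroup.zpowers (c ^ 2) := by
        intro u hu hu3
        rw [← hc] at hu
        obtain ⟨k, rfl⟩ := Subgroup.mem_zpowers_iff.1 hu
        have h3 : (6 : ℤ) ∣ k * 3 := by
          have := orderOf_dvd_iff_zpow_eq_one (x := c) (i := k * 3) |>.2 (by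
            rw [_root_.zpow_mul]; exact_mod_cast hu3)
          rwa [hc6] at this
        obtain ⟨l, hl⟩ : (2 : ℤ) ∣ k := by omega
        exact Subgroup.mem_zpowers_iff.2 ⟨l, by rw [← zpow_natCast, ← _root_.zpow_mul, hl]; norm_num⟩
      have hy3 : y ^ 3 = 1 := orderOf_dvd_iff_pow_eq_one.1 (dvd_of_eq hy)
      have hx3 : x ^ 3 = 1 := by
        obtain ⟨k, rfl⟩ := Subgroup.mem_zpowers_iff.1 hx
        rw [← zpow_natCast, _root_.zpow_comm, zpow_natCast, hy3, _root_.one_zpow]
      have heq : Subgroup.zpowers y = Subgroup.zpowers (c ^ 2) := by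
        refine Subgroup.eq_of_le_of_card_ge (Subgroup.zpowers_le.2 (key y (self_mem_tor y) hy3)) ?_
        rw [Nat.card_zpowers, Nat.card_zpowers, hy, orderOf_pow' c two_ne_zero, hc6]
        decide
      rw [heq]
      refine key _ hgx ?_
      rw [conj_pow, hx3, mul_one, mul_inv_cancel]
    · intro g hg
      refine Subgroup.mem_normalizer_fintype fun x hx => ?_
      have h1 : g * y * g⁻¹ ∈ tor y :=
        hle ((Subgroup.mem_normalizer_iff.1 hg y).1 (Subgroup.mem_zpowers y))
      have h2 : g * y * g⁻¹ ≠ 1 := fun h => hy1 (conj_eq_one_iff.1 h)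
      have h3 : g * x * g⁻¹ ∈ tor (g * y * g⁻¹) := by
        rw [tor_conj]; exact ⟨x, hx, rfl⟩
      rwa [tor_eq_of_mem hy1 h1 h2] at h3
  rw [← hn, (p13_tor hy13).2, h6]

lemma p13_transl_pow (t : ZMod 13) (n : ℕ) :
    (transl t : P13) ^ n = transl ((n : ZMod 13) * t) := by
  induction n with
  | zero => simp [transl_zero]
  | succ n ih => rw [pow_succ, ih, transl_mul]; push_cast; rw [add_mul, one_mul]

lemma p13_borel {A M : Subgroup P13} (hle : A ≤ M) {P : GL (Fin 2) (ZMod 13)}
    (hP : M.map (cjP P).toMonoidHom = borelP) (h13 : 13 ∣ Nat.card A) :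
    M ≤ Subgroup.normalizer (A : Set P13) := by
  obtain ⟨⟨z, hzA⟩, hz⟩ := exists_prime_orderOf_dvd_card' 13 h13
  replace hz : orderOf z = 13 := (Subgroup.orderOf_coe ⟨z, hzA⟩).trans hz
  have hbor : ∀ x ∈ M, cjP P x ∈ (borelP : Subgroup P13) := fun x hx => by
    rw [← hP]; exact ⟨x, hx, rfl⟩
  have hmult : ∀ x ∈ M, x ^ 13 = 1 → mult (cjP P x) = 1 := by
    intro x hx hx13
    have h : multHom (⟨cjP P x, hbor x hx⟩ : (borelP : Subgroup P13)) ^ 13 = 1 := by
      rw [← map_pow, show (⟨cjP P x, hbor x hx⟩ : (borelP : Subgroup P13)) ^ 13 = 1 from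
        Subtype.ext (by simp [← map_pow, hx13]), map_one]
    have h2 := congrArg Units.val h
    rw [Units.val_pow_eq_pow_val] at h2
    change mult (cjP P x) ^ 13 = 1 at h2
    rwa [ZMod.pow_card] at h2
  have hz13 : z ^ 13 = 1 := orderOf_dvd_iff_pow_eq_one.1 (dvd_of_eq hz)
  have hzT := eq_transl_of_mult_one (hbor z (hle hzA)) (hmult z (hle hzA) hz13)
  set t := shift (cjP P z) with ht
  have ht0 : t ≠ 0 := by
    intro h0
    rw [h0, transl_zero, ← map_one (cjP P)] at hzT
    rw [(cjP P).injective hzT, orderOf_one] at hz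
    norm_num at hz
  intro g hg
  refine Subgroup.mem_normalizer_fintype fun a ha => ?_
  set c := g * a * g⁻¹ * a⁻¹ with hc
  have hcM : c ∈ M := M.mul_mem (M.mul_mem (M.mul_mem hg (hle ha)) (M.inv_mem hg))
    (M.inv_mem (hle ha))
  have hc1 : mult (cjP P c) = 1 := by
    have h : multHom (⟨cjP P c, hbor c hcM⟩ : (borelP : Subgroup P13)) = 1 := by
      rw [show (⟨cjP P c, hbor c hcM⟩ : (borelP : Subgroup P13)) =
        ⟨cjP P g, hbor g hg⟩ * ⟨cjP P a, hbor a (hle ha)⟩ * (⟨cjP P g, hbor g hg⟩)⁻¹ *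
          (⟨cjP P a, hbor a (hle ha)⟩)⁻¹ from Subtype.ext (by simp [hc])]
      rw [map_mul, map_mul, map_mul, map_inv, map_inv,
        mul_comm (multHom (⟨cjP P g, hbor g hg⟩ : (borelP : Subgroup P13))), mul_inv_cancel_right,
        mul_inv_cancel]
    exact congrArg Units.val h
  have hcT := eq_transl_of_mult_one (hbor c hcM) hc1
  have hcA : c ∈ A := by
    have : c = z ^ (shift (cjP P c) / t).val := by
      apply (cjP P).injective
      rw [map_pow, hzT, p13_transl_pow, ZMod.natCast_zmod_val, div_mul_cancel₀ _ ht0]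
      exact hcT
    rw [this]; exact A.pow_mem hzA _
  have e : g * a * g⁻¹ = c * a := by rw [hc]; group
  rw [e]; exact A.mul_mem hcA ha

/-- Every subgroup of `PSL₂(13)` is normal or has a maximal normaliser. -/
theorem p13_normalizer (A : Subgroup P13) (hA : ¬ A.Normal) :
    IsCoatom (Subgroup.normalizer (A : Set P13)) := by
  have hne : Subgroup.normalizer (A : Set P13) ≠ ⊤ := fun h =>
    hA (Subgroup.normalizer_eq_top_iff.1 h)
  have finish : ∀ {K : Subgroup P13}, IsCoatom K → K ≤ Subgroup.normalizer (A : Set P13) →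
      IsCoatom (Subgroup.normalizer (A : Set P13)) := by
    intro K hK hle
    rcases hle.lt_or_eq with h | h
    · exact absurd (hK.2 _ h) hne
    · rwa [← h]
  obtain ⟨M, hM, hle⟩ : ∃ M, IsCoatom M ∧ A ≤ M := by
    rcases eq_top_or_exists_le_coatom A with h | h
    · exact absurd (h ▸ inferInstance) hA
    · exact h
  have hd := Subgroup.card_dvd_of_le hle
  have hA1 : Nat.card A ≠ 1 := fun h => hA (by rw [Subgroup.card_eq_one.1 h]; infer_instance)
  have two : Nat.card A = 2 → IsCoatom (Subgroup.normalizer (A : Set P13)) := by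
    intro h2
    obtain ⟨⟨t, htA⟩, ht⟩ := exists_prime_orderOf_dvd_card' (G := A) 2 (dvd_of_eq h2.symm)
    replace ht : orderOf t = 2 := (Subgroup.orderOf_coe ⟨t, htA⟩).trans ht
    have hAt : A = Subgroup.zpowers t := (Subgroup.eq_of_le_of_card_ge (Subgroup.zpowers_le.2 htA)
      (by rw [h2, Nat.card_zpowers, ht])).symm
    have hodd : Odd (Fintype.card (ZMod 13)) := by rw [ZMod.card]; decide
    have hc : Nat.card (Subgroup.centralizer ({t} : Set P13)) = 12 := by
      rw [card_centralizer_invol 13 hodd ht, ZMod.card]; decide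
    refine finish (p13_coatom_of_card hc) (fun g hg => Subgroup.mem_normalizer_fintype fun x hx => ?_)
    rw [hAt] at hx ⊢
    obtain ⟨k, rfl⟩ := Subgroup.mem_zpowers_iff.1 hx
    have hgt : Commute g t := Subgroup.mem_centralizer_singleton_iff.1 hg
    rw [(hgt.zpow_right k).eq, mul_inv_cancel_right]
    exact Subgroup.zpow_mem _ (Subgroup.mem_zpowers t) k
  have three : Nat.card A = 3 → IsCoatom (Subgroup.normalizer (A : Set P13)) := by
    intro h3
    have : Fact (Nat.Prime 3) := ⟨Nat.prime_three⟩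
    obtain ⟨⟨y, hyA⟩, hy⟩ := exists_prime_orderOf_dvd_card' (G := A) 3 (dvd_of_eq h3.symm)
    replace hy : orderOf y = 3 := (Subgroup.orderOf_coe ⟨y, hyA⟩).trans hy
    have hAy : A = Subgroup.zpowers y := (Subgroup.eq_of_le_of_card_ge (Subgroup.zpowers_le.2 hyA)
      (by rw [h3, Nat.card_zpowers, hy])).symm
    refine finish (p13_coatom_of_card (p13_order_three hy)) ?_
    rw [hAy]
  have six : Nat.card A = 6 → IsCoatom (Subgroup.normalizer (A : Set P13)) := by
    intro h6
    have : Fact (Nat.Prime 3) := ⟨Nat.prime_three⟩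
    obtain ⟨⟨y, hyA⟩, hy⟩ := exists_prime_orderOf_dvd_card' (G := A) 3 (by rw [h6]; norm_num)
    replace hy : orderOf y = 3 := (Subgroup.orderOf_coe ⟨y, hyA⟩).trans hy
    have hK := p13_order_three hy
    have h1 : A ≤ Subgroup.normalizer (Subgroup.zpowers y : Set P13) :=
      le_normalizer_of_half (Subgroup.zpowers_le.2 hyA) (by rw [Nat.card_zpowers, hy, h6])
    exact finish (p13_coatom_of_card hK) (le_normalizer_of_half h1 (by rw [hK, h6]))
  rcases p13_coatom_card hM with ⟨h78, P, hP⟩ | h14 | h12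
  · by_cases h13 : 13 ∣ Nat.card A
    · exact finish hM (p13_borel hle hP h13)
    · rw [h78] at hd
      have := (Nat.mem_divisors.2 ⟨hd, by norm_num⟩ : Nat.card A ∈ Nat.divisors 78)
      rw [show Nat.divisors 78 = {1, 2, 3, 6, 13, 26, 39, 78} by decide] at this
      simp only [Finset.mem_insert, Finset.mem_singleton] at this
      rcases this with h | h | h | h | h | h | h | h
      · exact absurd h hA1
      · exact two h
      · exact three h
      · exact six h
      all_goals exact h13.elim (by simp [h])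
  · rw [h14] at hd
    have := (Nat.mem_divisors.2 ⟨hd, by norm_num⟩ : Nat.card A ∈ Nat.divisors 14)
    rw [show Nat.divisors 14 = {1, 2, 7, 14} by decide] at this
    simp only [Finset.mem_insert, Finset.mem_singleton] at this
    rcases this with h | h | h | h
    · exact absurd h hA1
    · exact two h
    · exact finish hM (le_normalizer_of_half hle (by rw [h, h14]))
    · exact finish hM (Subgroup.eq_of_le_of_card_ge hle (by rw [h, h14]) ▸ Subgroup.le_normalizer)
  · rw [h12] at hd
    have := (Nat.mem_divisors.2 ⟨hd, by norm_num⟩ : Nat.card A ∈ Nat.divisors 12)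
    rw [show Nat.divisors 12 = {1, 2, 3, 4, 6, 12} by decide] at this
    simp only [Finset.mem_insert, Finset.mem_singleton] at this
    rcases this with h | h | h | h | h | h
    · exact absurd h hA1
    · exact two h
    · exact three h
    · exact p13_coatom_of_card (p13_klein h)
    · exact six h
    · exact finish hM (Subgroup.eq_of_le_of_card_ge hle (by rw [h, h12]) ▸ Subgroup.le_normalizer)

end Cfsg.Agent.H29
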