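import Mathlib
import Cfsg.Agent.H29.EigenProjections

set_option autoImplicit false

/-!
A cyclic group of order `h` prime to `p` acting semiregularly and symplectically on a space of
dimension `2 n` over `ZMod p`: `h ∣ p ^ n + 1` or `h ∣ p ^ n - 1`.
-/

namespace Cfsg.Agent.H29

open Module

/-- A function invariant under a subgroup sums to a multiple of its order. -/
theorem exists_quotient_sum {U : Type*} [CommGroup U] [Fintype U] (S : Subgroup U)
    [Fintype (U ⧸ S)] (f : U → ℕ) (hf : ∀ s ∈ S, ∀ a, f (s * a) = f a) :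
    ∃ g : U ⧸ S → ℕ, (∀ a : U, g (a : U ⧸ S) = f a) ∧ ∑ a, f a = Nat.card S * ∑ x, g x := by
  classical
  haveI : Fintype S := Fintype.ofFinite S
  let g : U ⧸ S → ℕ := fun x => f x.out
  have hg : ∀ a : U, g (a : U ⧸ S) = f a := by
    intro a
    obtain ⟨s, hs⟩ := QuotientGroup.mk_out_eq_mul S a
    show f (Quotient.out (a : U ⧸ S)) = f a
    rw [hs, mul_comm, hf _ s.2]
  refine ⟨g, hg, ?_⟩
  rw [← Finset.sum_fiberwise' Finset.univ (fun a : U => (a : U ⧸ S)) g |>.trans
    (Finset.sum_congr rfl fun a _ => hg a), Finset.mul_sum]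
  refine Finset.sum_congr rfl fun x _ => ?_
  rw [Finset.sum_const, smul_eq_mul]
  congr 1
  obtain ⟨a, rfl⟩ := QuotientGroup.mk_surjective x
  rw [Nat.card_eq_fintype_card, ← Finset.card_univ]
  refine Finset.card_bij' (fun b hb => ⟨a⁻¹ * b, QuotientGroup.eq.mp ((Finset.mem_filter.mp hb).2).symm⟩)
    (fun s _ => a * (s : U)) (fun _ _ => Finset.mem_univ _)
    (fun s _ => ?_) (fun b _ => by simp) (fun s _ => by simp)
  rw [Finset.mem_filter]
  refine ⟨Finset.mem_univ _, ?_⟩
  rw [QuotientGroup.eq]
  simp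

/-- Dimension of an eigenspace of a matrix. -/
noncomputable def eigDim {K : Type*} [Field K] {m : ℕ} (M : Matrix (Fin m) (Fin m) K) (c : K) : ℕ :=
  finrank K (Module.End.eigenspace (Matrix.mulVecLin M) c)

theorem eigDim_transpose {K : Type*} [Field K] {m : ℕ} (M : Matrix (Fin m) (Fin m) K) (c : K) :
    eigDim M.transpose c = eigDim M c := by
  have key : ∀ N : Matrix (Fin m) (Fin m) K,
      Module.End.eigenspace (Matrix.mulVecLin N) c =
        LinearMap.ker (Matrix.mulVecLin (N - c • (1 : Matrix (Fin m) (Fin m) K))) := by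
    intro N
    ext v
    simp [Module.End.mem_eigenspace_iff, LinearMap.mem_ker, Matrix.sub_mulVec, Matrix.smul_mulVec,
      sub_eq_zero]
  unfold eigDim
  rw [key, key]
  have h1 := LinearMap.finrank_range_add_finrank_ker
    (Matrix.mulVecLin (M - c • (1 : Matrix (Fin m) (Fin m) K)))
  have h2 := LinearMap.finrank_range_add_finrank_ker
    (Matrix.mulVecLin (M.transpose - c • (1 : Matrix (Fin m) (Fin m) K)))
  have h3 : (M.transpose - c • (1 : Matrix (Fin m) (Fin m) K)) =
      (M - c • (1 : Matrix (Fin m) (Fin m) K)).transpose := by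
    simp [Matrix.transpose_sub, Matrix.transpose_smul]
  have h4 := Matrix.rank_transpose (M - c • (1 : Matrix (Fin m) (Fin m) K))
  unfold Matrix.rank at h4
  rw [h3] at h2 ⊢
  omega

theorem eigDim_le_frobenius {K : Type*} [Field K] {p : ℕ} [Fact p.Prime] [CharP K p]
    [PerfectRing K p] {m : ℕ} (M : Matrix (Fin m) (Fin m) K) (hM : ∀ i j, M i j ^ p = M i j)
    (c : K) : eigDim M c ≤ eigDim M (c ^ p) := by
  haveI : ExpChar K p := ExpChar.prime Fact.out
  let j : (Fin m → K) →+ (Fin m → K) :=
    { toFun := fun v i => frobenius K p (v i)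
      map_zero' := by funext i; exact map_zero _
      map_add' := fun a b => by funext i; exact map_add _ _ _ }
  let bW := Module.finBasis K (Module.End.eigenspace (Matrix.mulVecLin M) c)
  have hli : LinearIndependent K (fun i => ((bW i : _) : Fin m → K)) :=
    bW.linearIndependent.map' (Submodule.subtype _) (Submodule.ker_subtype _)
  have hli' : LinearIndependent K (j ∘ fun i => ((bW i : _) : Fin m → K)) := by
    refine hli.map_of_injective_injective (fun r => (frobeniusEquiv K p).symm r) j
      (fun r hr => ?_) (fun v hv => ?_) (fun r v => ?_)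
    · exact (frobeniusEquiv K p).symm.injective (hr.trans (map_zero _).symm)
    · funext i
      exact (frobenius_inj K p) ((congrFun hv i).trans (map_zero (frobenius K p)).symm)
    · funext i
      show frobenius K p ((frobeniusEquiv K p).symm r * v i) = r * frobenius K p (v i)
      rw [map_mul, frobenius_apply_frobeniusEquiv_symm]
  have hmem : ∀ i, (j ∘ fun i => ((bW i : _) : Fin m → K)) i ∈
      Module.End.eigenspace (Matrix.mulVecLin M) (c ^ p) := by
    intro i
    rw [Module.End.mem_eigenspace_iff]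
    funext k
    have h1 := congrFun (Module.End.mem_eigenspace_iff.mp (bW i).2) k
    have h2 := congrArg (frobenius K p) h1
    simp only [Matrix.mulVecLin_apply, Matrix.mulVec, dotProduct, map_sum, map_mul, Pi.smul_apply,
      smul_eq_mul] at h2
    simp only [Matrix.mulVecLin_apply, Matrix.mulVec, dotProduct, Function.comp_apply, Pi.smul_apply,
      smul_eq_mul]
    show ∑ l, M k l * frobenius K p (_) = c ^ p * frobenius K p (_)
    refine Eq.trans ?_ h2
    refine Finset.sum_congr rfl fun l _ => ?_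
    rw [show frobenius K p (M k l) = M k l from hM k l]
  have := (LinearIndependent.of_comp (Submodule.subtype _)
    (v := fun i => (⟨_, hmem i⟩ : Module.End.eigenspace (Matrix.mulVecLin M) (c ^ p))) hli')
      |>.fintype_card_le_finrank
  simpa [eigDim] using this

theorem dvd_pow_add_one_or_sub_one {p : ℕ} [Fact p.Prime] {V : Type*} [AddCommGroup V]
    [Module (ZMod p) V] [Module.Finite (ZMod p) V] {n : ℕ} (hn : finrank (ZMod p) V = 2 * n)
    (B : V →ₗ[ZMod p] V →ₗ[ZMod p] ZMod p) (hB : B.SeparatingLeft)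
    (X : Module.End (ZMod p) V) (hBX : ∀ u w, B (X u) (X w) = B u w) {h : ℕ} (h0 : 0 < h)
    (hcop : h.Coprime p) (hXh : X ^ h = 1)
    (hfpf : ∀ k : ℕ, ¬ h ∣ k → ∀ v, (X ^ k) v = v → v = 0) :
    h ∣ p ^ n + 1 ∨ h ∣ p ^ n - 1 := by
  classical
  have hp : p.Prime := Fact.out
  haveI : NeZero h := ⟨by omega⟩
  let K := AlgebraicClosure (ZMod p)
  let bs := Module.finBasis (ZMod p) V
  set m := finrank (ZMod p) V with hm
  let M : Matrix (Fin m) (Fin m) K :=
    (LinearMap.toMatrix bs bs X).map (algebraMap (ZMod p) K)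
  let J : Matrix (Fin m) (Fin m) K :=
    (LinearMap.toMatrix₂ bs bs B).map (algebraMap (ZMod p) K)
  have hJdet : J.det ≠ 0 := by
    show ((algebraMap (ZMod p) K).mapMatrix (LinearMap.toMatrix₂ bs bs B)).det ≠ 0
    rw [← RingHom.map_det]
    exact fun he => (LinearMap.separatingLeft_iff_det_ne_zero bs).mp hB
      ((algebraMap (ZMod p) K).injective (he.trans (map_zero _).symm))
  have hMJ : M.transpose * J * M = J := by
    have h1 : B.compl₁₂ X X = B := LinearMap.ext fun u => LinearMap.ext fun w => hBX u w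
    have h2 := LinearMap.toMatrix₂_compl₁₂ (b₁ := bs) (b₂ := bs) (b₁' := bs) (b₂' := bs) B X X
    rw [h1] at h2
    show ((LinearMap.toMatrix bs bs X).map (algebraMap (ZMod p) K)).transpose * _ * _ = _
    rw [← Matrix.transpose_map, ← Matrix.map_mul, ← Matrix.map_mul, ← h2]
  let F : Module.End (ZMod p) V →+* Module.End K (Fin m → K) :=
    ((Matrix.toLinAlgEquiv' (R := K)).toRingEquiv.toRingHom.comp
      (algebraMap (ZMod p) K).mapMatrix).comp (LinearMap.toMatrixAlgEquiv bs).toRingEquiv.toRingHom
  set u := Matrix.mulVecLin M with hu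
  have hFX : F X = u := rfl
  have huh : u ^ h = 1 := by rw [← hFX, ← map_pow, hXh, map_one]
  have hufix : ∀ k : ℕ, ¬ h ∣ k → ∀ v, (u ^ k) v = v → v = 0 := by
    intro k hk v hv
    have hinj : Function.Injective ⇑(X ^ k - 1 : Module.End (ZMod p) V) := by
      rw [← LinearMap.ker_eq_bot, LinearMap.ker_eq_bot']
      intro w hw
      rw [LinearMap.sub_apply, Module.End.one_apply, sub_eq_zero] at hw
      exact hfpf k hk w hw
    have hunit : IsUnit (X ^ k - 1 : Module.End (ZMod p) V) :=
      (Module.End.isUnit_iff _).mpr ⟨hinj, (LinearMap.injective_iff_surjective).mp hinj⟩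
    have h5 := hunit.map F
    rw [map_sub, map_pow, map_one, hFX] at h5
    apply ((Module.End.isUnit_iff _).mp h5).1
    rw [LinearMap.sub_apply, Module.End.one_apply, map_zero]
    exact sub_eq_zero.mpr hv
  have hhK : (h : K) ≠ 0 := by
    rw [Ne, CharP.cast_eq_zero_iff K p]
    exact fun hd => hp.one_lt.ne' ((Nat.Coprime.eq_one_of_dvd hcop.symm hd))
  haveI : NeZero (h : K) := ⟨hhK⟩
  obtain ⟨ζ, hζ⟩ := HasEnoughRootsOfUnity.exists_primitiveRoot K h
  let μ : ZMod h → ℕ := fun a => eigDim M (ζ ^ a.val)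
  have hpow : ∀ k : ℕ, ζ ^ k = ζ ^ (k : ZMod h).val := fun k => by
    rw [ZMod.val_natCast]
    conv_lhs => rw [← Nat.mod_add_div k h, pow_add, pow_mul, hζ.pow_eq_one, one_pow, mul_one]
  -- the sum of all multiplicities
  have hsum : ∑ a, μ a = 2 * n := by
    have hP : ∀ (i : Fin h) (v : Fin m → K), eigProj u h ζ i v ∈ Module.End.eigenspace u (ζ ^ (i : ℕ)) := by
      intro i v
      rw [Module.End.mem_eigenspace_iff]
      exact congrArg (fun f : Module.End K (Fin m → K) => f v) (mul_eigProj u hζ hhK huh i)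
    let D : (Fin m → K) ≃ₗ[K] ((i : Fin h) → Module.End.eigenspace u (ζ ^ (i : ℕ))) :=
      { toFun := fun v i => ⟨eigProj u h ζ i v, hP i v⟩
        map_add' := fun a b => by funext i; exact Subtype.ext (map_add _ a b)
        map_smul' := fun c a => by funext i; exact Subtype.ext (map_smul _ c a)
        invFun := fun w => ∑ i, (w i : Fin m → K)
        left_inv := fun v => by
          show ∑ i, eigProj u h ζ i v = v
          rw [← LinearMap.sum_apply, sum_eigProj u hζ hhK]
          rfl
        right_inv := fun w => by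
          funext j
          apply Subtype.ext
          show eigProj u h ζ j (∑ i, (w i : Fin m → K)) = _
          rw [map_sum, Finset.sum_congr rfl (fun i _ => eigProj_apply_of_eigenvector u hζ hhK
            (Module.End.mem_eigenspace_iff.mp (w i).2))]
          simp }
    have h1 := D.finrank_eq
    rw [Module.finrank_fin_fun, Module.finrank_pi_fintype] at h1
    refine Eq.trans ?_ (h1.symm.trans hn)
    refine Fintype.sum_equiv (ZMod.finEquiv h).symm.toEquiv _ _ fun a => ?_
    show eigDim M (ζ ^ a.val) = finrank K (Module.End.eigenspace u _)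
    unfold eigDim
    have : (((ZMod.finEquiv h).symm a : Fin h) : ℕ) = a.val := by
      cases h with
      | zero => exact absurd h0 (lt_irrefl 0)
      | succ h => rfl
    rw [← this]
    rfl
  have hnonunit : ∀ a : ZMod h, ¬ IsUnit a → μ a = 0 := by
    intro a ha
    rw [← ZMod.natCast_rightInverse a, ZMod.isUnit_iff_coprime] at ha
    set g := Nat.gcd a.val h with hg
    obtain ⟨k, hk⟩ : g ∣ h := Nat.gcd_dvd_right _ _
    obtain ⟨l, hl⟩ : g ∣ a.val := Nat.gcd_dvd_left _ _
    have hndvd : ¬ h ∣ k := by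
      intro hd
      apply ha
      have hk0 : 0 < k := Nat.pos_of_ne_zero fun he => by rw [he, mul_zero] at hk; omega
      have h1 := Nat.le_of_dvd hk0 hd
      have hg0 : 0 < g := Nat.gcd_pos_of_pos_right _ h0
      show g = 1
      nlinarith
    show eigDim M _ = 0
    unfold eigDim
    rw [Submodule.finrank_eq_zero, Submodule.eq_bot_iff]
    intro v hv
    have hpow' : ∀ j : ℕ, (u ^ j) v = (ζ ^ a.val) ^ j • v := by
      intro j
      induction j with
      | zero => simp
      | succ j ih =>
        rw [pow_succ', Module.End.mul_apply, ih, map_smul,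
          show u v = ζ ^ a.val • v from Module.End.mem_eigenspace_iff.mp hv, smul_smul, pow_succ]
    refine hufix k hndvd v ?_
    rw [hpow', ← pow_mul, hl, mul_comm g l, mul_assoc, ← hk, mul_comm, pow_mul, hζ.pow_eq_one,
      one_pow, one_smul]
  -- invariance
  have hneg : ∀ a : ZMod h, μ (-a) = μ a := by
    have hle : ∀ a : ZMod h, μ a ≤ μ (-a) := by
      intro a
      show eigDim M _ ≤ eigDim M _
      rw [← eigDim_transpose M (ζ ^ (-a).val)]
      unfold eigDim
      let L : Module.End.eigenspace (Matrix.mulVecLin M) (ζ ^ a.val) →ₗ[K]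
          Module.End.eigenspace (Matrix.mulVecLin M.transpose) (ζ ^ (-a).val) :=
        LinearMap.codRestrict _ ((Matrix.mulVecLin J).domRestrict _) fun v => by
          rw [Module.End.mem_eigenspace_iff]
          have hv := Module.End.mem_eigenspace_iff.mp v.2
          simp only [Matrix.mulVecLin_apply] at hv
          show M.transpose.mulVec (J.mulVec v) = ζ ^ (-a).val • J.mulVec v
          have h1 : ζ ^ a.val • M.transpose.mulVec (J.mulVec (v : Fin m → K)) =
              J.mulVec (v : Fin m → K) := by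
            rw [← Matrix.mulVec_smul, ← Matrix.mulVec_smul, ← hv, Matrix.mulVec_mulVec,
              Matrix.mulVec_mulVec, hMJ]
          conv_rhs => rw [← h1]
          have hc : ζ ^ (-a).val * ζ ^ a.val = 1 := by
            rw [← pow_add, hpow, Nat.cast_add, ZMod.natCast_rightInverse, ZMod.natCast_rightInverse]
            simp
          rw [smul_smul, hc, one_smul]
      refine LinearMap.finrank_le_finrank_of_injective (f := L) fun v w hvw => ?_
      apply Subtype.ext
      exact (Matrix.mulVec_injective_iff_isUnit.mpr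
        ((Matrix.isUnit_iff_isUnit_det J).mpr (isUnit_iff_ne_zero.mpr hJdet)))
        (congrArg Subtype.val hvw)
    intro a
    refine le_antisymm ?_ (hle a)
    simpa using hle (-a)
  have hp' : ∀ a : ZMod h, μ a ≤ μ ((p : ZMod h) * a) := by
    intro a
    have hMp : ∀ i j, M i j ^ p = M i j := fun i j => by
      show (algebraMap (ZMod p) K) _ ^ p = (algebraMap (ZMod p) K) _
      rw [← map_pow, ZMod.pow_card]
    refine le_trans (eigDim_le_frobenius M hMp _) (le_of_eq ?_)
    show _ = eigDim M _
    congr 1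
    rw [← pow_mul, hpow (a.val * p), Nat.cast_mul, ZMod.natCast_rightInverse a, mul_comm]
  let π : (ZMod h)ˣ := ZMod.unitOfCoprime p hcop.symm
  have hπ : ∀ s ∈ Subgroup.zpowers π, ∀ a : (ZMod h)ˣ, μ ((s * a : (ZMod h)ˣ) : ZMod h) = μ (a : ZMod h) := by
    have hk : ∀ (k : ℕ) (a : (ZMod h)ˣ), μ (a : ZMod h) ≤ μ ((π ^ k * a : (ZMod h)ˣ) : ZMod h) := by
      intro k
      induction k with
      | zero => intro a; simp
      | succ k ih =>
        intro a
        refine le_trans (ih a) (le_trans (hp' _) (le_of_eq ?_))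
        congr 1
        simp [π, pow_succ']
        ring
    intro s hs a
    obtain ⟨k, rfl⟩ := Submonoid.mem_powers_iff _ _ |>.mp (mem_powers_iff_mem_zpowers.mpr hs)
    refine le_antisymm ?_ (hk k a)
    have := hk ((orderOf π - 1) * k) (π ^ k * a)
    refine le_trans this (le_of_eq ?_)
    congr 2
    rw [← mul_assoc, ← pow_add, ← Nat.succ_mul, Nat.succ_eq_add_one,
      Nat.sub_add_cancel (orderOf_pos π), pow_mul, pow_orderOf_eq_one, one_pow, one_mul]
  have hUsum : ∑ a : (ZMod h)ˣ, μ (a : ZMod h) = 2 * n := by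
    rw [← hsum]
    refine Finset.sum_bij_ne_zero (fun a _ _ => (a : ZMod h)) (fun _ _ _ => Finset.mem_univ _)
      (fun a₁ _ _ a₂ _ _ he => Units.ext he) (fun b _ hb => ?_) (fun a _ _ => rfl)
    have hb' : IsUnit b := by
      by_contra hcon
      exact hb (hnonunit b hcon)
    exact ⟨hb'.unit, Finset.mem_univ _, hb, hb'.unit_spec⟩
  set d := orderOf π with hd
  obtain ⟨g, hg, hgsum⟩ := exists_quotient_sum (Subgroup.zpowers π) (fun a => μ (a : ZMod h)) hπ
  rw [hUsum, Nat.card_zpowers, ← hd] at hgsum
  have hpowd : ∀ t : ℕ, d ∣ t → h ∣ p ^ t - 1 := by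
    intro t ht
    rw [← ZMod.natCast_eq_zero_iff]
    rw [Nat.cast_sub (Nat.one_le_pow _ _ hp.pos), Nat.cast_pow, Nat.cast_one, sub_eq_zero]
    have := congrArg Units.val (orderOf_dvd_iff_pow_eq_one.mp ht : π ^ t = 1)
    simpa [π] using this
  by_cases hdn : d ∣ n
  · exact Or.inr (hpowd n hdn)
  left
  by_cases hmem : (-1 : (ZMod h)ˣ) ∈ Subgroup.zpowers π
  · obtain ⟨j, hj⟩ := Submonoid.mem_powers_iff _ _ |>.mp (mem_powers_iff_mem_zpowers.mpr hmem)
    have hneq : (-1 : (ZMod h)ˣ) ≠ 1 → ¬ d ∣ j := fun hne hdj =>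
      hne (hj.symm.trans (orderOf_dvd_iff_pow_eq_one.mp hdj))
    have h2j : d ∣ 2 * j := by
      refine orderOf_dvd_iff_pow_eq_one.mpr ?_
      rw [mul_comm, pow_mul, hj]
      simp
    have hgoal : π ^ n = -1 := by
      by_cases hne : (-1 : (ZMod h)ˣ) = 1
      · exfalso
        apply hdn
        have hh2 : h ∣ 2 := by
          rw [← ZMod.natCast_eq_zero_iff]
          have := congrArg Units.val hne
          simp only [Units.val_neg, Units.val_one] at this
          push_cast
          linear_combination -this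
        have hπ1 : π = 1 := by
          rcases (Nat.dvd_prime Nat.prime_two).mp hh2 with h' | h'
          · subst h'; exact Subsingleton.elim _ _
          · subst h'
            exact Subsingleton.elim _ _
        simp [hd, hπ1]
      obtain ⟨A, hA⟩ : d ∣ 2 * n := ⟨_, hgsum⟩
      obtain ⟨C, hC⟩ := h2j
      have hAodd : Odd A := by
        rcases Nat.even_or_odd A with ⟨A', rfl⟩ | h'
        · exact absurd ⟨A', by linarith⟩ hdn
        · exact h'
      have hCodd : Odd C := by
        rcases Nat.even_or_odd C with ⟨C', rfl⟩ | h'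
        · exact absurd ⟨C', by linarith⟩ (hneq hne)
        · exact h'
      obtain ⟨a, rfl⟩ := hAodd
      obtain ⟨c, rfl⟩ := hCodd
      have e : n + d * c = j + d * a := by linarith
      have e2 := congrArg (fun t => π ^ t) e
      simp only [pow_add, pow_mul, pow_orderOf_eq_one, hd, one_pow, mul_one] at e2
      rw [e2, hj]
    rw [← ZMod.natCast_eq_zero_iff]
    have := congrArg Units.val hgoal
    simp only [π, Units.val_pow_eq_pow_val, ZMod.coe_unitOfCoprime, Units.val_neg, Units.val_one] at this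
    push_cast
    rw [this]
    ring
  · exfalso
    apply hdn
    let ι : (ZMod h)ˣ ⧸ Subgroup.zpowers π := ((-1 : (ZMod h)ˣ) : (ZMod h)ˣ ⧸ Subgroup.zpowers π)
    have hι : ι ≠ 1 := fun he => hmem ((QuotientGroup.eq_one_iff _).mp he)
    have hι2 : ι ^ 2 = 1 := by
      show ((( -1 : (ZMod h)ˣ) ^ 2 : (ZMod h)ˣ) : (ZMod h)ˣ ⧸ Subgroup.zpowers π) = 1
      simp
    have hιo : orderOf ι = 2 := orderOf_eq_prime hι2 hι
    have hginv : ∀ s ∈ Subgroup.zpowers ι, ∀ x, g (s * x) = g x := by
      intro s hs x
      obtain ⟨a, rfl⟩ := QuotientGroup.mk_surjective x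
      have h1 : g (ι * (a : (ZMod h)ˣ ⧸ Subgroup.zpowers π)) = g (a : (ZMod h)ˣ ⧸ Subgroup.zpowers π) := by
        rw [← QuotientGroup.mk_mul, hg, hg]
        simp [hneg]
      obtain ⟨k, hk, rfl⟩ := (isOfFinOrder_of_finite ι).mem_zpowers_iff_mem_range_orderOf.mp hs |> Finset.mem_image.mp
        |> fun ⟨k, hk, e⟩ => (⟨k, Finset.mem_range.mp hk, e.symm⟩ : ∃ k, k < orderOf ι ∧ s = ι ^ k)
      rw [hιo] at hk
      interval_cases k <;> simp [h1]
    obtain ⟨g', -, hg'⟩ := exists_quotient_sum (Subgroup.zpowers ι) g hginv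
    rw [Nat.card_zpowers, hιo] at hg'
    rw [hg'] at hgsum
    exact ⟨∑ x, g' x, Nat.eq_of_mul_eq_mul_left two_pos (by linarith)⟩

end Cfsg.Agent.H29
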