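import Mathlib
import Cfsg.Agent.H29.Basic
import Cfsg.Agent.H10.PSolvable

set_option autoImplicit false

/-!
A representation of a `p`-solvable group spanned by an orbit of length prime to `p` (in
characteristic `p`): every fixed vector is a multiple of the sum over that orbit.
-/

namespace Cfsg.Agent.H29

open scoped Classical Pointwise

variable {k : Type*} [Field k] {V : Type*} [AddCommGroup V] [Module k V]

/-- The orbit of a vector. -/
noncomputable def vecOrbit {H : Type*} [Group H] [Fintype H] (ρ : Representation k H V) (a : V) :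
    Finset V := Finset.univ.image fun h : H => ρ h a

theorem mem_vecOrbit {H : Type*} [Group H] [Fintype H] {ρ : Representation k H V} {a u : V} :
    u ∈ vecOrbit ρ a ↔ ∃ h : H, ρ h a = u := by simp [vecOrbit]

theorem card_vecOrbit {H : Type*} [Group H] [Fintype H] (ρ : Representation k H V) (a : V) :
    Nat.card {u : V | ∃ h : H, ρ h a = u} = (vecOrbit ρ a).card := by
  rw [Nat.card_coe_set_eq, ← Set.ncard_coe_finset]
  congr 1
  ext u
  simp [vecOrbit]

/-- The stabiliser of a vector. -/
def vecStab {H : Type*} [Group H] (ρ : Representation k H V) (a : V) : Subgroup H where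
  carrier := {h | ρ h a = a}
  one_mem' := by simp
  mul_mem' := fun {x y} hx hy => by
    show ρ (x * y) a = a
    rw [map_mul, Module.End.mul_apply, hy, hx]
  inv_mem' := fun {x} hx => by
    show ρ x⁻¹ a = a
    conv_lhs => rw [← hx]
    rw [← Module.End.mul_apply, ← map_mul, inv_mul_cancel, map_one, Module.End.one_apply]

theorem index_vecStab {H : Type*} [Group H] [Fintype H] (ρ : Representation k H V) (a : V) :
    (vecStab ρ a).index = (vecOrbit ρ a).card := by
  have hkey : ∀ x y : H, ρ x a = ρ y a ↔ x⁻¹ * y ∈ vecStab ρ a := by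
    intro x y
    show _ ↔ ρ (x⁻¹ * y) a = a
    rw [map_mul, Module.End.mul_apply]
    constructor
    · intro h
      rw [← h, ← Module.End.mul_apply, ← map_mul, inv_mul_cancel, map_one, Module.End.one_apply]
    · intro h
      have h2 := congrArg (ρ x) h
      rw [← Module.End.mul_apply, ← map_mul, mul_inv_cancel, map_one, Module.End.one_apply] at h2
      exact h2.symm
  rw [Subgroup.index_eq_card, Nat.card_eq_fintype_card, ← Finset.card_univ]
  refine Finset.card_bij (fun x _ => ρ x.out a) (fun x _ => mem_vecOrbit.mpr ⟨_, rfl⟩) ?_ ?_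
  · intro x _ y _ h
    rw [← QuotientGroup.out_eq' x, ← QuotientGroup.out_eq' y]
    exact QuotientGroup.eq.mpr ((hkey _ _).mp h)
  · intro u hu
    obtain ⟨h, rfl⟩ := mem_vecOrbit.mp hu
    refine ⟨(h : H ⧸ vecStab ρ a), Finset.mem_univ _, (hkey _ _).mpr ?_⟩
    exact QuotientGroup.eq.mp (QuotientGroup.out_eq' _)

/-- An invariant subspace on which a normal subgroup acts trivially, as a representation of the
quotient. -/
noncomputable def quotRepOn {H : Type*} [Group H] (N : Subgroup H) [N.Normal]
    (ρ : Representation k H V) (V' : Submodule k V) (hV' : ∀ h, ∀ v ∈ V', ρ h v ∈ V')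
    (hN : ∀ n ∈ N, ∀ v ∈ V', ρ n v = v) : Representation k (H ⧸ N) V' :=
  QuotientGroup.lift N
    { toFun := fun h => (ρ h).restrict (hV' h)
      map_one' := LinearMap.ext fun v => Subtype.ext (by
        show ρ 1 (v : V) = _
        rw [map_one]; rfl)
      map_mul' := fun x y => LinearMap.ext fun v => Subtype.ext (by
        show ρ (x * y) (v : V) = _
        rw [map_mul]; rfl) }
    (fun n hn => by
      rw [MonoidHom.mem_ker]
      exact LinearMap.ext fun v => Subtype.ext (hN n hn v v.2))

theorem coe_quotRepOn {H : Type*} [Group H] (N : Subgroup H) [N.Normal] (ρ : Representation k H V)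
    (V' : Submodule k V) (hV' : ∀ h, ∀ v ∈ V', ρ h v ∈ V') (hN : ∀ n ∈ N, ∀ v ∈ V', ρ n v = v)
    (h : H) (v : V') : ((quotRepOn N ρ V' hV' hN (h : H ⧸ N) v : V') : V) = ρ h (v : V) := rfl

theorem fixed_mem_span_orbit_sum {p : ℕ} [Fact p.Prime] [CharP k p] {H : Type*} [Group H]
    [Fintype H] (hsol : Cfsg.IsPSolvable p H) (ρ : Representation k H V) (a : V)
    (hcard : ¬ p ∣ (vecOrbit ρ a).card)
    (hspan : Submodule.span k (vecOrbit ρ a : Set V) = ⊤) (v : V) (hv : ∀ h, ρ h v = v) :
    v ∈ Submodule.span k {∑ u ∈ vecOrbit ρ a, u} := by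
  induction hn : Fintype.card H using Nat.strong_induction_on generalizing H V with
  | _ n ih =>
  rcases subsingleton_or_nontrivial H with hs | hs
  · have h1 : vecOrbit ρ a = {a} := by
      ext u
      rw [mem_vecOrbit, Finset.mem_singleton]
      constructor
      · rintro ⟨h, rfl⟩
        rw [Subsingleton.elim h 1, map_one, Module.End.one_apply]
      · rintro rfl
        exact ⟨1, by rw [map_one, Module.End.one_apply]⟩
    rw [h1, Finset.sum_singleton]
    rw [h1, Finset.coe_singleton] at hspan
    rw [hspan]; trivial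
  obtain ⟨N, hNn, hN0, hNpp⟩ : ∃ N : Subgroup H, N.Normal ∧ N ≠ ⊥ ∧
      (IsPGroup p N ∨ (Nat.card N).Coprime p) := by
    rcases H10.pCore_or_pPrimeCore_ne_bot hsol with h | h
    · exact ⟨_, H10.pCore_normal, h, Or.inl H10.pCore_isPGroup⟩
    · exact ⟨_, H10.pPrimeCore_normal, h, Or.inr H10.pPrimeCore_coprime⟩
  haveI := hNn
  haveI : Fintype (H ⧸ N) := Fintype.ofFinite _
  have hlt : Fintype.card (H ⧸ N) < n := by
    rw [← hn, ← Nat.card_eq_fintype_card, ← Nat.card_eq_fintype_card]
    exact H10.card_quotient_lt N hN0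
  -- a projection on the fixed space of `N`
  obtain ⟨e, heρ, hfix, hidem⟩ : ∃ e : V →ₗ[k] V, (∀ h w, e (ρ h w) = ρ h (e w)) ∧
      (∀ m ∈ N, ∀ w, ρ m (e w) = e w) ∧ (∀ w, (∀ m ∈ N, ρ m w = w) → e w = w) := by
    rcases hNpp with hp | hc
    · refine ⟨LinearMap.id, fun _ _ => rfl, fun m hm w => ?_, fun w _ => rfl⟩
      have hle : N ≤ vecStab ρ a := by
        set S := N ⊔ vecStab ρ a with hS
        have h1 := card_prod_mul_card_inf N (vecStab ρ a)
        rw [← Subgroup.normal_mul, ← hS, SetLike.coe_sort_coe] at h1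
        have h2 := S.card_mul_index
        have h3 := (vecStab ρ a).card_mul_index
        rw [← h2, index_vecStab] at h3
        set c := (vecOrbit ρ a).card with hc
        have h4 : c * Nat.card ↥(N ⊓ vecStab ρ a) = S.index * Nat.card N := by
          refine Nat.eq_of_mul_eq_mul_left (Nat.card_pos (α := vecStab ρ a)) ?_
          calc Nat.card (vecStab ρ a) * (c * Nat.card ↥(N ⊓ vecStab ρ a))
              = Nat.card S * S.index * Nat.card ↥(N ⊓ vecStab ρ a) := by rw [← h3]; ring
            _ = (Nat.card S * Nat.card ↥(N ⊓ vecStab ρ a)) * S.index := by ring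
            _ = _ := by rw [h1]; ring
        obtain ⟨j, hj⟩ := IsPGroup.iff_card.mp hp
        have h5 : Nat.card N ∣ Nat.card ↥(N ⊓ vecStab ρ a) := by
          have hcop : (Nat.card N).Coprime c := by
            rw [hj]
            exact (((Fact.out : p.Prime).coprime_iff_not_dvd).mpr hcard).pow_left j
          exact hcop.dvd_of_dvd_mul_left ⟨S.index, by rw [h4, mul_comm]⟩
        exact inf_eq_left.mp (Subgroup.eq_of_le_of_card_ge inf_le_left (Nat.le_of_dvd Nat.card_pos h5))
      show ρ m w = w
      have hw : w ∈ Submodule.span k (vecOrbit ρ a : Set V) := hspan ▸ Submodule.mem_top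
      induction hw using Submodule.span_induction with
      | mem u hu =>
        obtain ⟨h, rfl⟩ := mem_vecOrbit.mp hu
        have hm' : ρ (h⁻¹ * m * h) a = a :=
          hle (by simpa using hNn.conj_mem m hm h⁻¹)
        rw [← Module.End.mul_apply, ← map_mul,
          show m * h = h * (h⁻¹ * m * h) by group, map_mul, Module.End.mul_apply, hm']
      | zero => exact map_zero _
      | add x y _ _ hx hy => rw [map_add, hx, hy]
      | smul r x _ hx => rw [map_smul, hx]
    · haveI : Fintype N := Fintype.ofFinite _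
      have hNk : (Fintype.card N : k) ≠ 0 := by
        rw [Ne, CharP.cast_eq_zero_iff k p, ← Nat.card_eq_fintype_card]
        exact ((Fact.out : p.Prime).coprime_iff_not_dvd).mp hc.symm
      refine ⟨(Fintype.card N : k)⁻¹ • ∑ m : N, ρ (m : H), fun h w => ?_, fun m hm w => ?_,
        fun w hw => ?_⟩
      · simp only [LinearMap.smul_apply, LinearMap.sum_apply, map_smul, map_sum]
        congr 1
        let σ : N ≃ N :=
          { toFun := fun m => ⟨h⁻¹ * m * h, by simpa using hNn.conj_mem m m.2 h⁻¹⟩
            invFun := fun m => ⟨h * m * h⁻¹, hNn.conj_mem m m.2 h⟩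
            left_inv := fun m => Subtype.ext (by group)
            right_inv := fun m => Subtype.ext (by group) }
        refine (Finset.sum_congr rfl fun m _ => ?_).trans (Equiv.sum_comp σ fun m => ρ h (ρ (m : H) w))
        show _ = ρ h (ρ (h⁻¹ * m * h) w)
        rw [← Module.End.mul_apply, ← Module.End.mul_apply, ← map_mul, ← map_mul]
        congr 2
        group
      · simp only [LinearMap.smul_apply, LinearMap.sum_apply, map_smul, map_sum]
        congr 1
        refine (Finset.sum_congr rfl fun x _ => ?_).trans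
          (Equiv.sum_comp (Equiv.mulLeft (⟨m, hm⟩ : N)) fun x => ρ (x : H) w)
        rw [Equiv.coe_mulLeft, Subgroup.coe_mul, map_mul]
        rfl
      · simp only [LinearMap.smul_apply, LinearMap.sum_apply]
        rw [Finset.sum_congr rfl (fun (m : N) _ => hw m m.2), Finset.sum_const, Finset.card_univ,
          ← Nat.cast_smul_eq_nsmul k, smul_smul, inv_mul_cancel₀ hNk, one_smul]
  set V' : Submodule k V := LinearMap.range e
  have hV' : ∀ h, ∀ w ∈ V', ρ h w ∈ V' := by
    rintro h _ ⟨w, rfl⟩
    exact ⟨ρ h w, heρ h w⟩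
  have hN' : ∀ m ∈ N, ∀ w ∈ V', ρ m w = w := by
    rintro m hm _ ⟨w, rfl⟩
    exact hfix m hm w
  set ρ' := quotRepOn N ρ V' hV' hN'
  set a' : V' := ⟨e a, a, rfl⟩
  let π : V → V' := fun w => ⟨e w, w, rfl⟩
  have hπ : ∀ h, π (ρ h a) = ρ' (h : H ⧸ N) a' := fun h => Subtype.ext (heρ h a)
  have himg : vecOrbit ρ' a' = (vecOrbit ρ a).image π := by
    ext u
    rw [mem_vecOrbit, Finset.mem_image]
    constructor
    · rintro ⟨h, rfl⟩
      obtain ⟨h, rfl⟩ := QuotientGroup.mk_surjective h
      exact ⟨_, mem_vecOrbit.mpr ⟨h, rfl⟩, hπ h⟩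
    · rintro ⟨w, hw, rfl⟩
      obtain ⟨h, rfl⟩ := mem_vecOrbit.mp hw
      exact ⟨_, (hπ h).symm⟩
  set f := ((vecOrbit ρ a).filter fun w => π w = a').card with hf
  have hfib : ∀ u ∈ vecOrbit ρ' a', ((vecOrbit ρ a).filter fun w => π w = u).card = f := by
    intro u hu
    obtain ⟨h, rfl⟩ := mem_vecOrbit.mp hu
    obtain ⟨h, rfl⟩ := QuotientGroup.mk_surjective h
    symm
    refine Finset.card_bij' (fun w _ => ρ h w) (fun w _ => ρ h⁻¹ w) ?_ ?_ ?_ ?_
    · intro w hw
      rw [Finset.mem_filter] at hw ⊢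
      obtain ⟨g, hg⟩ := mem_vecOrbit.mp hw.1
      refine ⟨mem_vecOrbit.mpr ⟨h * g, by rw [map_mul, Module.End.mul_apply, hg]⟩, Subtype.ext ?_⟩
      have h2 : e w = e a := congrArg Subtype.val hw.2
      show e (ρ h w) = ρ h (e a)
      rw [heρ, h2]
    · intro w hw
      rw [Finset.mem_filter] at hw ⊢
      obtain ⟨g, hg⟩ := mem_vecOrbit.mp hw.1
      refine ⟨mem_vecOrbit.mpr ⟨h⁻¹ * g, by rw [map_mul, Module.End.mul_apply, hg]⟩, Subtype.ext ?_⟩
      have h2 : e w = ρ h (e a) := congrArg Subtype.val hw.2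
      show e (ρ h⁻¹ w) = e a
      rw [heρ, h2, ← Module.End.mul_apply, ← map_mul, inv_mul_cancel, map_one, Module.End.one_apply]
    · intro w _
      rw [← Module.End.mul_apply, ← map_mul, inv_mul_cancel, map_one, Module.End.one_apply]
    · intro w _
      rw [← Module.End.mul_apply, ← map_mul, mul_inv_cancel, map_one, Module.End.one_apply]
  have hfc : f * (vecOrbit ρ' a').card = (vecOrbit ρ a).card := by
    rw [Finset.card_eq_sum_card_fiberwise (f := π) (t := vecOrbit ρ' a')
      (fun w hw => by rw [himg]; exact Finset.mem_image_of_mem _ hw), Finset.sum_congr rfl hfib,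
      Finset.sum_const, smul_eq_mul, mul_comm]
  have hcard' : ¬ p ∣ (vecOrbit ρ' a').card := fun hd => hcard (hfc ▸ dvd_mul_of_dvd_right hd f)
  have hfk : (f : k) ≠ 0 := by
    rw [Ne, CharP.cast_eq_zero_iff k p]
    exact fun hd => hcard (hfc ▸ dvd_mul_of_dvd_left hd _)
  have hspan' : Submodule.span k (vecOrbit ρ' a' : Set V') = ⊤ := by
    rw [eq_top_iff]
    rintro ⟨_, w, rfl⟩ -
    have hw : w ∈ Submodule.span k (vecOrbit ρ a : Set V) := hspan ▸ Submodule.mem_top
    show π w ∈ _
    induction hw using Submodule.span_induction with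
    | mem u hu => exact Submodule.subset_span (by rw [himg]; exact Finset.mem_image_of_mem _ hu)
    | zero =>
      rw [show π 0 = 0 from Subtype.ext (map_zero e)]
      exact zero_mem _
    | add x y _ _ hx hy =>
      rw [show π (x + y) = π x + π y from Subtype.ext (map_add e x y)]
      exact add_mem hx hy
    | smul r x _ hx =>
      rw [show π (r • x) = r • π x from Subtype.ext (map_smul e r x)]
      exact Submodule.smul_mem _ r hx
  have hv' : ∀ h, ρ' h ⟨e v, v, rfl⟩ = ⟨e v, v, rfl⟩ := by
    intro h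
    obtain ⟨h, rfl⟩ := QuotientGroup.mk_surjective h
    apply Subtype.ext
    show ρ h (e v) = e v
    rw [← heρ, hv]
  have h1 := ih _ hlt (H10.isPSolvable_quotient hsol N) ρ' a' hcard' hspan' _ hv' rfl
  rw [Submodule.mem_span_singleton] at h1 ⊢
  obtain ⟨r, hr⟩ := h1
  refine ⟨r * (f : k)⁻¹, ?_⟩
  have hsum : (f : k) • ((∑ u ∈ vecOrbit ρ' a', u : V') : V) = ∑ u ∈ vecOrbit ρ a, u := by
    have hσ : e (∑ u ∈ vecOrbit ρ a, u) = ∑ u ∈ vecOrbit ρ a, u := by
      refine hidem _ fun m _ => ?_
      rw [map_sum]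
      refine Finset.sum_bij' (fun w _ => ρ m w) (fun w _ => ρ m⁻¹ w) ?_ ?_ ?_ ?_ (fun w _ => rfl)
      · intro w hw
        obtain ⟨g, rfl⟩ := mem_vecOrbit.mp hw
        exact mem_vecOrbit.mpr ⟨m * g, by rw [map_mul, Module.End.mul_apply]⟩
      · intro w hw
        obtain ⟨g, rfl⟩ := mem_vecOrbit.mp hw
        exact mem_vecOrbit.mpr ⟨m⁻¹ * g, by rw [map_mul, Module.End.mul_apply]⟩
      · intro w _
        rw [← Module.End.mul_apply, ← map_mul, inv_mul_cancel, map_one, Module.End.one_apply]
      · intro w _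
        rw [← Module.End.mul_apply, ← map_mul, mul_inv_cancel, map_one, Module.End.one_apply]
    rw [← hσ, map_sum, ← Finset.sum_fiberwise_of_maps_to (g := π) (t := vecOrbit ρ' a')
      (fun w hw => by rw [himg]; exact Finset.mem_image_of_mem _ hw), AddSubmonoidClass.coe_finsetSum,
      Finset.smul_sum]
    refine Finset.sum_congr rfl fun u hu => ?_
    rw [Finset.sum_congr rfl (fun w hw => show e w = (u : V) from
      congrArg Subtype.val (Finset.mem_filter.mp hw).2), Finset.sum_const, hfib u hu,
      Nat.cast_smul_eq_nsmul]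
  rw [← hsum, smul_smul, inv_mul_cancel_right₀ hfk]
  have hev : e v = v := hidem v (fun m _ => hv m)
  have hr' := congrArg Subtype.val hr
  simp only [SetLike.val_smul] at hr'
  rw [hr', hev]

end Cfsg.Agent.H29
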