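import Mathlib
import Cfsg.Agent.H1.ThompsonComplement
import Cfsg.Agent.H1.FPF

set_option autoImplicit false

/-!
Kegel: a finite group with a splitting automorphism of prime order is nilpotent.
-/

namespace Cfsg.Agent.H29

/-- Averaging: the key trick for splitting automorphisms. -/
theorem fixed_of_twisted_prod {Γ M : Type*} [Group Γ] [Fintype Γ] [CommGroup M] [Finite M]
    (ψ : Γ →* MulAut M) (n : ℕ) (hn : 0 < n) (A : ℕ → M → M) (f : ℕ → Γ → Γ)
    (hA0 : ∀ m, A 0 m = m) (hf0 : ∀ γ, f 0 γ = 1)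
    (hf : ∀ i ∈ (Finset.range n).erase 0, Function.Bijective (f i))
    (hA : ∀ m, ∏ i ∈ Finset.range n, A i m = 1)
    (htw : ∀ γ m, ∏ i ∈ Finset.range n, ψ (f i γ) (A i m) = 1)
    (hcop : (Nat.card Γ).Coprime (Nat.card M)) : ∀ γ m, ψ γ m = m := by
  classical
  intro γ m
  let F : M → M := fun x => ∏ g, ψ g x
  have hFγ : ψ γ (F m) = F m := by
    simp only [F, map_prod]
    refine (Finset.prod_congr rfl fun g _ => ?_).trans
      (Equiv.prod_comp (Equiv.mulLeft γ) (fun g => ψ g m))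
    rw [Equiv.coe_mulLeft, map_mul]; rfl
  have hF : F m = m ^ Nat.card Γ := by
    have h1 : ∏ i ∈ Finset.range n, ∏ g : Γ, ψ (f i g) (A i m) = 1 := by
      rw [Finset.prod_comm]
      exact Finset.prod_eq_one fun g _ => htw g m
    rw [← Finset.mul_prod_erase _ _ (Finset.mem_range.mpr hn)] at h1
    have h2 : ∀ i ∈ (Finset.range n).erase 0,
        ∏ g : Γ, ψ (f i g) (A i m) = F (A i m) := fun i hi =>
      Equiv.prod_comp (Equiv.ofBijective _ (hf i hi)) (fun g => ψ g (A i m))
    have h4 : ∏ i ∈ (Finset.range n).erase 0, A i m = m⁻¹ := by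
      have h5 := hA m
      rw [← Finset.mul_prod_erase _ _ (Finset.mem_range.mpr hn), hA0] at h5
      exact (inv_eq_of_mul_eq_one_right h5).symm
    rw [Finset.prod_congr rfl h2] at h1
    simp only [F, hf0, map_one, MulAut.one_apply, hA0, Finset.prod_const, Finset.card_univ] at h1
    rw [Finset.prod_comm] at h1
    simp only [← map_prod, h4, map_inv, Finset.prod_inv_distrib] at h1
    rw [Nat.card_eq_fintype_card]
    exact (mul_inv_eq_one.mp h1).symm
  rw [hF, map_pow] at hFγ
  exact (powCoprime hcop.symm).injective hFγ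

variable {G : Type*} [Group G]

/-- `φ` is splitting of exponent `n`: `x * φ x * ... * φ^(n-1) x = 1`. -/
def IsSplitting (φ : MulAut G) (n : ℕ) : Prop :=
  ∀ x : G, ((List.range n).map fun i => (φ ^ i) x).prod = 1

theorem IsSplitting.pow_eq_one {φ : MulAut G} {n : ℕ} (h : IsSplitting φ n) {x : G}
    (hx : φ x = x) : x ^ n = 1 := by
  have h1 : ∀ i : ℕ, (φ ^ i) x = x := by
    intro i
    induction i with
    | zero => simp
    | succ i ih => rw [pow_succ, MulAut.mul_apply, hx, ih]
  have h2 := h x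
  simp only [h1] at h2
  simpa using h2

theorem list_prod_fixed_twist (φ : MulAut G) (n : ℕ) (m γ : G) (hγ : φ γ = γ) :
    ((List.range n).map fun i => (φ ^ i) (m * γ)).prod =
      ((List.range n).map fun i => γ ^ i * (φ ^ i) m * (γ ^ i)⁻¹).prod * γ ^ n := by
  have h1 : ∀ i : ℕ, (φ ^ i) γ = γ := by
    intro i
    induction i with
    | zero => simp
    | succ i ih => rw [pow_succ, MulAut.mul_apply, hγ, ih]
  induction n with
  | zero => simp
  | succ n ih =>
    rw [List.range_succ, List.map_append, List.prod_append, ih, List.map_append, List.prod_append]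
    simp only [List.map_singleton, List.prod_singleton, map_mul, h1, pow_succ]
    group

theorem coe_prod_range {M : Subgroup G} (hM : IsMulCommutative M) (w : ℕ → M) (n : ℕ) :
    letI : CommGroup M := { (inferInstance : Group M) with mul_comm := hM.is_comm.comm }
    ((∏ i ∈ Finset.range n, w i : M) : G) = ((List.range n).map fun i => (w i : G)).prod := by
  letI : CommGroup M := { (inferInstance : Group M) with mul_comm := hM.is_comm.comm }
  induction n with
  | zero => simp
  | succ n ih => simp [Finset.prod_range_succ, List.range_succ, ih]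

theorem coe_restrictAut_pow [Finite G] (φ : MulAut G) (H : Subgroup G) (hH : ∀ x ∈ H, φ x ∈ H)
    (k : ℕ) (x : H) : (((H1.restrictAut φ H hH) ^ k) x : G) = (φ ^ k) (x : G) := by
  induction k generalizing x with
  | zero => simp
  | succ k ihk => rw [pow_succ, pow_succ, MulAut.mul_apply, MulAut.mul_apply, ihk]; rfl

theorem IsSplitting.restrict [Finite G] {φ : MulAut G} {n : ℕ} (h : IsSplitting φ n)
    (H : Subgroup G) (hH : ∀ x ∈ H, φ x ∈ H) : IsSplitting (H1.restrictAut φ H hH) n := by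
  intro x
  apply Subtype.ext
  rw [← Subgroup.coe_subtype, map_list_prod, List.map_map, map_one]
  refine Eq.trans (congrArg List.prod (List.map_congr_left fun i _ => ?_)) (h (x : G))
  exact coe_restrictAut_pow φ H hH i x

theorem congr_pow_mk (φ : MulAut G) (N : Subgroup G) [N.Normal]
    (hN : N.map φ.toMonoidHom = N) (k : ℕ) (x : G) :
    ((QuotientGroup.congr N N φ hN : MulAut (G ⧸ N)) ^ k) (x : G ⧸ N) = (((φ ^ k) x : G) : G ⧸ N) := by
  induction k generalizing x with
  | zero => simp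
  | succ k ihk =>
    rw [pow_succ, pow_succ, MulAut.mul_apply, MulAut.mul_apply]
    exact ihk (φ x)

theorem IsSplitting.quotient {φ : MulAut G} {n : ℕ} (h : IsSplitting φ n)
    (N : Subgroup G) [N.Normal] (hN : N.map φ.toMonoidHom = N) :
    IsSplitting (QuotientGroup.congr N N φ hN : MulAut (G ⧸ N)) n := by
  intro x
  obtain ⟨x, rfl⟩ := QuotientGroup.mk_surjective x
  simp only [congr_pow_mk]
  have := congrArg (QuotientGroup.mk' N) (h x)
  rw [map_list_prod, List.map_map, map_one] at this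
  exact this

theorem exists_invariant_sylow_of_pow_prime_eq_one [Finite G] (φ : MulAut G) {p : ℕ}
    [Fact p.Prime] (hφ : φ ^ p = 1) :
    ∃ P : Sylow p G, ∀ x ∈ (P : Subgroup G), φ x ∈ (P : Subgroup G) := by
  have hΓ : IsPGroup p (Subgroup.zpowers φ) := by
    intro g
    refine ⟨1, ?_⟩
    obtain ⟨k, hk⟩ := Subgroup.mem_zpowers_iff.mp g.2
    apply Subtype.ext
    rw [pow_one, Subgroup.coe_pow, ← hk, ← zpow_natCast, ← zpow_mul, mul_comm, zpow_mul,
      zpow_natCast, hφ, one_zpow]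
    rfl
  have hnd : ¬ p ∣ Nat.card (Sylow p G) := not_dvd_card_sylow p G
  obtain ⟨P, hP⟩ := hΓ.nonempty_fixed_point_of_prime_not_dvd_card (Sylow p G) hnd
  refine ⟨P, fun x hx => ?_⟩
  have h1 : ((⟨φ, Subgroup.mem_zpowers φ⟩ : Subgroup.zpowers φ) • P : Sylow p G) = P := hP _
  rw [← h1]
  exact Subgroup.mem_map.mpr ⟨x, hx, rfl⟩

theorem exists_fixed_ne_one [Finite G] (φ : MulAut G) {p : ℕ} [Fact p.Prime] (hφ : φ ^ p = 1)
    (S : Subgroup G) (hS : ∀ x ∈ S, φ x ∈ S) (hSp : IsPGroup p S) (hS0 : S ≠ ⊥) :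
    ∃ z ∈ S, z ≠ 1 ∧ φ z = z := by
  classical
  let χ : Function.End S := fun x => ⟨φ x, hS x x.2⟩
  haveI : Nontrivial S := (Subgroup.nontrivial_iff_ne_bot S).mpr hS0
  have hd : p ∣ Nat.card S := hSp.card_eq_or_dvd.resolve_left Finite.one_lt_card.ne'
  have hΓ : IsPGroup p (Subgroup.zpowers (H1.restrictAut φ S hS)) := by
    intro g
    refine ⟨1, ?_⟩
    obtain ⟨k, hk⟩ := Subgroup.mem_zpowers_iff.mp g.2
    apply Subtype.ext
    have h1 : (H1.restrictAut φ S hS) ^ p = 1 := by
      refine MulEquiv.ext fun x => Subtype.ext ?_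
      rw [coe_restrictAut_pow, hφ]; rfl
    rw [pow_one, Subgroup.coe_pow, ← hk, ← zpow_natCast, ← zpow_mul, mul_comm, zpow_mul,
      zpow_natCast, h1, one_zpow]
    rfl
  have h1 : (1 : S) ∈ MulAction.fixedPoints (Subgroup.zpowers (H1.restrictAut φ S hS)) S := fun g =>
    map_one (g : MulAut S)
  obtain ⟨z, hz, hz1⟩ := hΓ.exists_fixed_point_of_prime_dvd_card_of_fixed_point S hd h1
  refine ⟨z, z.2, fun h => hz1 (Subtype.ext h).symm, ?_⟩
  exact congrArg Subtype.val (hz ⟨_, Subgroup.mem_zpowers _⟩)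

/-- Conjugation on a normal subgroup. -/
theorem coe_conjNormal {M : Subgroup G} [M.Normal] (g : G) (m : M) :
    ((MulAut.conjNormal g m : M) : G) = g * m * g⁻¹ := MulAut.conjNormal_apply g m

/-- The centre is nontrivial when a Sylow subgroup is normal. -/
theorem center_ne_bot_of_normal_sylow [Finite G] {φ : MulAut G} {p : ℕ} [Fact p.Prime]
    (hφ : φ ^ p = 1) (hs : IsSplitting φ p) (P : Sylow p G) (hPn : (P : Subgroup G).Normal)
    (hP0 : (P : Subgroup G) ≠ ⊥) : Subgroup.center G ≠ ⊥ := by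
  classical
  have hp : p.Prime := Fact.out
  haveI := hPn
  have hchar : (P : Subgroup G).Characteristic := Sylow.characteristic_of_normal P hPn
  have hPφ : ∀ x ∈ (P : Subgroup G), φ x ∈ (P : Subgroup G) := fun x hx =>
    H1.invariant_of_characteristic φ hx
  let M := (P : Subgroup G) ⊓ Subgroup.centralizer ((P : Subgroup G) : Set G)
  haveI : M.Normal := Subgroup.normal_inf_normal _ _
  have hMc : IsMulCommutative M := ⟨⟨fun a b => Subtype.ext
    (Subgroup.mem_centralizer_iff.mp b.2.2 a a.2.1)⟩⟩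
  have hMφ : ∀ x ∈ M, φ x ∈ M := fun x hx =>
    ⟨hPφ x hx.1, H1.centralizer_invariant φ hPφ x hx.2⟩
  letI : CommGroup M := { (inferInstance : Group M) with mul_comm := hMc.is_comm.comm }
  haveI : Fintype (G ⧸ (P : Subgroup G)) := Fintype.ofFinite _
  have hker : (P : Subgroup G) ≤ (MulAut.conjNormal : G →* MulAut M).ker := by
    intro x hx
    rw [MonoidHom.mem_ker]
    refine MulEquiv.ext fun m => Subtype.ext ?_
    rw [coe_conjNormal, Subgroup.mem_centralizer_iff.mp m.2.2 x hx]
    simp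
  let ψ := QuotientGroup.lift (P : Subgroup G) (MulAut.conjNormal : G →* MulAut M) hker
  have hψ : ∀ (g : G) (m : M), ((ψ (g : G ⧸ (P : Subgroup G)) m : M) : G) = g * m * g⁻¹ :=
    fun g m => coe_conjNormal g m
  let A : ℕ → M → M := fun i m => ((H1.restrictAut φ M hMφ) ^ i) m
  have hAc : ∀ i m, ((A i m : M) : G) = (φ ^ i) (m : G) := fun i m => coe_restrictAut_pow φ M hMφ i m
  have hA : ∀ m, ∏ i ∈ Finset.range p, A i m = 1 := by
    intro m
    apply Subtype.ext
    rw [coe_prod_range hMc]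
    simp only [hAc]
    exact hs _
  let χ : MulAut (G ⧸ (P : Subgroup G)) :=
    QuotientGroup.congr _ _ φ (H1.map_eq_of_invariant φ hPφ)
  have hχ : χ ^ p = 1 := by
    refine MulEquiv.ext fun x => ?_
    obtain ⟨x, rfl⟩ := QuotientGroup.mk_surjective x
    rw [congr_pow_mk, hφ]; rfl
  have hcopQ : (Nat.card (G ⧸ (P : Subgroup G))).Coprime p :=
    ((hp.coprime_iff_not_dvd).mpr (P.not_dvd_index)).symm
  have hfpf : ∀ x, χ x = x → x = 1 := by
    intro x hx
    have h1 := (hs.quotient _ (H1.map_eq_of_invariant φ hPφ)).pow_eq_one hx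
    exact orderOf_eq_one_iff.mp
      (Nat.eq_one_of_dvd_coprimes hcopQ (orderOf_dvd_natCard x) (orderOf_dvd_of_pow_eq_one h1))
  let f : ℕ → G ⧸ (P : Subgroup G) → G ⧸ (P : Subgroup G) := fun i h => h * ((χ ^ i) h)⁻¹
  have hf : ∀ i ∈ (Finset.range p).erase 0, Function.Bijective (f i) := by
    intro i hi
    rw [Finset.mem_erase, Finset.mem_range] at hi
    refine Finite.injective_iff_bijective.mp fun a b hab => ?_
    have h1 : (χ ^ i) (b⁻¹ * a) = b⁻¹ * a := by
      have hab' : a * ((χ ^ i) a)⁻¹ = b * ((χ ^ i) b)⁻¹ := hab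
      rw [map_mul, map_inv]
      calc ((χ ^ i) b)⁻¹ * (χ ^ i) a = b⁻¹ * (b * ((χ ^ i) b)⁻¹) * (χ ^ i) a := by group
        _ = b⁻¹ * a := by rw [← hab']; group
    exact (inv_mul_eq_one.mp (H1.fpf_pow hp hχ hfpf
      (fun hd => absurd (Nat.le_of_dvd (Nat.pos_of_ne_zero hi.1) hd) (not_le.mpr hi.2)) _ h1)).symm
  have hMp : (Nat.card (G ⧸ (P : Subgroup G))).Coprime (Nat.card M) := by
    obtain ⟨k, hk⟩ := IsPGroup.iff_card.mp P.2
    obtain ⟨j, -, hj⟩ := (Nat.dvd_prime_pow hp).mp
      (hk ▸ Subgroup.card_dvd_of_le (inf_le_left : M ≤ (P : Subgroup G)))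
    rw [hj]
    exact hcopQ.pow_right j
  have htw : ∀ γ m, ∏ i ∈ Finset.range p, ψ (f i γ) (A i m) = 1 := by
    intro γ m
    obtain ⟨g, rfl⟩ := QuotientGroup.mk_surjective γ
    have hterm : ∀ i, ψ (f i (g : G ⧸ (P : Subgroup G))) (A i m) =
        ψ (g : G ⧸ (P : Subgroup G)) (A i (ψ ((g⁻¹ : G) : G ⧸ (P : Subgroup G)) m)) := by
      intro i
      have : f i (g : G ⧸ (P : Subgroup G)) = ((g * ((φ ^ i) g)⁻¹ : G) : G ⧸ (P : Subgroup G)) := by
        show (g : G ⧸ (P : Subgroup G)) * ((χ ^ i) (g : G ⧸ (P : Subgroup G)))⁻¹ = _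
        rw [congr_pow_mk]; rfl
      rw [this]
      apply Subtype.ext
      rw [hψ, hψ, hAc, hAc, hψ]
      simp only [map_mul, map_inv, inv_inv, mul_inv_rev, mul_assoc]
    rw [Finset.prod_congr rfl (fun i _ => hterm i), ← map_prod, hA, map_one]
  have hfix := fixed_of_twisted_prod ψ p hp.pos A f (fun m => by simp [A])
    (fun γ => by simp [f]) hf hA htw hMp
  haveI : Nontrivial (P : Subgroup G) := (Subgroup.nontrivial_iff_ne_bot _).mpr hP0
  obtain ⟨z, hz, hz1⟩ := SetLike.exists_of_lt P.2.bot_lt_center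
  intro hbot
  apply hz1
  have hzM : (z : G) ∈ M := ⟨z.2, Subgroup.mem_centralizer_iff.mpr
    fun y hy => congrArg Subtype.val (Subgroup.mem_center_iff.mp hz ⟨y, hy⟩)⟩
  have hzc : (z : G) ∈ Subgroup.center G := by
    rw [Subgroup.mem_center_iff]
    intro g
    have h1 : g * (z : G) * g⁻¹ = z := by
      rw [← hψ g ⟨z, hzM⟩, hfix]
    calc g * (z : G) = g * (z : G) * g⁻¹ * g := by group
      _ = z * g := by rw [h1]
  rw [hbot, Subgroup.mem_bot] at hzc
  exact Subgroup.mem_bot.mpr (Subtype.ext hzc)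

/-- Kegel's theorem. -/
theorem isNilpotent_of_splitting : ∀ {G : Type*} [Group G] [Finite G] (φ : MulAut G) {p : ℕ},
    p.Prime → φ ^ p = 1 → IsSplitting φ p → Group.IsNilpotent G := by
  intro G _ _ φ p hp hφ hs
  induction hn : Nat.card G using Nat.strong_induction_on generalizing G with
  | _ n ih =>
  haveI : Fact p.Prime := ⟨hp⟩
  rcases subsingleton_or_nontrivial G with hsub | hnt
  · infer_instance
  have hquot : ∀ N : Subgroup G, ∀ _ : N.Normal, N ≠ ⊥ → (∀ x ∈ N, φ x ∈ N) →
      Group.IsNilpotent (G ⧸ N) := by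
    intro N _ hN0 hNφ
    have hlt : Nat.card (G ⧸ N) < n := by
      rw [← hn, Subgroup.card_eq_card_quotient_mul_card_subgroup N]
      exact lt_mul_of_one_lt_right Nat.card_pos ((Subgroup.one_lt_card_iff_ne_bot N).mpr hN0)
    refine ih _ hlt (QuotientGroup.congr N N φ (H1.map_eq_of_invariant φ hNφ)) ?_
      (hs.quotient N _) rfl
    refine MulEquiv.ext fun x => ?_
    obtain ⟨x, rfl⟩ := QuotientGroup.mk_surjective x
    rw [congr_pow_mk, hφ]; rfl
  have hcenter : Subgroup.center G ≠ ⊥ → Group.IsNilpotent G := fun h =>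
    Group.of_quotient_center_nilpotent (hquot _ inferInstance h
      (fun x hx => H1.invariant_of_characteristic φ hx))
  rcases eq_or_ne p 2 with rfl | hp2
  · have hinv : ∀ x, φ x = x⁻¹ := by
      intro x
      have h1 := hs x
      simp [List.range_succ] at h1
      exact (inv_eq_of_mul_eq_one_right h1).symm
    refine hcenter fun h => ?_
    obtain ⟨x, hx⟩ := exists_ne (1 : G)
    apply hx
    rw [← Subgroup.mem_bot, ← h, Subgroup.mem_center_iff]
    intro y
    have h1 := hinv (x * y)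
    rw [map_mul, hinv, hinv, mul_inv_rev] at h1
    have h2 := congrArg (·⁻¹) h1
    simpa [mul_inv_rev] using h2
  obtain ⟨P, hPφ⟩ := exists_invariant_sylow_of_pow_prime_eq_one φ hφ
  by_cases hP0 : (P : Subgroup G) = ⊥
  · have hnd : ¬ p ∣ Nat.card G := fun hd => P.ne_bot_of_dvd_card hd hP0
    refine H1.nilpotent_of_fpf (fun G _ _ q _ hq P hN hC =>
      H1.thompson_normal_p_complement hq P hN hC) φ hp hφ (fun x hx => ?_)
    have h1 := hs.pow_eq_one hx
    exact orderOf_eq_one_iff.mp (Nat.eq_one_of_dvd_coprimes ((hp.coprime_iff_not_dvd).mpr hnd)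
      (orderOf_dvd_of_pow_eq_one h1) (orderOf_dvd_natCard x))
  have hPnormal : (P : Subgroup G).Normal → Group.IsNilpotent G := fun h =>
    hcenter (center_ne_bot_of_normal_sylow hφ hs P h hP0)
  set J := Cfsg.thompsonSubgroupOf p (P : Subgroup G)
  have hJφ := H1.thompsonSubgroupOf_invariant φ p hPφ
  have hJP : J ≤ (P : Subgroup G) := Subgroup.map_subtype_le _
  by_cases hJN : Subgroup.normalizer (J : Set G) = ⊤
  · haveI : J.Normal := Subgroup.normalizer_eq_top_iff.mp hJN
    have hQ : Group.IsNilpotent (G ⧸ J) :=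
      hquot J inferInstance (H1.thompsonSubgroupOf_ne_bot P.2 hP0) hJφ
    have h1 : ((P.mapSurjective (QuotientGroup.mk'_surjective J) : Sylow p (G ⧸ J)) :
        Subgroup (G ⧸ J)).Normal :=
      ((Group.isNilpotent_of_finite_tfae (G := G ⧸ J)).out 0 3 rfl rfl).mp hQ p ⟨hp⟩ _
    rw [Sylow.coe_mapSurjective] at h1
    have h2 := h1.comap (QuotientGroup.mk' J)
    rw [Subgroup.comap_map_eq, QuotientGroup.ker_mk', sup_eq_left.mpr hJP] at h2
    exact hPnormal h2
  set Z := (P : Subgroup G) ⊓ Subgroup.centralizer ((P : Subgroup G) : Set G) with hZ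
  have hZφ : ∀ x ∈ Z, φ x ∈ Z := fun x hx =>
    ⟨hPφ x hx.1, H1.centralizer_invariant φ hPφ x hx.2⟩
  have hZ0 : Z ≠ ⊥ := by
    haveI : Nontrivial (P : Subgroup G) := (Subgroup.nontrivial_iff_ne_bot _).mpr hP0
    obtain ⟨z, hz, hz1⟩ := SetLike.exists_of_lt P.2.bot_lt_center
    intro h
    apply hz1
    have : (z : G) ∈ Z := ⟨z.2, Subgroup.mem_centralizer_iff.mpr
      fun y hy => congrArg Subtype.val (Subgroup.mem_center_iff.mp hz ⟨y, hy⟩)⟩
    rw [h, Subgroup.mem_bot] at this
    exact Subgroup.mem_bot.mpr (Subtype.ext this)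
  by_cases hZC : Subgroup.centralizer (Z : Set G) = ⊤
  · refine hcenter fun h => hZ0 (le_bot_iff.mp ?_)
    exact h ▸ Subgroup.centralizer_eq_top_iff_subset.mp hZC
  have hsubnil : ∀ H : Subgroup G, (∀ x ∈ H, φ x ∈ H) → H ≠ ⊤ → Group.IsNilpotent H := by
    intro H hH hne
    have hlt : Nat.card H < n := hn ▸ lt_of_le_of_ne (Subgroup.card_le_card_group H)
      (fun h => hne (Subgroup.eq_top_of_card_eq H h))
    refine ih _ hlt (H1.restrictAut φ H hH) ?_ (hs.restrict H hH) rfl
    refine MulEquiv.ext fun x => Subtype.ext ?_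
    rw [coe_restrictAut_pow, hφ]; rfl
  have hnpc := H1.thompson_normal_p_complement hp2 P
    (H1.hasNormalPComplement_of_nilpotent p (hsubnil _ (H1.normalizer_invariant φ hJφ) hJN))
    (H1.hasNormalPComplement_of_nilpotent p (hsubnil _ (H1.centralizer_invariant φ hZφ) hZC))
  -- the normal complement
  set K := Cfsg.pResidual p G with hK
  haveI hKnormal : K.Normal := inferInstance
  have hKcop : ¬ p ∣ Nat.card K := H5.hasNormalPComplement_iff_not_dvd.mp hnpc
  have hKφ : ∀ x ∈ K, φ x ∈ K := fun x hx =>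
    H5.pResidual_map_le φ.toMonoidHom ⟨x, hx, rfl⟩
  by_cases hK0 : K = ⊥
  · obtain ⟨k, hk⟩ := H5.exists_index_pResidual_eq (G := G) (p := p)
    rw [← hK, hK0, Subgroup.index_bot] at hk
    exact (IsPGroup.of_card hk).isNilpotent
  haveI hKnil : Group.IsNilpotent K := by
    refine hsubnil K hKφ fun h => hKcop ?_
    rw [h, Subgroup.card_top]
    exact Dvd.dvd.trans ((P.2.card_eq_or_dvd).resolve_left
      (fun h1 => hP0 (Subgroup.card_eq_one.mp h1))) (Subgroup.card_subgroup_dvd_card _)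
  -- `M = Z(K)`
  haveI : Nontrivial K := (Subgroup.nontrivial_iff_ne_bot K).mpr hK0
  set M := (Subgroup.center K).map K.subtype with hM
  haveI : M.Normal := inferInstance
  have hM0 : M ≠ ⊥ := by
    rw [hM, Ne, Subgroup.map_eq_bot_iff_of_injective _ K.subtype_injective]
    exact Group.IsNilpotent.center_ne_bot _
  have hMK : M ≤ K := Subgroup.map_subtype_le _
  have hMφ : ∀ x ∈ M, φ x ∈ M := by
    rintro _ ⟨y, hy, rfl⟩
    exact ⟨H1.restrictAut φ K hKφ y, H1.invariant_of_characteristic _ hy, rfl⟩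
  have hMc : IsMulCommutative M := by
    rw [← Subgroup.le_centralizer_iff_isMulCommutative]
    rintro _ ⟨a, ha, rfl⟩
    rw [Subgroup.mem_centralizer_iff]
    rintro _ ⟨b, -, rfl⟩
    exact congrArg Subtype.val (Subgroup.mem_center_iff.mp ha b)
  obtain ⟨z, hzZ, hz1, hzφ⟩ := exists_fixed_ne_one φ hφ Z hZφ (P.2.to_le inf_le_left) hZ0
  have hzp : z ^ p = 1 := hs.pow_eq_one hzφ
  letI : CommGroup M := { (inferInstance : Group M) with mul_comm := hMc.is_comm.comm }
  haveI : Fintype (Subgroup.zpowers z) := Fintype.ofFinite _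
  have hzcard : Nat.card (Subgroup.zpowers z) = p := by
    rw [Nat.card_zpowers]; exact orderOf_eq_prime hzp hz1
  let ψ : Subgroup.zpowers z →* MulAut M :=
    (MulAut.conjNormal : G →* MulAut M).comp (Subgroup.subtype _)
  have hψ : ∀ (γ : Subgroup.zpowers z) (m : M), ((ψ γ m : M) : G) = (γ : G) * m * (γ : G)⁻¹ :=
    fun γ m => coe_conjNormal _ m
  let A : ℕ → M → M := fun i m => ((H1.restrictAut φ M hMφ) ^ i) m
  have hAc : ∀ i m, ((A i m : M) : G) = (φ ^ i) (m : G) := fun i m => coe_restrictAut_pow φ M hMφ i m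
  have hA : ∀ m, ∏ i ∈ Finset.range p, A i m = 1 := by
    intro m
    apply Subtype.ext
    rw [coe_prod_range hMc]
    simp only [hAc]
    exact hs _
  have hγ : ∀ γ : Subgroup.zpowers z, (γ : G) ^ p = 1 ∧ φ (γ : G) = γ := by
    intro γ
    obtain ⟨k, hk⟩ := Subgroup.mem_zpowers_iff.mp γ.2
    rw [← hk]
    refine ⟨?_, by rw [map_zpow, hzφ]⟩
    rw [← zpow_natCast, ← zpow_mul, mul_comm, zpow_mul, zpow_natCast, hzp, one_zpow]
  have htw : ∀ γ m, ∏ i ∈ Finset.range p, ψ (γ ^ i) (A i m) = 1 := by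
    intro γ m
    apply Subtype.ext
    rw [coe_prod_range hMc]
    have h1 := hs ((m : G) * (γ : G))
    rw [list_prod_fixed_twist φ p _ _ (hγ γ).2, (hγ γ).1, mul_one] at h1
    simp only [hψ, hAc, Subgroup.coe_pow]
    exact h1
  have hfix := fixed_of_twisted_prod ψ p hp.pos A (fun i γ => γ ^ i) (fun m => by simp [A])
    (fun γ => pow_zero γ) (fun i hi => by
      rw [Finset.mem_erase, Finset.mem_range] at hi
      refine (powCoprime ?_).bijective
      rw [hzcard]
      exact (hp.coprime_iff_not_dvd).mpr fun hd =>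
        absurd (Nat.le_of_dvd (Nat.pos_of_ne_zero hi.1) hd) (not_le.mpr hi.2)) hA htw (by
      rw [hzcard]
      exact (hp.coprime_iff_not_dvd).mpr fun hd => hKcop (hd.trans (Subgroup.card_dvd_of_le hMK)))
  have hzM : ∀ m ∈ M, z * m = m * z := by
    intro m hm
    have h1 := congrArg Subtype.val (hfix ⟨z, Subgroup.mem_zpowers z⟩ ⟨m, hm⟩)
    rw [hψ] at h1
    calc z * m = z * m * z⁻¹ * z := by group
      _ = m * z := by rw [show z * m * z⁻¹ = m from h1]
  -- `z` centralises `K`
  have hzK : K ≤ Subgroup.centralizer {z} := by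
    intro k hk
    rw [Subgroup.mem_centralizer_singleton_iff]
    haveI hQ := hquot M inferInstance hM0 hMφ
    have h1 : ((P.mapSurjective (QuotientGroup.mk'_surjective M) : Sylow p (G ⧸ M)) :
        Subgroup (G ⧸ M)).Normal :=
      ((Group.isNilpotent_of_finite_tfae (G := G ⧸ M)).out 0 3 rfl rfl).mp hQ p ⟨hp⟩ _
    rw [Sylow.coe_mapSurjective] at h1
    have h2 : (K.map (QuotientGroup.mk' M)).Normal :=
      hKnormal.map _ (QuotientGroup.mk'_surjective M)
    have hdisj : Disjoint ((P : Subgroup G).map (QuotientGroup.mk' M))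
        (K.map (QuotientGroup.mk' M)) := by
      rw [disjoint_iff]
      refine Subgroup.inf_eq_bot_of_coprime ?_
      obtain ⟨j, hj⟩ := IsPGroup.iff_card.mp (P.2.map (QuotientGroup.mk' M))
      rw [hj]
      refine Nat.Coprime.pow_left j ((hp.coprime_iff_not_dvd).mpr fun hd => hKcop ?_)
      exact hd.trans (Subgroup.card_map_dvd _ _)
    have hcomm : Commute (QuotientGroup.mk' M z) (QuotientGroup.mk' M k) :=
      Subgroup.commute_of_normal_of_disjoint _ _ h1 h2 hdisj _ _
        (Subgroup.mem_map_of_mem _ hzZ.1) (Subgroup.mem_map_of_mem _ hk)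
    have hc : k⁻¹ * (z * k * z⁻¹) ∈ M := by
      rw [← QuotientGroup.eq_one_iff]
      show QuotientGroup.mk' M (k⁻¹ * (z * k * z⁻¹)) = 1
      rw [map_mul, map_mul, map_mul, map_inv, map_inv, hcomm.eq]
      group
    set c := k⁻¹ * (z * k * z⁻¹) with hcdef
    have hzc : z * c = c * z := hzM c hc
    have hj : ∀ j : ℕ, z ^ j * k * (z ^ j)⁻¹ = k * c ^ j := by
      intro j
      induction j with
      | zero => simp
      | succ j ih =>
        rw [pow_succ', mul_inv_rev]
        calc z * z ^ j * k * ((z ^ j)⁻¹ * z⁻¹) = z * (z ^ j * k * (z ^ j)⁻¹) * z⁻¹ := by group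
          _ = z * (k * c ^ j) * z⁻¹ := by rw [ih]
          _ = (z * k * z⁻¹) * (z * c ^ j * z⁻¹) := by group
          _ = k * c * c ^ j := by
            rw [((Commute.pow_right (show Commute z c from hzc) j)).eq, mul_inv_cancel_right,
              hcdef]; group
          _ = k * c ^ (j + 1) := by rw [mul_assoc, ← pow_succ']
    have h3 := hj p
    rw [hzp, one_mul, inv_one, mul_one] at h3
    have h4 : c ^ p = 1 := (mul_eq_left (a := k)).mp h3.symm
    have h5 : orderOf c ∣ Nat.card K := by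
      rw [← Subgroup.orderOf_mk c (hMK hc)]
      exact orderOf_dvd_natCard _
    have h6 : c = 1 := by
      rcases (Nat.dvd_prime hp).mp (orderOf_dvd_of_pow_eq_one h4) with h | h
      · exact orderOf_eq_one_iff.mp h
      · exact absurd (h ▸ h5) hKcop
    have h7 : z * k * z⁻¹ = k := by
      rw [hcdef, inv_mul_eq_one] at h6
      exact h6.symm
    calc k * z = z * k * z⁻¹ * z := by rw [h7]
      _ = z * k := by group
  have hPz : (P : Subgroup G) ≤ Subgroup.centralizer {z} := fun y hy => by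
    rw [Subgroup.mem_centralizer_singleton_iff]
    exact Subgroup.mem_centralizer_iff.mp hzZ.2 y hy
  refine hcenter fun h => hz1 ?_
  rw [← Subgroup.mem_bot, ← h, Subgroup.mem_center_iff]
  intro g
  have htop : Subgroup.centralizer {z} = ⊤ := by
    rw [← Subgroup.index_eq_one]
    obtain ⟨k, hk⟩ := H5.exists_index_pResidual_eq (G := G) (p := p)
    obtain ⟨j, -, hj⟩ := (Nat.dvd_prime_pow hp).mp (hk ▸ Subgroup.index_dvd_of_le hzK)
    rcases Nat.eq_zero_or_pos j with h0 | h0
    · rw [hj, h0, pow_zero]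
    · exact absurd ((hj ▸ dvd_pow_self p h0.ne').trans (Subgroup.index_dvd_of_le hPz)) P.not_dvd_index
  have := (htop ▸ Subgroup.mem_top g : g ∈ Subgroup.centralizer {z})
  exact Subgroup.mem_centralizer_singleton_iff.mp this

end Cfsg.Agent.H29
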