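import Mathlib

set_option autoImplicit false

namespace Cfsg.Agent.H29

/-- If an endomorphism `e` of an abelian group `M` of exponent `p ^ 2` has `e ^ p = 1`, where
`p > 3`, the elements killed by `p` are multiples of `p` and number at most `p ^ 2`, then `e`
is the identity on the multiples of `p`. -/
theorem end_pow_prime_fixes_multiples {M : Type*} [AddCommGroup M] [Finite M] {p : ℕ}
    (hp' : p.Prime) (hp : 3 < p) (e : AddMonoid.End M) (hep : e ^ p = 1)
    (hpp : ∀ y : M, p • (p • y) = 0)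
    (hdiv : ∀ v : M, p • v = 0 → ∃ y : M, v = p • y)
    (hcard : Nat.card {v : M // p • v = 0} ≤ p * p) (y : M) : e (p • y) = p • y := by
  classical
  haveI := Fact.mk hp'
  set f : AddMonoid.End M := e - 1 with hf
  let W : AddSubgroup M := (nsmulAddMonoidHom p : M →+ M).ker
  have hW : ∀ v, v ∈ W ↔ p • v = 0 := fun v => Iff.rfl
  have hcardW : Nat.card W ≤ p * p := hcard
  have hfW : ∀ v ∈ W, f v ∈ W := by
    intro v hv
    rw [hW] at hv ⊢
    rw [← map_nsmul, hv, map_zero]
  let g : W →+ W :=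
    { toFun := fun v => ⟨f v, hfW v v.2⟩
      map_zero' := Subtype.ext (map_zero f)
      map_add' := fun u v => Subtype.ext (map_add f (u : M) (v : M)) }
  have hbinom : ∀ v : M, (f ^ p) v + ∑ k ∈ Finset.Ico 1 p, (p.choose k) • (f ^ k) v = 0 := by
    intro v
    have h1 : (f + 1) ^ p = 1 := by rw [hf, sub_add_cancel, hep]
    rw [(Commute.one_right f).add_pow, Finset.sum_range_succ, Finset.range_eq_Ico,
      Finset.sum_eq_sum_Ico_succ_bot hp'.pos] at h1
    simp only [one_pow, mul_one, Nat.choose_zero_right, Nat.cast_one, pow_zero, Nat.choose_self,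
      zero_add, ← nsmul_eq_mul'] at h1
    rw [add_assoc, add_eq_left] at h1
    have h2 := congrArg (fun φ : AddMonoid.End M => φ v) h1
    let ev : AddMonoid.End M →+ M :=
      { toFun := fun φ => φ v
        map_zero' := rfl
        map_add' := fun _ _ => rfl }
    have h3 : ev (∑ k ∈ Finset.Ico 1 p, p.choose k • f ^ k) + ev (f ^ p) = 0 := by
      rw [← map_add]; exact h2
    rw [map_sum] at h3
    rw [add_comm]
    exact h3
  have hgp : ∀ (n : ℕ) (v : W), ((g^[n] v : W) : M) = (f ^ n) v := by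
    intro n
    induction n with
    | zero => intro v; rfl
    | succ n ih => intro v; rw [Function.iterate_succ_apply', pow_succ']; exact congrArg f (ih v)
  have hgnil : ∀ v : W, g^[p] v = 0 := by
    intro v
    apply Subtype.ext
    rw [hgp, ZeroMemClass.coe_zero, ← add_zero ((f ^ p) (v : M))]
    conv_rhs => rw [← hbinom v]
    congr 1
    refine (Finset.sum_eq_zero fun k hk => ?_).symm
    rw [Finset.mem_Ico] at hk
    obtain ⟨c, hc⟩ := hp'.dvd_choose_self (by omega) hk.2
    rw [hc, mul_comm, mul_smul, ← map_nsmul, (hW _).mp v.2, map_zero, smul_zero]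
  -- a nilpotent endomorphism of a group of order at most `p ^ 2`
  have hg2 : ∀ v : W, g (g v) = 0 := by
    by_contra hcon
    push Not at hcon
    obtain ⟨v, hv⟩ := hcon
    have hpW : IsPGroup p (Multiplicative W) := fun w => ⟨1, by
      rw [pow_one]
      exact (Subtype.ext ((hW _).mp (Multiplicative.toAdd w).2) : p • (Multiplicative.toAdd w) = 0)⟩
    obtain ⟨r, hr⟩ := hpW.exists_card_eq
    have hr' : Nat.card W = p ^ r := hr
    have hr2 : r ≤ 2 := (Nat.pow_le_pow_iff_right hp'.one_lt).mp (by rw [← hr', pow_two]; exact hcardW)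
    have hdvd : ∀ U : AddSubgroup W, ∃ i ≤ r, Nat.card U = p ^ i := fun U =>
      (Nat.dvd_prime_pow hp').mp (hr' ▸ AddSubgroup.card_addSubgroup_dvd_card U)
    let R₁ := g.range
    let R₂ := R₁.map g
    have hlt : ∀ U : AddSubgroup W, U ≠ ⊥ → U.map g ≤ U → U.map g < U := by
      intro U hU hle
      refine lt_of_le_of_ne hle fun heq => hU ?_
      have : ∀ n : ℕ, ∀ u ∈ U, ∃ w ∈ U, g^[n] w = u := by
        intro n
        induction n with
        | zero => intro u hu; exact ⟨u, hu, rfl⟩
        | succ n ih =>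
          intro u hu
          rw [← heq] at hu
          obtain ⟨w, hw, rfl⟩ := hu
          obtain ⟨z, hz, rfl⟩ := ih w hw
          exact ⟨z, hz, Function.iterate_succ_apply' g n z⟩
      rw [eq_bot_iff]
      intro u hu
      obtain ⟨w, -, rfl⟩ := this p u hu
      rw [hgnil]; exact zero_mem _
    have hR2ne : R₂ ≠ ⊥ := by
      intro h
      apply hv
      have : g (g v) ∈ R₂ := ⟨g v, ⟨v, rfl⟩, rfl⟩
      rwa [h, AddSubgroup.mem_bot] at this
    have hR1ne : R₁ ≠ ⊥ := by
      intro h
      apply hR2ne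
      simp [R₂, h]
    have h21 : R₂ < R₁ := by
      refine hlt R₁ hR1ne ?_
      rintro _ ⟨w, -, rfl⟩; exact ⟨w, rfl⟩
    have h10 : R₁ < ⊤ := by
      rw [show R₁ = (⊤ : AddSubgroup W).map g from g.range_eq_map]
      refine hlt ⊤ ?_ le_top
      intro h; exact hR1ne (le_bot_iff.mp (h ▸ le_top))
    obtain ⟨i, -, hi⟩ := hdvd R₁
    obtain ⟨j, -, hj⟩ := hdvd R₂
    have e1 : Nat.card R₁ < Nat.card W := by
      rw [← AddSubgroup.card_top (G := W)]; exact Set.Finite.card_lt_card (Set.toFinite _) h10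
    have e2 : Nat.card R₂ < Nat.card R₁ := Set.Finite.card_lt_card (Set.toFinite _) h21
    have e3 : 1 < Nat.card R₂ := (AddSubgroup.one_lt_card_iff_ne_bot _).mpr hR2ne
    rw [hi, hr', Nat.pow_lt_pow_iff_right hp'.one_lt] at e1
    rw [hj, hi, Nat.pow_lt_pow_iff_right hp'.one_lt] at e2
    rw [hj, ← pow_zero p, Nat.pow_lt_pow_iff_right hp'.one_lt] at e3
    omega
  have hpf2 : ∀ v : M, p • f (f v) = 0 := by
    intro v
    rw [← map_nsmul, ← map_nsmul]
    exact congrArg Subtype.val (hg2 ⟨p • v, hpp v⟩)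
  have hf4 : ∀ v : M, f (f (f (f v))) = 0 := by
    intro v
    exact congrArg Subtype.val (hg2 ⟨f (f v), hpf2 v⟩)
  have hfhigh : ∀ (k : ℕ) (v : M), (f ^ (k + 4)) v = 0 := by
    intro k v
    rw [pow_add]
    show (f ^ k) (f (f (f (f v)))) = 0
    rw [hf4, map_zero]
  have h := hbinom y
  have h0 : (f ^ p) y = 0 := by
    rw [show p = (p - 4) + 4 by omega]; exact hfhigh _ y
  rw [h0, zero_add, Finset.sum_eq_sum_Ico_succ_bot hp'.one_lt] at h
  rw [Finset.sum_eq_zero, add_zero, Nat.choose_one_right, pow_one, ← map_nsmul] at h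
  · exact sub_eq_zero.mp h
  · intro k hk
    rw [Finset.mem_Ico] at hk
    rcases lt_or_ge k 4 with h4 | h4
    · obtain ⟨c, hc⟩ := hp'.dvd_choose_self (by omega) hk.2
      have hk2 : (f ^ k) y = (f ^ (k - 2)) (f (f y)) := by
        conv_lhs => rw [show k = (k - 2) + 2 by omega, pow_add]
        rfl
      rw [hc, mul_comm, mul_smul, hk2, ← map_nsmul, hpf2, map_zero, smul_zero]
    · rw [show k = (k - 4) + 4 by omega, hfhigh, smul_zero]

end Cfsg.Agent.H29
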