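import Mathlib
import Cfsg.Prelude
import Cfsg.Agent.H1.Cores
import Cfsg.Agent.H10.PSolvable
import Cfsg.Agent.H16.OddOrder
import Cfsg.Agent.H18.SylowNormalizes
import Cfsg.Agent.H65.Real

/-!
A finite group with abelian Sylow 2-subgroups and a subgroup of odd order and 2-power index
(i.e. a 2-complement) is solvable.
-/

set_option autoImplicit false
set_option linter.all false

namespace Cfsg.Agent.H29

open Subgroup

universe u

variable {G : Type u} [Group G] [Finite G]

theorem card_coprime_two {D : Subgroup G} (hD : Odd (Nat.card D)) (P : Subgroup G)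
    (hP : IsPGroup 2 P) : Nat.Coprime (Nat.card D) (Nat.card P) := by
  haveI : Fact (Nat.Prime 2) := ⟨Nat.prime_two⟩
  obtain ⟨n, hn⟩ := IsPGroup.iff_card.1 hP
  rw [hn]
  exact Nat.Coprime.pow_right n (Nat.coprime_two_right.2 hD)

theorem inf_eq_bot_of_odd {D : Subgroup G} (hD : Odd (Nat.card D)) (P : Subgroup G)
    (hP : IsPGroup 2 P) {x : G} (hxD : x ∈ D) (hxP : x ∈ P) : x = 1 := by
  have h1 : orderOf x ∣ Nat.card D := by
    simpa using orderOf_dvd_natCard (⟨x, hxD⟩ : D)
  have h2 : orderOf x ∣ Nat.card P := by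
    simpa using orderOf_dvd_natCard (⟨x, hxP⟩ : P)
  exact orderOf_eq_one_iff.1 (Nat.eq_one_of_dvd_coprimes (card_coprime_two hD P hP) h1 h2)

theorem inv_eq_self_of_orderOf_two {G : Type*} [Group G] {t : G} (ht : orderOf t = 2) :
    t⁻¹ = t := by
  rw [inv_eq_iff_mul_eq_one, ← pow_two, ← ht]; exact pow_orderOf_eq_one t

/-- The factorisation `G = D * S`. -/
theorem exists_mul_of_twoPowIndex {D : Subgroup G} (hD : Odd (Nat.card D)) {k : ℕ}
    (hk : D.index = 2 ^ k) (S : Sylow 2 G) (g : G) :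
    ∃ d ∈ D, ∃ s ∈ (S : Subgroup G), g = d * s := by
  haveI : Fact (Nat.Prime 2) := ⟨Nat.prime_two⟩
  have hS : Nat.card (S : Subgroup G) = 2 ^ k := by
    rw [S.card_eq_multiplicity]
    congr 1
    rw [← D.card_mul_index, Nat.factorization_mul (by exact Nat.card_pos.ne') (by rw [hk]; positivity),
      Finsupp.add_apply, hk, Nat.Prime.factorization_pow Nat.prime_two, Finsupp.single_eq_same,
      Nat.factorization_eq_zero_of_not_dvd (fun h => (Nat.not_even_iff_odd.2 hD) (even_iff_two_dvd.2 h))]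
    simp
  have hc : D.IsComplement' (S : Subgroup G) := by
    refine Subgroup.isComplement'_of_coprime ?_ (card_coprime_two hD _ S.isPGroup')
    rw [hS, ← hk, D.card_mul_index]
  obtain ⟨⟨d, s⟩, hds⟩ := hc.2 g
  exact ⟨d, d.2, s, s.2, hds.symm⟩

theorem sylow_comm_subgroup (hab : ∀ S : Sylow 2 G, IsMulCommutative (S : Subgroup G))
    (M : Subgroup G) (P : Sylow 2 M) : IsMulCommutative (P : Subgroup M) := by
  obtain ⟨S, hS⟩ := (IsPGroup.map P.isPGroup' M.subtype).exists_le_sylow
  refine ⟨⟨fun a b => ?_⟩⟩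
  have ha : ((a : M) : G) ∈ (S : Subgroup G) := hS (Subgroup.mem_map_of_mem _ a.2)
  have hb : ((b : M) : G) ∈ (S : Subgroup G) := hS (Subgroup.mem_map_of_mem _ b.2)
  haveI := hab S
  have h : (⟨_, ha⟩ : (S : Subgroup G)) * ⟨_, hb⟩ = ⟨_, hb⟩ * ⟨_, ha⟩ := mul_comm' _ _
  exact Subtype.ext (Subtype.ext (by simpa using congrArg Subtype.val h))

theorem sylow_comm_quotient (hab : ∀ S : Sylow 2 G, IsMulCommutative (S : Subgroup G))
    (N : Subgroup G) [N.Normal] (P : Sylow 2 (G ⧸ N)) :
    IsMulCommutative (P : Subgroup (G ⧸ N)) := by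
  haveI : Fact (Nat.Prime 2) := ⟨Nat.prime_two⟩
  obtain ⟨S, rfl⟩ := Sylow.mapSurjective_surjective (QuotientGroup.mk'_surjective N) 2 P
  refine ⟨⟨?_⟩⟩
  rintro ⟨a, ha⟩ ⟨b, hb⟩
  rw [Sylow.coe_mapSurjective] at ha hb
  obtain ⟨x, hx, rfl⟩ := Subgroup.mem_map.1 ha
  obtain ⟨y, hy, rfl⟩ := Subgroup.mem_map.1 hb
  haveI := hab S
  have h : (⟨x, hx⟩ : (S : Subgroup G)) * ⟨y, hy⟩ = ⟨y, hy⟩ * ⟨x, hx⟩ := mul_comm' _ _
  apply Subtype.ext
  show QuotientGroup.mk' N x * QuotientGroup.mk' N y = QuotientGroup.mk' N y * QuotientGroup.mk' N x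
  rw [← map_mul, ← map_mul]
  exact congrArg _ (congrArg Subtype.val h)

/-- Two elements of a normal Sylow subgroup of a subgroup. -/
theorem mem_of_isPGroup_normalizer (S : Sylow 2 G) {P : Subgroup G} (hP : IsPGroup 2 P)
    (h : P ≤ normalizer ((S : Subgroup G) : Set G)) : P ≤ (S : Subgroup G) := by
  haveI : Fact (Nat.Prime 2) := ⟨Nat.prime_two⟩
  have h1 : IsPGroup 2 ↥(P ⊔ (S : Subgroup G)) := IsPGroup.to_sup_of_normal_right' hP S.isPGroup' h
  calc P ≤ P ⊔ (S : Subgroup G) := le_sup_left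
    _ = S := S.is_maximal' h1 le_sup_right

theorem mem_of_involution_normalizer (S : Sylow 2 G) {t : G} (ht : orderOf t = 2)
    (h : t ∈ normalizer ((S : Subgroup G) : Set G)) : t ∈ (S : Subgroup G) := by
  haveI : Fact (Nat.Prime 2) := ⟨Nat.prime_two⟩
  refine mem_of_isPGroup_normalizer S (P := zpowers t) ?_ (zpowers_le.2 h) (mem_zpowers t)
  exact IsPGroup.of_card (n := 1) (by rw [Nat.card_zpowers, ht, pow_one])

/-- A finite group with abelian Sylow 2-subgroups and a subgroup of odd order and 2-power index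
is solvable. -/
theorem isSolvable_of_odd_twoPowIndex_aux : ∀ (n : ℕ) {G : Type u} [Group G] [Finite G],
    Nat.card G = n → ∀ (D : Subgroup G), Odd (Nat.card D) → (∃ k, D.index = 2 ^ k) →
    (∀ S : Sylow 2 G, IsMulCommutative (S : Subgroup G)) → Group.IsSolvable G := by
  intro n
  induction n using Nat.strong_induction_on with
  | _ n ih =>
  intro G _ _ hn D hD ⟨k, hk⟩ hab
  haveI h2f : Fact (Nat.Prime 2) := ⟨Nat.prime_two⟩
  by_contra hns
  -- no proper nontrivial normal subgroup
  have hsimple : ∀ N : Subgroup G, N.Normal → N = ⊥ ∨ N = ⊤ := by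
    intro N hN
    by_contra hne
    rw [not_or] at hne
    haveI := hN
    have hNlt : Nat.card N < n := by
      rw [← hn]
      exact lt_of_le_of_ne (card_le_card_group N) fun h => hne.2 ((card_eq_iff_eq_top N).1 h)
    have hQlt : Nat.card (G ⧸ N) < n := by
      rw [← hn, ← Subgroup.index_eq_card]
      have h1 := N.card_mul_index
      have h2 : 1 < Nat.card N := (one_lt_card_iff_ne_bot N).2 hne.1
      have h3 : 0 < N.index := Nat.pos_of_ne_zero index_ne_zero_of_finite
      nlinarith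
    haveI hNs : Group.IsSolvable N := by
      refine ih _ hNlt rfl (D.subgroupOf N) ?_ ?_ (sylow_comm_subgroup hab N)
      · exact Odd.of_dvd_nat hD (by
          rw [Nat.card_congr ((D.subgroupOf N).equivMapOfInjective N.subtype Subtype.coe_injective).toEquiv,
            subgroupOf_map_subtype]
          exact card_dvd_of_le inf_le_left)
      · obtain ⟨j, -, hj⟩ := (Nat.dvd_prime_pow Nat.prime_two).1
          (hk ▸ H18.relIndex_dvd_index_of_normal' D N)
        exact ⟨j, hj⟩
    haveI : Group.IsSolvable (G ⧸ N) := by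
      refine ih _ hQlt rfl (D.map (QuotientGroup.mk' N)) ?_ ?_ (sylow_comm_quotient hab N)
      · exact Odd.of_dvd_nat hD (D.card_map_dvd _)
      · obtain ⟨j, -, hj⟩ := (Nat.dvd_prime_pow Nat.prime_two).1
          (hk ▸ D.index_map_dvd (QuotientGroup.mk'_surjective N))
        exact ⟨j, hj⟩
    exact hns (Group.isSolvable_of_ker_le_range N.subtype (QuotientGroup.mk' N)
      (by rw [QuotientGroup.ker_mk', Subgroup.range_subtype]))
  have hDtop : D ≠ ⊤ := by
    intro h
    apply hns
    apply H16.FT.oddOrder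
    rw [← Subgroup.card_top (G := G), ← h]
    exact hD
  have hcomm : ¬ ∀ a b : G, a * b = b * a := fun h => hns (Group.isSolvable_of_comm h)
  have hnotInD : ∀ N : Subgroup G, N.Normal → N ≤ D → N = ⊥ := fun N hN hle =>
    (hsimple N hN).resolve_right fun h => hDtop (top_le_iff.1 (h ▸ hle))
  -- proper overgroups of a Sylow 2-subgroup normalise it
  have key : ∀ (S : Sylow 2 G) (M : Subgroup G), (S : Subgroup G) ≤ M → M ≠ ⊤ →
      M ≤ normalizer ((S : Subgroup G) : Set G) := by
    intro S M hSM hM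
    have hlt : Nat.card M < n := by
      rw [← hn]
      exact lt_of_le_of_ne (card_le_card_group M) fun h => hM ((card_eq_iff_eq_top M).1 h)
    let S' : Sylow 2 M := S.subtype hSM
    have hoddM : Odd (Nat.card (D.subgroupOf M)) := Odd.of_dvd_nat hD (by
      rw [Nat.card_congr ((D.subgroupOf M).equivMapOfInjective M.subtype Subtype.coe_injective).toEquiv,
        subgroupOf_map_subtype]
      exact card_dvd_of_le inf_le_left)
    have hcompl : (D.subgroupOf M).IsComplement' (S' : Subgroup M) := by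
      refine Subgroup.isComplement'_of_disjoint_and_mul_eq_univ ?_ ?_
      · rw [Subgroup.disjoint_def]
        intro x hx hxS
        exact inf_eq_bot_of_odd hoddM _ S'.isPGroup' hx hxS
      · rw [Set.eq_univ_iff_forall]
        intro m
        obtain ⟨d, hd, s, hs, hds⟩ := exists_mul_of_twoPowIndex hD hk S (m : G)
        have hdM : d ∈ M := by
          have : d = (m : G) * s⁻¹ := by rw [hds]; group
          rw [this]; exact M.mul_mem m.2 (M.inv_mem (hSM hs))
        exact ⟨⟨d, hdM⟩, mem_subgroupOf.2 hd, ⟨s, hSM hs⟩, hs, Subtype.ext hds.symm⟩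
    obtain ⟨j, hj⟩ := IsPGroup.iff_card.1 S'.isPGroup'
    have hidx : (D.subgroupOf M).index = 2 ^ j := by rw [hcompl.symm.index_eq_card, hj]
    haveI hMs : Group.IsSolvable M := ih _ hlt rfl (D.subgroupOf M) hoddM ⟨j, hidx⟩ (sylow_comm_subgroup hab M)
    -- the odd core is trivial
    have hcore : Cfsg.pPrimeCore 2 M = ⊥ := by
      set O := Cfsg.pPrimeCore 2 M with hO
      haveI hOn : O.Normal := H1.pPrimeCore_normal' 2 M
      have hOodd : Odd (Nat.card O) := Nat.coprime_two_right.1 (H1.card_pPrimeCore_coprime 2 M)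
      have hOD : O ≤ D.subgroupOf M := by
        have h1 : Odd (Nat.card ↥(O ⊔ D.subgroupOf M)) :=
          Odd.of_dvd_nat (hOodd.mul hoddM) (by rw [sup_comm, mul_comm]; exact H1.card_sup_dvd_mul _ _)
        have h2 : Nat.card ↥(O ⊔ D.subgroupOf M) ∣ Nat.card (D.subgroupOf M) := by
          have h3 := Subgroup.card_subgroup_dvd_card (O ⊔ D.subgroupOf M)
          rw [← hcompl.card_mul_card, hj] at h3
          exact (Nat.Coprime.pow_right j (Nat.coprime_two_right.2 h1)).dvd_of_dvd_mul_right h3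
        have h4 : D.subgroupOf M = O ⊔ D.subgroupOf M :=
          eq_of_le_of_card_ge le_sup_right (Nat.le_of_dvd Nat.card_pos h2)
        exact h4.symm ▸ le_sup_left
      have hNC : normalClosure ((O.map M.subtype : Subgroup G) : Set G) ≤ D := by
        refine (closure_le _).2 ?_
        intro y hy
        obtain ⟨x, hx, hxy⟩ := Group.mem_conjugatesOfSet_iff.1 hy
        obtain ⟨g, rfl⟩ := isConj_iff.1 hxy
        obtain ⟨d, hd, s, hs, rfl⟩ := exists_mul_of_twoPowIndex hD hk S g
        obtain ⟨o, ho, rfl⟩ := Subgroup.mem_map.1 hx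
        have h1 : (⟨s, hSM hs⟩ : M) * o * (⟨s, hSM hs⟩ : M)⁻¹ ∈ O := hOn.conj_mem o ho _
        have h2 := mem_subgroupOf.1 (hOD h1)
        simp only [Subgroup.coe_mul, InvMemClass.coe_inv] at h2
        have h3 : d * s * (o : G) * (d * s)⁻¹ = d * (s * (o : G) * s⁻¹) * d⁻¹ := by group
        show d * s * (M.subtype o) * (d * s)⁻¹ ∈ D
        rw [Subgroup.coe_subtype, h3]
        exact D.mul_mem (D.mul_mem hd h2) (D.inv_mem hd)
      have hbot := hnotInD _ normalClosure_normal hNC
      have h5 : O.map M.subtype = ⊥ := le_bot_iff.1 (hbot ▸ le_normalClosure)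
      exact (map_eq_bot_iff_of_injective _ Subtype.coe_injective).1 h5
    haveI : (Cfsg.pCore 2 M).Normal := H1.pCore_normal' 2 M
    have h6 : (S' : Subgroup M) ≤ centralizer ((Cfsg.pCore 2 M : Subgroup M) : Set M) := by
      intro s hs
      rw [mem_centralizer_iff]
      intro x hx
      haveI := sylow_comm_subgroup hab M S'
      exact congrArg Subtype.val
        (mul_comm' (⟨x, H1.pCore_le_sylow S' hx⟩ : (S' : Subgroup M)) ⟨s, hs⟩)
    have h7 : (S' : Subgroup M) = Cfsg.pCore 2 M :=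
      le_antisymm (h6.trans (H10.centralizer_pCore_le H10.isPSolvable_of_isSolvable hcore))
        (H1.pCore_le_sylow S')
    haveI : (S' : Subgroup M).Normal := h7 ▸ inferInstance
    exact (Subgroup.normal_subgroupOf_iff_le_normalizer hSM).1 (by
      simpa [S'] using ‹(S' : Subgroup M).Normal›)
  -- centralisers of involutions
  have hZ : center G = ⊥ := (hsimple _ inferInstance).resolve_right fun h => hcomm fun a b =>
    (mem_center_iff.1 (h ▸ mem_top b : b ∈ center G)) a
  have hC : ∀ (S : Sylow 2 G) (t : G), orderOf t = 2 → t ∈ (S : Subgroup G) →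
      centralizer ({t} : Set G) ≤ normalizer ((S : Subgroup G) : Set G) := by
    intro S t ht htS
    refine key S _ ?_ ?_
    · intro s hs
      haveI := hab S
      exact mem_centralizer_singleton_iff.2
        (congrArg Subtype.val (mul_comm' (⟨s, hs⟩ : (S : Subgroup G)) ⟨t, htS⟩))
    · intro h
      have h1 : t ∈ center G := mem_center_iff.2 fun g =>
        (mem_centralizer_singleton_iff.1 (h ▸ mem_top g : g ∈ centralizer ({t} : Set G)))
      rw [hZ, mem_bot] at h1
      simp [h1] at ht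
  obtain ⟨S⟩ : Nonempty (Sylow 2 G) := inferInstance
  set H := normalizer ((S : Subgroup G) : Set G) with hH
  have hHtop : H ≠ ⊤ := by
    intro h
    haveI : (S : Subgroup G).Normal := normalizer_eq_top_iff.1 h
    rcases hsimple (S : Subgroup G) inferInstance with h1 | h1
    · apply hDtop
      refine eq_top_iff.2 fun g _ => ?_
      obtain ⟨d, hd, s, hs, rfl⟩ := exists_mul_of_twoPowIndex hD hk S g
      rw [h1, mem_bot] at hs
      simpa [hs] using hd
    · exact hcomm fun a b => by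
        haveI := hab S
        exact congrArg Subtype.val (mul_comm' (⟨a, h1 ▸ mem_top a⟩ : (S : Subgroup G)) ⟨b, h1 ▸ mem_top b⟩)
  -- every involution of H lies in S
  have hHinv : ∀ t : G, orderOf t = 2 → t ∈ H → t ∈ (S : Subgroup G) := fun t ht h =>
    mem_of_involution_normalizer S ht h
  let I : Type u := {t : G // orderOf t = 2 ∧ t ∈ (S : Subgroup G)}
  have hI2 : 2 ≤ Nat.card I := by
    have hdiv : 2 ∣ Nat.card G := by
      by_contra h
      exact hns (H16.FT.oddOrder (Nat.odd_iff.2 (Nat.two_dvd_ne_zero.1 h)))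
    obtain ⟨t, ht⟩ := exists_prime_orderOf_dvd_card' 2 hdiv
    obtain ⟨S1, hS1⟩ := (IsPGroup.of_card (p := 2) (G := zpowers t) (n := 1)
      (by rw [Nat.card_zpowers, ht, pow_one])).exists_le_sylow
    obtain ⟨g, hg⟩ := MulAction.exists_smul_eq G S1 S
    have hz : g * t * g⁻¹ ∈ (S : Subgroup G) := by
      rw [← hg]
      exact Subgroup.smul_mem_pointwise_smul t (MulAut.conj g) _ (hS1 (mem_zpowers t))
    have hzo : orderOf (g * t * g⁻¹) = 2 := by
      rw [← ht]; exact orderOf_injective (MulAut.conj g).toMonoidHom (MulEquiv.injective _) t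
    set z : I := ⟨g * t * g⁻¹, hzo, hz⟩ with hzdef
    by_contra hlt
    haveI : Nonempty I := ⟨z⟩
    have h1 : Nat.card I = 1 := by have := Nat.card_pos (α := I); omega
    obtain ⟨hsub, -⟩ := Nat.card_eq_one_iff_unique.1 h1
    -- transfer kills the unique involution
    haveI := hab S
    open scoped IsMulCommutative in
    let τ : G →* (S : Subgroup G) := MonoidHom.transfer (MonoidHom.id (S : Subgroup G))
    have hτ : τ.ker = ⊤ := (hsimple _ inferInstance).resolve_left fun h => hcomm fun a b => by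
      have hinj := (MonoidHom.ker_eq_bot_iff τ).1 h
      exact hinj (by rw [map_mul, map_mul]; exact mul_comm' _ _)
    have hpow : τ z.1 = ⟨z.1 ^ (S : Subgroup G).index, (S : Subgroup G).pow_mem z.2.2 _⟩ := by
      refine MonoidHom.transfer_eq_pow (MonoidHom.id (S : Subgroup G)) z.1 ?_
      intro m g₀ hm
      rcases Nat.even_or_odd m with hm' | hm'
      · obtain ⟨c, rfl⟩ := hm'
        rw [← two_mul, pow_mul, show z.1 ^ 2 = 1 from orderOf_dvd_iff_pow_eq_one.1 (by rw [z.2.1])]
        simp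
      · obtain ⟨c, rfl⟩ := hm'
        rw [pow_add, pow_mul, show z.1 ^ 2 = 1 from orderOf_dvd_iff_pow_eq_one.1 (by rw [z.2.1]),
          one_pow, one_mul, pow_one] at hm ⊢
        have h3 : orderOf (g₀⁻¹ * z.1 * g₀) = 2 := by
          have := orderOf_injective (MulAut.conj g₀⁻¹).toMonoidHom (MulEquiv.injective _) z.1
          simpa [z.2.1] using this
        exact congrArg Subtype.val (Subsingleton.elim (⟨_, h3, hm⟩ : I) z)
    have hz1 : z.1 ^ (S : Subgroup G).index = 1 := by
      have h4 : τ z.1 = 1 := MonoidHom.mem_ker.1 (hτ ▸ mem_top _)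
      rw [hpow] at h4
      exact congrArg Subtype.val h4
    have h5 := orderOf_dvd_of_pow_eq_one hz1
    rw [z.2.1] at h5
    exact S.not_dvd_index h5
  -- conjugates of involutions of S in different cosets of H are different
  have hinj : ∀ (g g' : G) (t t' : I), g * t.1 * g⁻¹ = g' * t'.1 * g'⁻¹ →
      g⁻¹ * g' ∈ H := by
    intro g g' t t' h
    set c := g⁻¹ * g' with hc
    have h1 : c * t'.1 * c⁻¹ = t.1 := by
      rw [hc]
      calc g⁻¹ * g' * t'.1 * (g⁻¹ * g')⁻¹ = g⁻¹ * (g' * t'.1 * g'⁻¹) * g := by group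
        _ = g⁻¹ * (g * t.1 * g⁻¹) * g := by rw [h]
        _ = t.1 := by group
    have h2 : (c • S : Sylow 2 G).toSubgroup ≤ centralizer ({t.1} : Set G) := by
      intro y hy
      rw [Sylow.coe_subgroup_smul] at hy
      obtain ⟨s, hs, rfl⟩ := (Subgroup.mem_map).1 hy
      haveI := hab S
      have h3 : s * t'.1 = t'.1 * s :=
        congrArg Subtype.val (mul_comm' (⟨s, hs⟩ : (S : Subgroup G)) ⟨t'.1, t'.2.2⟩)
      rw [mem_centralizer_singleton_iff, ← h1]
      show c * s * c⁻¹ * (c * t'.1 * c⁻¹) = c * t'.1 * c⁻¹ * (c * s * c⁻¹)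
      calc c * s * c⁻¹ * (c * t'.1 * c⁻¹) = c * (s * t'.1) * c⁻¹ := by group
        _ = c * (t'.1 * s) * c⁻¹ := by rw [h3]
        _ = c * t'.1 * c⁻¹ * (c * s * c⁻¹) := by group
    have h4 := mem_of_isPGroup_normalizer S (c • S : Sylow 2 G).isPGroup'
      (h2.trans (hC S t.1 t.2.1 t.2.2))
    have h5 : c • S = S := Sylow.ext ((c • S : Sylow 2 G).is_maximal' S.isPGroup' h4).symm
    exact Sylow.smul_eq_iff_mem_normalizer.1 h5
  -- pigeonhole: two involutions outside H in the same coset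
  obtain ⟨u₁, u₂, hu₁, hu₂, hu₁H, hne, hw⟩ : ∃ u₁ u₂ : G, orderOf u₁ = 2 ∧ orderOf u₂ = 2 ∧
      u₁ ∉ H ∧ u₁ ≠ u₂ ∧ u₁ * u₂ ∈ H := by
    let X : Type u := {q : G ⧸ H // q ≠ QuotientGroup.mk 1}
    haveI : Nonempty X := by
      obtain ⟨g, -, hg⟩ := SetLike.exists_of_lt (lt_top_iff_ne_top.2 hHtop)
      exact ⟨⟨QuotientGroup.mk g, fun h => hg (by simpa using QuotientGroup.eq.1 h.symm)⟩⟩
    let v : X × I → G := fun p => p.1.1.out * p.2.1 * p.1.1.out⁻¹
    have hvord : ∀ p, orderOf (v p) = 2 := fun p => by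
      rw [← p.2.2.1]
      exact orderOf_injective (MulAut.conj p.1.1.out).toMonoidHom (MulEquiv.injective _) _
    have hvH : ∀ p, v p ∉ H := by
      intro p hp
      have h1 : v p ∈ (S : Subgroup G) := hHinv _ (hvord p) hp
      have h2 : (1 : G) * (⟨v p, hvord p, h1⟩ : I).1 * (1 : G)⁻¹ = p.1.1.out * p.2.1 * p.1.1.out⁻¹ := by
        simp [v]
      have h3 := hinj 1 p.1.1.out _ p.2 h2
      apply p.1.2
      rw [← QuotientGroup.out_eq' p.1.1]
      exact (QuotientGroup.eq.2 h3).symm
    let f : X × I → X := fun p =>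
      ⟨QuotientGroup.mk (v p), fun h => hvH p (by simpa using QuotientGroup.eq.1 h.symm)⟩
    haveI := Fintype.ofFinite X
    haveI := Fintype.ofFinite I
    have hcard : Fintype.card X < Fintype.card (X × I) := by
      rw [Fintype.card_prod, ← Nat.card_eq_fintype_card, ← Nat.card_eq_fintype_card]
      have : 0 < Nat.card X := Nat.card_pos
      nlinarith
    obtain ⟨p, q, hpq, hf⟩ := Fintype.exists_ne_map_eq_of_card_lt f hcard
    refine ⟨v p, v q, hvord p, hvord q, hvH p, ?_, ?_⟩
    · intro h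
      apply hpq
      have h1 : p.1 = q.1 := Subtype.ext (by
        rw [← QuotientGroup.out_eq' p.1.1, ← QuotientGroup.out_eq' q.1.1]
        exact QuotientGroup.eq.2 (hinj _ _ p.2 q.2 h))
      have h2 : p.2 = q.2 := Subtype.ext (by
        have h' : p.1.1.out * p.2.1 * p.1.1.out⁻¹ = p.1.1.out * q.2.1 * p.1.1.out⁻¹ := by
          simpa [v, h1] using h
        exact mul_left_cancel (mul_right_cancel h'))
      exact Prod.ext h1 h2
    · have h1 := QuotientGroup.eq.1 (congrArg Subtype.val hf)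
      rwa [inv_eq_self_of_orderOf_two (hvord p)] at h1
  set w := u₁ * u₂ with hwdef
  have hu₁i : u₁⁻¹ = u₁ := inv_eq_self_of_orderOf_two hu₁
  have hu₂i : u₂⁻¹ = u₂ := inv_eq_self_of_orderOf_two hu₂
  have hinv : u₁ * w * u₁⁻¹ = w⁻¹ := by
    rw [hwdef, mul_inv_rev, hu₁i, hu₂i, ← mul_assoc, ← pow_two,
      show u₁ ^ 2 = 1 by rw [← hu₁]; exact pow_orderOf_eq_one _, one_mul]
  have hw1 : w ≠ 1 := fun h => hne (by
    rw [hwdef, mul_eq_one_iff_eq_inv, hu₂i] at h; exact h)
  -- a prime power of w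
  obtain ⟨p, hp, hpdvd⟩ := Nat.exists_prime_and_dvd (fun h : orderOf w = 1 => hw1 (orderOf_eq_one_iff.1 h))
  set w' := w ^ (orderOf w / p) with hw'def
  have hw'o : orderOf w' = p := orderOf_pow_orderOf_div (orderOf_pos w).ne' hpdvd
  have hw'H : w' ∈ H := H.pow_mem hw _
  have hinv' : u₁ * w' * u₁⁻¹ = w'⁻¹ := by
    rw [hw'def, ← conj_pow, hinv, inv_pow]
  have hpodd : p ≠ 2 := by
    intro h
    rw [h] at hw'o
    have h1 : w' ∈ (S : Subgroup G) := hHinv _ hw'o hw'H
    refine hu₁H (hC S w' hw'o h1 (mem_centralizer_singleton_iff.2 ?_))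
    rw [inv_eq_self_of_orderOf_two hw'o, mul_inv_eq_iff_eq_mul] at hinv'
    exact hinv'
  haveI : Fact p.Prime := ⟨hp⟩
  -- move w' into D by an element of S
  obtain ⟨s, hs, hsD⟩ : ∃ s ∈ (S : Subgroup G), s⁻¹ * w' * s ∈ D := by
    have hW : IsPGroup p (zpowers w') := IsPGroup.of_card (n := 1) (by rw [Nat.card_zpowers, hw'o, pow_one])
    have hnd : ¬ p ∣ Nat.card (G ⧸ D) := by
      rw [← Subgroup.index_eq_card, hk]
      exact fun h => hpodd ((Nat.prime_dvd_prime_iff_eq hp Nat.prime_two).1 (hp.dvd_of_dvd_pow h))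
    obtain ⟨q, hq⟩ := hW.nonempty_fixed_point_of_prime_not_dvd_card (G ⧸ D) hnd
    obtain ⟨g, rfl⟩ := QuotientGroup.mk_surjective q
    have h1 : g⁻¹ * w' * g ∈ D := by
      have h2 := hq ⟨w', mem_zpowers w'⟩
      have h3 : (QuotientGroup.mk (w' * g) : G ⧸ D) = QuotientGroup.mk g := h2
      have h4 := QuotientGroup.eq.1 h3.symm
      rwa [← mul_assoc] at h4
    obtain ⟨d, hd, s, hs, hds⟩ := exists_mul_of_twoPowIndex hD hk S g⁻¹
    refine ⟨s⁻¹, inv_mem hs, ?_⟩
    have h5 : s⁻¹⁻¹ * w' * s⁻¹ = d⁻¹ * (g⁻¹ * w' * g) * d := by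
      rw [hds, show g = (d * s)⁻¹ by rw [← hds, inv_inv]]
      group
    rw [h5]
    exact D.mul_mem (D.mul_mem (D.inv_mem hd) h1) hd
  set e := s⁻¹ * w' * s with hedef
  set u := s⁻¹ * u₁ * s with hudef
  have hsH : s ∈ H := le_normalizer hs
  have heH : e ∈ H := H.mul_mem (H.mul_mem (H.inv_mem hsH) hw'H) hsH
  have hue : u * e * u⁻¹ = e⁻¹ := by
    rw [hudef, hedef]
    calc s⁻¹ * u₁ * s * (s⁻¹ * w' * s) * (s⁻¹ * u₁ * s)⁻¹ = s⁻¹ * (u₁ * w' * u₁⁻¹) * s := by group
      _ = s⁻¹ * w'⁻¹ * s := by rw [hinv']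
      _ = (s⁻¹ * w' * s)⁻¹ := by group
  have heo : orderOf e = p := by
    rw [← hw'o, hedef]
    simpa using orderOf_injective (MulAut.conj s⁻¹).toMonoidHom (MulEquiv.injective _) w'
  have huo : orderOf u = 2 := by
    rw [← hu₁, hudef]
    simpa using orderOf_injective (MulAut.conj s⁻¹).toMonoidHom (MulEquiv.injective _) u₁
  have huD : u ∉ D := fun h => by
    have := orderOf_dvd_natCard (⟨u, h⟩ : D)
    rw [Subgroup.orderOf_mk, huo] at this
    exact (Nat.not_even_iff_odd.2 hD) (even_iff_two_dvd.2 this)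
  -- centralisers of e have odd order
  have hCe : ¬ 2 ∣ Nat.card (centralizer ({e} : Set G)) := by
    intro h2
    have hodd := H65.odd_numInv (G := centralizer ({e} : Set G)) (even_iff_two_dvd.2 h2)
    set C := centralizer ({e} : Set G) with hCdef
    have hconj : ∀ x : G, x ∈ C → u * x * u⁻¹ ∈ C := by
      intro x hx
      have h3 : x * e⁻¹ = e⁻¹ * x := (Commute.inv_right (mem_centralizer_singleton_iff.1 hx))
      rw [hCdef, mem_centralizer_singleton_iff]
      have hui : u⁻¹ = u := inv_eq_self_of_orderOf_two huo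
      have h5 : u * e = e⁻¹ * u := by rw [← hue]; group
      have h4 : e * u = u * e⁻¹ := by
        calc e * u = e * (u * e) * e⁻¹ := by group
          _ = e * (e⁻¹ * u) * e⁻¹ := by rw [h5]
          _ = u * e⁻¹ := by group
      calc u * x * u⁻¹ * e = u * (x * (u * e)) := by rw [hui]; group
        _ = u * (x * e⁻¹ * u) := by rw [h5]; group
        _ = u * (e⁻¹ * x * u) := by rw [h3]
        _ = (u * e⁻¹) * (x * u) := by group
        _ = e * (u * x * u⁻¹) := by rw [← h4, hui]; group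
    let J := {x : C // orderOf x = 2}
    let φ : J → J := fun x => ⟨⟨u * x.1.1 * u⁻¹, hconj _ x.1.2⟩, by
      rw [← Subgroup.orderOf_coe]
      have := orderOf_injective (MulAut.conj u).toMonoidHom (MulEquiv.injective _) x.1.1
      simp only [MulEquiv.coe_toMonoidHom, MulAut.conj_apply] at this
      rw [this, Subgroup.orderOf_coe, x.2]⟩
    have hφ : Function.Involutive φ := fun x => by
      apply Subtype.ext; apply Subtype.ext
      show u * (u * x.1.1 * u⁻¹) * u⁻¹ = x.1.1
      have hui : u⁻¹ = u := inv_eq_self_of_orderOf_two huo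
      have h3 : u * u = 1 := by rw [← pow_two, ← huo]; exact pow_orderOf_eq_one _
      rw [hui]
      calc u * (u * x.1.1 * u) * u = (u * u) * x.1.1 * (u * u) := by group
        _ = x.1.1 := by rw [h3]; simp
    obtain ⟨⟨⟨x, hxC⟩, hxo⟩, hx⟩ : ∃ x : J, φ x = x := by
      by_contra hno
      push_neg at hno
      haveI := Fintype.ofFinite J
      classical
      haveI : Fact (Nat.Prime 2) := ⟨Nat.prime_two⟩
      obtain ⟨x, hx⟩ := Equiv.Perm.exists_fixed_point_of_prime (p := 2) (n := 1)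
        (σ := hφ.toPerm φ) (α := J) (by
          rw [← Nat.card_eq_fintype_card]
          exact fun h => (Nat.not_even_iff_odd.2 hodd) (even_iff_two_dvd.2 h))
        (by ext x; simp [pow_two, hφ x])
      exact hno x hx
    rw [← Subgroup.orderOf_coe] at hxo
    have hux : u * x = x * u := mul_inv_eq_iff_eq_mul.1 (congrArg (fun y : J => y.1.1) hx)
    obtain ⟨P, hP⟩ := (IsPGroup.of_card (p := 2) (G := zpowers x) (n := 1)
      (by rw [Nat.card_zpowers, hxo, pow_one])).exists_le_sylow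
    have hCx := hC P x hxo (hP (mem_zpowers x))
    have huN : u ∈ normalizer ((P : Subgroup G) : Set G) := hCx (mem_centralizer_singleton_iff.2 hux)
    have heN : e ∈ normalizer ((P : Subgroup G) : Set G) :=
      hCx (mem_centralizer_singleton_iff.2 (mem_centralizer_singleton_iff.1 hxC).symm)
    have huP := mem_of_involution_normalizer P huo huN
    have h3 : e * u * e⁻¹ ∈ (P : Subgroup G) := (mem_normalizer_iff.1 heN u).1 huP
    have hui : u⁻¹ = u := inv_eq_self_of_orderOf_two huo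
    have h4 : e * e ∈ (P : Subgroup G) := by
      have : e * e = e * u * e⁻¹ * u := by
        calc e * e = e * (e⁻¹)⁻¹ := by group
          _ = e * (u * e * u⁻¹)⁻¹ := by rw [hue]
          _ = e * u * e⁻¹ * u⁻¹ := by group
          _ = e * u * e⁻¹ * u := by rw [hui]
      rw [this]; exact mul_mem h3 huP
    have h5 : orderOf (e * e) = p := by
      rw [← pow_two, Nat.Coprime.orderOf_pow (by rw [heo]; exact (Nat.coprime_primes hp Nat.prime_two).2 hpodd), heo]
    obtain ⟨j, hj⟩ := IsPGroup.iff_card.1 P.isPGroup'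
    have h6 := orderOf_dvd_natCard (⟨_, h4⟩ : (P : Subgroup G))
    rw [Subgroup.orderOf_mk, h5, hj] at h6
    exact hpodd ((Nat.prime_dvd_prime_iff_eq hp Nat.prime_two).1 (hp.dvd_of_dvd_pow h6))
  obtain ⟨d, hd, s₀, hs₀, hus⟩ := exists_mul_of_twoPowIndex hD hk S u
  have hx : s₀ * e * s₀⁻¹ ∈ D := by
    have : s₀ * e * s₀⁻¹ = d⁻¹ * e⁻¹ * d := by
      rw [← hue, hus]; group
    rw [this]
    exact D.mul_mem (D.mul_mem (D.inv_mem hd) (D.inv_mem hsD)) hd
  have hcommes : s₀ * e * s₀⁻¹ * e⁻¹ = 1 := by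
    refine inf_eq_bot_of_odd hD _ S.isPGroup' (D.mul_mem hx (D.inv_mem hsD)) ?_
    have h1 : e * s₀⁻¹ * e⁻¹ ∈ (S : Subgroup G) := (mem_normalizer_iff.1 heH _).1 (inv_mem hs₀)
    have h2 : s₀ * e * s₀⁻¹ * e⁻¹ = s₀ * (e * s₀⁻¹ * e⁻¹) := by group
    rw [h2]; exact mul_mem hs₀ h1
  have hs₀1 : s₀ = 1 := by
    by_contra h
    apply hCe
    have h1 : s₀ ∈ centralizer ({e} : Set G) := by
      rw [mem_centralizer_singleton_iff]
      rw [mul_inv_eq_one, mul_inv_eq_iff_eq_mul] at hcommes
      exact hcommes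
    obtain ⟨j, hj⟩ := IsPGroup.iff_card.1 S.isPGroup'
    have h2 := orderOf_dvd_natCard (⟨s₀, hs₀⟩ : (S : Subgroup G))
    rw [Subgroup.orderOf_mk, hj] at h2
    obtain ⟨i, -, hi⟩ := (Nat.dvd_prime_pow Nat.prime_two).1 h2
    have h3 := orderOf_dvd_natCard (⟨s₀, h1⟩ : centralizer ({e} : Set G))
    rw [Subgroup.orderOf_mk, hi] at h3
    rcases i with - | i
    · exact absurd (orderOf_eq_one_iff.1 (by rw [hi, pow_zero])) h
    · exact (dvd_pow_self 2 (Nat.succ_ne_zero i)).trans h3
  exact huD (by rw [hus, hs₀1, mul_one]; exact hd)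

/-- A finite group with abelian Sylow 2-subgroups and a subgroup of odd order and 2-power index
is solvable. -/
theorem isSolvable_of_odd_twoPowIndex (D : Subgroup G) (hD : Odd (Nat.card D))
    (hk : ∃ k, D.index = 2 ^ k) (hab : ∀ S : Sylow 2 G, IsMulCommutative (S : Subgroup G)) :
    Group.IsSolvable G :=
  isSolvable_of_odd_twoPowIndex_aux _ rfl D hD hk hab

end Cfsg.Agent.H29
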